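import Groth.Agent.Lib.DerComp.Push
import Mathlib.Algebra.Category.ModuleCat.Sheaf.ChangeOfRings

/-! # Derived completeness and restriction of scalars -/

set_option autoImplicit false
universe u

open CategoryTheory CategoryTheory.Limits Opposite

attribute [local instance] HasDerivedCategory.standard

namespace GrothLib.DerComp

variable {C : Type u} [SmallCategory C] {J : GrothendieckTopology C} {O O' : Sheaf J CommRingCat.{u}} (φ : O ⟶ O')

/-- A map of sheaves of rings as a morphism of ringed sites on one site. -/
noncomputable def scalarMor : ModSite.RMor O' O where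
  fn := 𝟭 C
  exact := preservesFiniteLimits_of_natIso
    (((𝟭 C).sheafAdjunctionContinuous (Type u) J J).leftAdjointIdIso (Functor.sheafPushforwardContinuousId (Type u) J)).symm
  sharp := φ

/-- Restriction of scalars along `φ`. -/
noncomputable abbrev resScalars : ModSite.Mod O' ⥤ ModSite.Mod O :=
  SheafOfModules.restrictScalars.{u} ((sheafCompose J (forget₂ CommRingCat.{u} RingCat.{u})).map φ)

/-- The direct image along `scalarMor φ` is restriction of scalars. -/
noncomputable def scalarPushIso : (scalarMor φ).push ≅ resScalars φ :=
  NatIso.ofComponents (fun M => (SheafOfModules.fullyFaithfulForget _).preimageIso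
    (PresheafOfModules.isoMk (fun _ => Iso.refl _)))

variable [PreservesFiniteLimits (resScalars φ)] [PreservesFiniteColimits (resScalars φ)]

/-- Derived direct image along `scalarMor φ` is restriction of scalars. -/
noncomputable def scalarResIso (K' : DerivedCategory (ModSite.Mod O')) :
    (SiteDer.Rres (scalarMor φ)).obj K' ≅ (resScalars φ).mapDerivedCategory.obj K' :=
  let I := (KInj.res (ModSite.Mod O')).obj K'
  DerivedCategory.Qh.mapIso ((HomotopyCategory.quotient _ _).mapIso
      (HomologicalComplex.Hom.isoOfComponents (fun n => (scalarPushIso φ).app (I.as.X n))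
        (fun i j _ => ((scalarPushIso φ).hom.naturality (I.as.d i j)).symm) :
        ((scalarMor φ).push.mapHomologicalComplex _).obj I.as ≅ ((resScalars φ).mapHomologicalComplex _).obj I.as)) ≪≫
    ((resScalars φ).mapDerivedCategoryFactorsh.app I).symm ≪≫
      (resScalars φ).mapDerivedCategory.mapIso ((asIso (KInj.resAdj (ModSite.Mod O')).counit).app K')

/-- Completeness of a restriction of scalars along a section. -/
theorem van_resScalars_iff (K' : DerivedCategory (ModSite.Mod O')) (U : C) (g : O.obj.obj (op U)) :
    Van ((resScalars φ).mapDerivedCategory.obj K') U g ↔ Van K' U ((φ.hom.app (op U)).hom g) := by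
  refine forall₃_congr fun V k n =>
    ((seqBij_iff_of_iso_right ((shiftFunctor _ n).mapIso (scalarResIso φ K'))).symm.trans
      (seqBij_Rres_iff (scalarMor φ) V _ n K')).trans (iff_of_eq ?_)
  have h : (φ.hom.app (op V)).hom ((O.obj.map k.op).hom g) = (O'.obj.map k.op).hom ((φ.hom.app (op U)).hom g) :=
    congrArg (fun t => t.hom g) (φ.hom.naturality k.op)
  exact congrArg (fun t => SeqBij ((inDF O').map ((freeRep O' V).mulEnd t)) (K'⟦n⟧)) h

/-- Completeness for the extended ideal is completeness of the restriction of scalars. -/
theorem isDerComp_iff_resScalars (I : _root_.DerComp.IdealSh O) (I' : _root_.DerComp.IdealSh O')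
    (hI' : _root_.DerComp.IsIdealExt φ I I') (K' : DerivedCategory (ModSite.Mod O')) :
    _root_.DerComp.IsDerComp O' I' K' ↔ _root_.DerComp.IsDerComp O I ((resScalars φ).mapDerivedCategory.obj K') := by
  rw [isDerComp_iff_le_vanIdeal, isDerComp_iff]
  exact ⟨fun h U g hg => (van_resScalars_iff φ K' U g).2 (h U (hI'.1 U g hg)),
    fun h => hI'.2 _ fun U g hg => (van_resScalars_iff φ K' U g).1 (h U g hg)⟩

end GrothLib.DerComp
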