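import Groth.Agent.Lib.KInj.Resolution
import Mathlib.Algebra.Homology.DerivedCategory.KInjective
import Mathlib.CategoryTheory.Adjunction.Comma

/-! # Reflection onto the right orthogonal of a small family in a derived category

For a small family of objects of the derived category of a Grothendieck abelian category, the
objects without nonzero maps from any shift of a member form a reflective subcategory.  The proof
is the small object argument: to the generating trivial cofibrations of the injective model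
structure one adds the inclusions of (shifts of) the members into their cones.
-/

universe w v u u'

open CategoryTheory CategoryTheory.Limits HomologicalComplex CochainComplex ZeroObject

namespace GrothLib.DerComp

variable {A : Type u} [Category.{v} A] [Abelian A] [IsGrothendieckAbelian.{v} A]

section Complexes

variable (G : A) {ι : Type v} (S : ι → CochainComplex A ℤ)

/-- The added generating cofibrations. -/
noncomputable abbrev conM (i : ι) : S i ⟶ mappingCone (𝟙 (S i)) := mappingCone.inr (𝟙 (S i))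

instance mono_conM (i : ι) : Mono (conM S i) :=
  HomologicalComplex.mono_of_mono_f _ fun k =>
    SplitMono.mono ⟨(mappingCone.snd (𝟙 (S i))).v k k (add_zero k), mappingCone.inr_f_snd_v _ _⟩

/-- The generating cofibrations of the localised structure. -/
abbrev genS : MorphismProperty (CochainComplex A ℤ) :=
  KInj.gen G ⊔ MorphismProperty.ofHoms (conM S)

lemma genS_le_monomorphisms : genS G S ≤ MorphismProperty.monomorphisms _ := by
  rintro _ _ f (hf | ⟨⟨i⟩⟩)
  · exact KInj.gen_le_monomorphisms G f hf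
  · exact mono_conM S i

instance : MorphismProperty.IsSmall.{v} (genS G S) := by
  have h₁ : MorphismProperty.IsSmall.{v} (KInj.gen G) := inferInstance
  have h₂ : MorphismProperty.IsSmall.{v} (MorphismProperty.ofHoms (conM S)) := inferInstance
  have := h₁.small_toSet
  have := h₂.small_toSet
  constructor
  have e : (genS G S).toSet = (KInj.gen G).toSet ∪ (MorphismProperty.ofHoms (conM S)).toSet := rfl
  rw [e]
  infer_instance

instance : MorphismProperty.HasSmallObjectArgument.{v} (genS G S) := by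
  obtain ⟨κ, hκ', hκ⟩ := HasCardinalLT.exists_regular_cardinal.{v}
    (((Σ i : ℤ × Shrink.{v} (Subobject G), Subobject (KInj.disc (Subobject.underlying.obj
      ((equivShrink (Subobject G)).symm i.2)) i.1)) ⊕ (Σ c : KInj.AIdx G, Subobject (KInj.cxObj G c.1))) ⊕
      (Σ i : ι, Subobject (S i)))
  have : Fact κ.IsRegular := ⟨hκ'⟩
  have : Nonempty κ.ord.ToType := by simpa using hκ'.ne_zero
  have := WellFoundedLT.toOrderBot κ.ord.ToType
  exact ⟨κ, inferInstance, inferInstance,
    { preservesColimit {X Y X' Y'} i hi f hf := by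
        let hf' : (MorphismProperty.monomorphisms _).TransfiniteCompositionOfShape κ.ord.ToType f :=
          { toTransfiniteCompositionOfShape := hf.toTransfiniteCompositionOfShape
            map_mem j hj := by
              have := (hf.attachCells j hj).pushouts_coproducts
              simp only [MorphismProperty.ofHoms_homFamily] at this
              refine (?_ : _ ≤ MorphismProperty.monomorphisms _) _ this
              simp only [MorphismProperty.pushouts_le_iff, MorphismProperty.coproducts_le_iff]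
              exact genS_le_monomorphisms G S }
        have (j j' : κ.ord.ToType) (φ : j ⟶ j') : Mono (hf'.F.map φ) := hf'.mem_map φ
        apply IsGrothendieckAbelian.preservesColimit_coyoneda_obj_of_mono (Y := hf'.F) (κ := κ)
        obtain (⟨⟨k⟩⟩ | ⟨⟨k⟩⟩) | ⟨⟨k⟩⟩ := hi
        · exact hκ.of_injective (fun s => Sum.inl (Sum.inl ⟨k, s⟩)) fun a b h => by simpa using h
        · exact hκ.of_injective (fun s => Sum.inl (Sum.inr ⟨k, s⟩)) fun a b h => by simpa using h
        · exact hκ.of_injective (fun s => Sum.inr ⟨k, s⟩) fun a b h => by simpa using h }⟩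

variable {G S}

lemma gen_rlp_of_genS {X Y : CochainComplex A ℤ} {p : X ⟶ Y} (h : (genS G S).rlp p) :
    (KInj.gen G).rlp p := fun _ _ f hf => h f (Or.inl hf)

/-- Fibrant objects receive only nullhomotopic maps from the family. -/
lemma nonempty_homotopy_of_rlp {I O : CochainComplex A ℤ} (hO : IsZero O) (p : I ⟶ O)
    (hp : (genS G S).rlp p) (i : ι) (g : S i ⟶ I) : Nonempty (Homotopy g 0) := by
  have hlp : HasLiftingProperty (conM S i) p :=
    hp _ (Or.inr (MorphismProperty.ofHoms.mk (f := conM S) i))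
  have sq : CommSq g (conM S i) p 0 := ⟨hO.eq_of_tgt _ _⟩
  have := hlp.sq_hasLift sq
  exact ⟨(Homotopy.ofEq (show g = conM S i ≫ 𝟙 _ ≫ sq.lift by simp)).trans
    ((((mappingCone.homotopyToZeroOfId (S i)).compRight sq.lift).compLeft _).trans
      (Homotopy.ofEq (by simp)))⟩

/-- Orthogonal K-injective complexes of injectives are fibrant. -/
lemma hasLift_to_zero {K O : CochainComplex A ℤ} (hO : IsZero O) (p : K ⟶ O)
    [∀ n, Injective (K.X n)] [K.IsKInjective]
    (hK : ∀ i (g : S i ⟶ K), Nonempty (Homotopy g 0)) : (genS G S).rlp p := by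
  rintro _ _ f (hf | ⟨⟨i⟩⟩)
  · exact KInj.hasLift_to_zero hO p f hf
  · refine ⟨fun {t b} sq => ?_⟩
    obtain ⟨h⟩ := hK i t
    obtain ⟨β, hβ⟩ := HomComplex.Cochain.equivHomotopy _ _ h
    exact ⟨⟨⟨mappingCone.desc (𝟙 (S i)) β t (by simpa using hβ.symm),
      mappingCone.inr_desc _ _ _ _, hO.eq_of_tgt _ _⟩⟩⟩

/-- Their path fibrations are fibrations. -/
lemma hasLift_pathFib {J : CochainComplex A ℤ} [∀ n, Injective (J.X n)] [J.IsKInjective]
    (hJ : ∀ i (g : (S i)⟦(1 : ℤ)⟧ ⟶ J⟦(1 : ℤ)⟧), Nonempty (Homotopy g 0)) :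
    (genS G S).rlp (KInj.pathFib J) := by
  rintro _ _ f (hf | ⟨⟨i⟩⟩)
  · exact KInj.hasLift_pathFib_gen f hf
  · exact KInj.hasLift_pathFib (conM S i) _ (mappingCone.triangleRotateShortComplex (𝟙 (S i))).zero
      (KInj.pathFib_shortExact (S i)).gIsCokernel (hJ i)

end Complexes

section Derived

variable [HasDerivedCategory.{w} A]

lemma nonempty_homotopy_zero_of_Q {K I : CochainComplex A ℤ} [I.IsKInjective] (φ : K ⟶ I)
    (h : DerivedCategory.Q.map φ = 0) : Nonempty (Homotopy φ 0) := by
  refine ⟨HomotopyCategory.homotopyOfEq _ _ ((CochainComplex.IsKInjective.Qh_map_bijective _ I).1 ?_)⟩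
  have key := fun u : K ⟶ I => (DerivedCategory.quotientCompQhIso A).hom.naturality u
  simp only [Functor.comp_map] at key
  rw [← cancel_mono ((DerivedCategory.quotientCompQhIso A).hom.app I)]
  exact (key φ).trans ((congrArg (_ ≫ ·) (h.trans (Functor.map_zero _ _ _).symm)).trans (key 0).symm)

/-- A chain map into a K-injective complex representing a map of the derived category. -/
lemma exists_Q_map_eq {K I : CochainComplex A ℤ} [I.IsKInjective]
    (g : DerivedCategory.Q.obj K ⟶ DerivedCategory.Q.obj I) : ∃ φ : K ⟶ I, DerivedCategory.Q.map φ = g := by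
  let e := DerivedCategory.quotientCompQhIso A
  obtain ⟨ψ, hψ⟩ := (CochainComplex.IsKInjective.Qh_map_bijective _ I).2 (e.hom.app K ≫ g ≫ e.inv.app I)
  obtain ⟨φ, rfl⟩ := (HomotopyCategory.quotient A (ComplexShape.up ℤ)).map_surjective ψ
  refine ⟨φ, ?_⟩
  have := e.hom.naturality φ
  simp only [Functor.comp_map] at this
  rw [hψ] at this
  simp only [Category.assoc, Iso.inv_hom_id_app] at this
  rw [cancel_epi] at this
  exact this.symm.trans (Category.comp_id g)

/-- Every object is isomorphic to a K-injective complex of injectives. -/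
lemma exists_kInjective_rep (M : DerivedCategory A) :
    ∃ I : CochainComplex A ℤ, I.IsKInjective ∧ (∀ n, Injective (I.X n)) ∧
      Nonempty (DerivedCategory.Q.obj I ≅ M) := by
  obtain ⟨I, i, hi, hI, hinj⟩ := KInj.exists_kInjective_resolution A (DerivedCategory.Q.objPreimage M)
  exact ⟨I, hI, hinj, ⟨(asIso (DerivedCategory.Q.map i)).symm ≪≫ DerivedCategory.Q.objObjPreimageIso M⟩⟩

variable {ι : Type v}

/-- No nonzero maps from the shifts of a family. -/
def perpObj (S : ι → DerivedCategory A) : ObjectProperty (DerivedCategory A) := fun L =>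
  ∀ (i : ι) (n : ℤ), Subsingleton (S i ⟶ L⟦n⟧)

omit [IsGrothendieckAbelian.{v} A] in
lemma perpObj.hom_shift {S : ι → DerivedCategory A} {L : DerivedCategory A} (h : perpObj S L) (i : ι) (n m : ℤ)
    (φ : (S i)⟦n⟧ ⟶ L⟦m⟧) : φ = 0 := by
  apply (CategoryTheory.shiftFunctor (DerivedCategory A) (-n)).map_injective
  rw [← cancel_epi ((shiftFunctorCompIsoId (DerivedCategory A) n (-n) (by omega)).inv.app (S i)),
    ← cancel_mono ((CategoryTheory.shiftFunctorAdd' (DerivedCategory A) m (-n) (m + -n) rfl).inv.app L)]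
  exact (h i (m + -n)).elim _ _

/-- **Bousfield reflection**: every object maps universally to an orthogonal one. -/
theorem exists_reflection (S : ι → DerivedCategory A) (K : DerivedCategory A) :
    ∃ (L : DerivedCategory A) (η : K ⟶ L), perpObj S L ∧
      ∀ M, perpObj S M → Function.Bijective (fun g : L ⟶ M => η ≫ g) := by
  let G := separator A
  have hG : IsSeparator G := isSeparator_separator A
  let P : ι → CochainComplex A ℤ := fun i => DerivedCategory.Q.objPreimage (S i)
  let eP : ∀ i, DerivedCategory.Q.obj (P i) ≅ S i := fun i => DerivedCategory.Q.objObjPreimageIso (S i)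
  let T : ι × ULift.{v} ℤ → CochainComplex A ℤ := fun p => (P p.1)⟦p.2.down⟧
  let eT : ∀ p, DerivedCategory.Q.obj (T p) ≅ (S p.1)⟦p.2.down⟧ := fun p =>
    (DerivedCategory.Q.commShiftIso p.2.down).app (P p.1) ≪≫ (CategoryTheory.shiftFunctor _ p.2.down).mapIso (eP p.1)
  obtain ⟨C, ⟨eC⟩⟩ : ∃ C : CochainComplex A ℤ, Nonempty (DerivedCategory.Q.obj C ≅ K) :=
    ⟨_, ⟨DerivedCategory.Q.objObjPreimageIso K⟩⟩
  let fac := MorphismProperty.factorizationData (genS G T).rlp.llp (genS G T).rlp
    (0 : C ⟶ (0 : CochainComplex A ℤ))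
  have hrlp := gen_rlp_of_genS fac.hp
  have := KInj.injective_of_rlp hG (isZero_zero _) fac.p hrlp
  have := KInj.isKInjective_of_rlp hG (isZero_zero _) fac.p hrlp
  refine ⟨DerivedCategory.Q.obj fac.Z, eC.inv ≫ DerivedCategory.Q.map fac.i, fun i n => ?_, fun M hM => ?_⟩
  · suffices hh : ∀ φ : S i ⟶ (DerivedCategory.Q.obj fac.Z)⟦n⟧, φ = 0 from
      ⟨fun a b => (hh a).trans (hh b).symm⟩
    intro φ
    apply (CategoryTheory.shiftFunctor (DerivedCategory A) (-n)).map_injective
    let w := (shiftFunctorCompIsoId (DerivedCategory A) n (-n) (by omega)).app (DerivedCategory.Q.obj fac.Z)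
    rw [Functor.map_zero, ← cancel_mono w.hom, zero_comp]
    obtain ⟨g, hg⟩ := exists_Q_map_eq ((eT (i, ⟨-n⟩)).hom ≫ φ⟦-n⟧' ≫ w.hom)
    obtain ⟨h⟩ := nonempty_homotopy_of_rlp (isZero_zero _) fac.p fac.hp (i, ⟨-n⟩) g
    rw [← cancel_epi (eT (i, ⟨-n⟩)).hom, comp_zero, ← hg, DerivedCategory.Q_map_eq_of_homotopy _ h,
      Functor.map_zero]
  · have hrep : ∀ J : CochainComplex A ℤ, J.IsKInjective → ∀ m : ℤ,
        (Nonempty (DerivedCategory.Q.obj J ≅ M⟦m⟧)) →
        ∀ p (g : T p ⟶ J), Nonempty (Homotopy g 0) := fun J _ m ⟨e⟩ p g => by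
      refine nonempty_homotopy_zero_of_Q g ?_
      rw [← cancel_mono e.hom, zero_comp, ← cancel_epi (eT p).inv, comp_zero]
      exact hM.hom_shift _ _ _ _
    refine ⟨(fun a b hab => ?_), fun b => ?_⟩
    · suffices hz : ∀ g : DerivedCategory.Q.obj fac.Z ⟶ M, DerivedCategory.Q.map fac.i ≫ g = 0 → g = 0 by
        refine sub_eq_zero.1 (hz _ ?_)
        rw [Preadditive.comp_sub, sub_eq_zero, ← cancel_epi eC.inv]
        simpa using hab
      intro g hg
      obtain ⟨J', hJ', hinj', ⟨eJ'⟩⟩ := exists_kInjective_rep (M⟦(-1 : ℤ)⟧)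
      let e1 : DerivedCategory.Q.obj (J'⟦(1 : ℤ)⟧) ≅ M :=
        (DerivedCategory.Q.commShiftIso (1 : ℤ)).app J' ≪≫ (CategoryTheory.shiftFunctor _ (1 : ℤ)).mapIso eJ' ≪≫
          (shiftFunctorCompIsoId _ (-1 : ℤ) 1 (by omega)).app M
      obtain ⟨γ, hγ⟩ := exists_Q_map_eq (g ≫ e1.inv)
      obtain ⟨H⟩ := nonempty_homotopy_zero_of_Q (fac.i ≫ γ) (by
        rw [Functor.map_comp, hγ, reassoc_of% hg, zero_comp])
      obtain ⟨l, hl⟩ := KInj.exists_lift_of_homotopy (fac.i ≫ γ) H
      have hsh : ∀ p (g : (T p)⟦(1 : ℤ)⟧ ⟶ J'⟦(1 : ℤ)⟧), Nonempty (Homotopy g 0) := fun p f => by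
        refine nonempty_homotopy_zero_of_Q f ?_
        rw [← cancel_mono e1.hom, zero_comp, ← cancel_epi
          ((DerivedCategory.Q.commShiftIso (1 : ℤ)).app (T p) ≪≫ (CategoryTheory.shiftFunctor _ (1 : ℤ)).mapIso (eT p) ≪≫
            ((CategoryTheory.shiftFunctorAdd' _ p.2.down 1 (p.2.down + 1) rfl).app (S p.1)).symm).inv, comp_zero,
          ← cancel_mono ((shiftFunctorZero _ ℤ).app M).inv, zero_comp]
        exact hM.hom_shift _ _ _ _
      have := fac.hi (KInj.pathFib J') (hasLift_pathFib hsh)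
      have sq : CommSq l fac.i (KInj.pathFib J') γ := ⟨hl⟩
      obtain ⟨H'⟩ := KInj.homotopy_of_lift sq.lift sq.fac_right
      have := DerivedCategory.Q_map_eq_of_homotopy _ H'
      rw [Functor.map_zero, hγ] at this
      rw [← cancel_mono e1.inv, this, zero_comp]
    · obtain ⟨J, hJ, hinj, ⟨eJ⟩⟩ := exists_kInjective_rep M
      obtain ⟨β, hβ⟩ := exists_Q_map_eq (eC.hom ≫ b ≫ eJ.inv)
      have := fac.hi (0 : J ⟶ 0) (hasLift_to_zero (isZero_zero _) _
        (hrep J hJ 0 ⟨eJ ≪≫ ((shiftFunctorZero _ ℤ).app M).symm⟩))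
      have sq : CommSq β fac.i (0 : J ⟶ 0) 0 := ⟨by simp⟩
      refine ⟨DerivedCategory.Q.map sq.lift ≫ eJ.hom, ?_⟩
      simp only [Category.assoc, ← Functor.map_comp_assoc, sq.fac_left, hβ]
      simp

/-- The orthogonal of a small family is reflective. -/
theorem isRightAdjoint_ι_perpObj (S : ι → DerivedCategory A) (P : ObjectProperty (DerivedCategory A))
    (hP : ∀ L, P L ↔ perpObj S L) : (ObjectProperty.ι P).IsRightAdjoint := by
  rw [isRightAdjoint_iff_hasInitial_structuredArrow]
  intro K
  obtain ⟨L, η, hL, hU⟩ := exists_reflection S K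
  let L' : P.FullSubcategory := ⟨L, (hP L).2 hL⟩
  have hU' : ∀ Y : P.FullSubcategory, Function.Bijective (fun ψ : L ⟶ Y.obj => η ≫ ψ) :=
    fun Y => hU Y.obj ((hP _).1 Y.property)
  refine Limits.IsInitial.hasInitial (X := StructuredArrow.mk (Y := L') η) ?_
  refine Limits.IsInitial.ofUniqueHom (fun Y => StructuredArrow.homMk
    (ObjectProperty.homMk ((hU' Y.right).2 Y.hom).choose) ((hU' Y.right).2 Y.hom).choose_spec) fun Y m => ?_
  refine StructuredArrow.ext _ _ ?_
  refine (ObjectProperty.ι P).map_injective ?_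
  exact (hU' Y.right).1 ((StructuredArrow.w m).trans ((hU' Y.right).2 Y.hom).choose_spec.symm)

end Derived

end GrothLib.DerComp
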