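import Groth.Prelude.Def_DerComp
import Groth.Agent.Lib.DerComp.Reflection
import Groth.Agent.Lib.KInj.SiteMod

/-! # Derived completion exists for every sheaf of ideals -/

universe u

open CategoryTheory CategoryTheory.Limits Opposite

attribute [local instance] HasDerivedCategory.standard

namespace GrothLib.DerComp

variable {C : Type u} [SmallCategory C] {J : GrothendieckTopology C} {O : Sheaf J CommRingCat.{u}}

/-- The family of objects defining derived completeness. -/
noncomputable def awayFamily (I : _root_.DerComp.IdealSh O) (p : Σ U : C, I.ideal U) :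
    DerivedCategory (ModSite.Mod O) :=
  SiteCmp.inD O ((ModSite.extZero O p.1).obj (_root_.DerComp.awayOver O p.1 p.2.1))

lemma isDerComp_iff_perpObj (I : _root_.DerComp.IdealSh O) (L : DerivedCategory (ModSite.Mod O)) :
    _root_.DerComp.IsDerComp O I L ↔ perpObj (awayFamily I) L :=
  ⟨fun h p n => h p.1 p.2.1 p.2.2 n, fun h U f hf n => h ⟨U, f, hf⟩ n⟩

/-- Derived completion exists (no finiteness needed: small object argument). -/
theorem hasDerCompletion (I : _root_.DerComp.IdealSh O) : _root_.DerComp.HasDerCompletion O I := by
  have : IsGrothendieckAbelian.{u} (ModSite.Mod O) := KInj.isGrothendieckAbelian_sheafOfModules _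
  exact isRightAdjoint_ι_perpObj (awayFamily I) _ (isDerComp_iff_perpObj I)

end GrothLib.DerComp
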