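import Groth.Agent.Lib.DerComp.LinTri

/-! # The universal object on which a scalar acts invertibly

For `φ = (π_n - s π_{n+1})_n` on `∏ K`, a fibre `L` of `φ` has `s` invertible and is universal among
such objects mapping to `K`.
-/

universe t v u

open CategoryTheory CategoryTheory.Limits Pretriangulated

namespace GrothLib.DerComp

variable {R : Type t} [CommRing R] {D : Type u} [Category.{v} D] [Preadditive D] [Linear R D]
  [HasZeroObject D] [HasShift D ℤ] [∀ n : ℤ, (shiftFunctor D n).Additive] [Pretriangulated D]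
  [∀ n : ℤ, (shiftFunctor D n).Linear R]

variable (s : R) (K : D) [HasProduct fun _ : ℕ => K]

/-- The map defining `T(K, s)`. -/
noncomputable abbrev towerMap : (∏ᶜ fun _ : ℕ => K) ⟶ ∏ᶜ fun _ : ℕ => K :=
  Pi.lift fun n => Pi.π (fun _ : ℕ => K) n - Pi.π (fun _ : ℕ => K) (n + 1) ≫ (s • 𝟙 K)

lemma comp_towerMap_π {X : D} (x : X ⟶ ∏ᶜ fun _ : ℕ => K) (n : ℕ) :
    x ≫ towerMap s K ≫ Pi.π (fun _ : ℕ => K) n =
      x ≫ Pi.π (fun _ : ℕ => K) n - s • (x ≫ Pi.π (fun _ : ℕ => K) (n + 1)) := by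
  simp [towerMap]

lemma smul_shift_eq_sub :
    s • (Pi.lift fun n => Pi.π (fun _ : ℕ => K) (n + 1)) = 𝟙 (∏ᶜ fun _ : ℕ => K) - towerMap s K :=
  Pi.hom_ext _ _ fun n => by simp [towerMap]

/-- A fibre of the tower map, as a cone after shifting. -/
lemma nonempty_shift_iso_coneOf {L : D} {a : L ⟶ ∏ᶜ fun _ : ℕ => K} {c : (∏ᶜ fun _ : ℕ => K) ⟶ L⟦(1 : ℤ)⟧}
    (hT : Triangle.mk a (towerMap s K) c ∈ distTriang D) : Nonempty (L⟦(1 : ℤ)⟧ ≅ coneOf (towerMap s K)) :=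
  nonempty_iso_coneOf _ (rot_of_distTriang _ hT)

variable {s K}

lemma isIso_smul_of_iso {X Y : D} (e : X ≅ Y) [IsIso (s • 𝟙 X)] : IsIso (s • 𝟙 Y) := by
  have : s • 𝟙 Y = e.inv ≫ (s • 𝟙 X) ≫ e.hom := by simp
  rw [this]
  infer_instance

/-- `s` is invertible on the fibre. -/
lemma isIso_smul_fiber {L : D} {a : L ⟶ ∏ᶜ fun _ : ℕ => K} {c : (∏ᶜ fun _ : ℕ => K) ⟶ L⟦(1 : ℤ)⟧}
    (hT : Triangle.mk a (towerMap s K) c ∈ distTriang D) : IsIso (s • 𝟙 L) := by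
  obtain ⟨e⟩ := nonempty_shift_iso_coneOf s K hT
  have := isIso_smul_cone_of_eq s _ (towerMap s K) (smul_shift_eq_sub s K)
  have := isIso_smul_of_iso (s := s) e.symm
  have := isIso_smul_shift (X := L⟦(1 : ℤ)⟧) s (-1)
  exact isIso_smul_of_iso (s := s) (X := (L⟦(1 : ℤ)⟧)⟦(-1 : ℤ)⟧)
    ((shiftFunctorCompIsoId D (1 : ℤ) (-1) (by omega)).app L)

lemma exists_seq_comp_eq {X : D} (hX : IsIso (s • 𝟙 X)) (y : X ⟶ ∏ᶜ fun _ : ℕ => K) (x₀ : X ⟶ K) :
    ∃ x : X ⟶ ∏ᶜ fun _ : ℕ => K, x ≫ Pi.π (fun _ : ℕ => K) 0 = x₀ ∧ x ≫ towerMap s K = y := by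
  let g := fun m : X ⟶ K => inv (s • 𝟙 X) ≫ m
  have hg : ∀ m, s • g m = m := fun m => by
    rw [show s • g m = (s • 𝟙 X) ≫ g m by rw [Linear.smul_comp, Category.id_comp]]
    exact IsIso.hom_inv_id_assoc _ _
  let x : ℕ → (X ⟶ K) := fun n => Nat.rec x₀ (fun k p => g (p - y ≫ Pi.π (fun _ : ℕ => K) k)) n
  refine ⟨Pi.lift x, by simp [x], Pi.hom_ext _ _ fun n => ?_⟩
  rw [Category.assoc, comp_towerMap_π, Pi.lift_π, Pi.lift_π, show x (n + 1) = g (x n - y ≫ Pi.π _ n) from rfl,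
    hg, sub_sub_cancel]

/-- The fibre is universal among objects with `s` invertible. -/
theorem bijective_fiber {L : D} {a : L ⟶ ∏ᶜ fun _ : ℕ => K} {c : (∏ᶜ fun _ : ℕ => K) ⟶ L⟦(1 : ℤ)⟧}
    (hT : Triangle.mk a (towerMap s K) c ∈ distTriang D) {X : D} (hX : IsIso (s • 𝟙 X)) :
    Function.Bijective (fun g : X ⟶ L => g ≫ a ≫ Pi.π (fun _ : ℕ => K) 0) := by
  have hker : ∀ x : X ⟶ ∏ᶜ fun _ : ℕ => K, x ≫ towerMap s K = 0 → x ≫ Pi.π (fun _ : ℕ => K) 0 = 0 → x = 0 := by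
    intro x hx h0
    refine Pi.hom_ext _ _ fun n => ?_
    rw [zero_comp]
    induction n with
    | zero => exact h0
    | succ n ih =>
      apply (bijective_smul_of_isIso (X := X) (Y := K) s).1
      have := congrArg (· ≫ Pi.π (fun _ : ℕ => K) n) hx
      simp only [Category.assoc, comp_towerMap_π, zero_comp, ih, zero_sub, neg_eq_zero] at this
      simpa using this
  refine ⟨fun g₁ g₂ h => sub_eq_zero.1 ?_, fun x₀ => ?_⟩
  · have h0 : (g₁ - g₂) ≫ a = 0 := hker _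
      (by rw [Category.assoc]; exact (congrArg (_ ≫ ·) (comp_distTriang_mor_zero₁₂ _ hT)).trans comp_zero)
      (by rw [Category.assoc, Preadditive.sub_comp, sub_eq_zero]; exact h)
    have := isIso_smul_shift (X := X) s (1 : ℤ)
    apply (shiftFunctor D (1 : ℤ)).map_injective
    obtain ⟨b, hb⟩ := Triangle.coyoneda_exact₁ _ hT ((g₁ - g₂)⟦(1 : ℤ)⟧')
      ((Functor.map_comp _ _ _).symm.trans ((congrArg (fun q => q⟦(1 : ℤ)⟧') h0).trans (Functor.map_zero _ _ _)))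
    obtain ⟨b', -, rfl⟩ := exists_seq_comp_eq (this : IsIso (s • 𝟙 (X⟦(1 : ℤ)⟧))) b 0
    exact hb.trans (((Category.assoc _ _ _).trans ((congrArg (b' ≫ ·) (comp_distTriang_mor_zero₂₃ _ hT)).trans
      comp_zero)).trans (Functor.map_zero _ _ _).symm)
  · obtain ⟨x, hx₀, hx⟩ := exists_seq_comp_eq hX 0 x₀
    obtain ⟨g, hg⟩ := Triangle.coyoneda_exact₂ _ hT x hx
    refine ⟨g, ?_⟩
    change g ≫ a ≫ _ = x₀
    rw [← Category.assoc, ← hx₀]
    exact congrArg (· ≫ _) hg.symm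

/-- Every universal object is a fibre of the tower map. -/
theorem exists_triangle_of_universal {L : D} (ε : L ⟶ K) (hL : IsIso (s • 𝟙 L))
    (h : ∀ X : D, IsIso (s • 𝟙 X) → Function.Bijective (fun g : X ⟶ L => g ≫ ε)) :
    ∃ (a : L ⟶ ∏ᶜ fun _ : ℕ => K) (c : (∏ᶜ fun _ : ℕ => K) ⟶ L⟦(1 : ℤ)⟧),
      Triangle.mk a (towerMap s K) c ∈ distTriang D := by
  obtain ⟨L', a, c, hT⟩ := distinguished_cocone_triangle₁ (towerMap s K)
  have hL' := isIso_smul_fiber hT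
  obtain ⟨g, hg⟩ := (bijective_fiber hT hL).2 ε
  obtain ⟨g', hg'⟩ := (h L' hL').2 (a ≫ Pi.π (fun _ : ℕ => K) 0)
  change g ≫ a ≫ _ = ε at hg
  change g' ≫ ε = _ at hg'
  let e : L ≅ L' :=
    { hom := g
      inv := g'
      hom_inv_id := (h L hL).1 (by
        change (g ≫ g') ≫ ε = 𝟙 L ≫ ε
        rw [Category.assoc, hg', hg, Category.id_comp])
      inv_hom_id := (bijective_fiber hT hL').1 (by
        change (g' ≫ g) ≫ a ≫ _ = 𝟙 L' ≫ a ≫ _
        rw [Category.assoc, hg, hg', Category.id_comp]) }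
  refine ⟨g ≫ a, c ≫ g'⟦(1 : ℤ)⟧', ?_⟩
  refine isomorphic_distinguished _ hT _ (Triangle.isoMk _ _ e (Iso.refl _) (Iso.refl _) ?_ ?_ ?_)
  · exact (Category.comp_id _)
  · exact (Category.comp_id _).trans (Category.id_comp _).symm
  · change (c ≫ g'⟦(1 : ℤ)⟧') ≫ g⟦(1 : ℤ)⟧' = 𝟙 _ ≫ c
    rw [Category.assoc, ← Functor.map_comp, e.inv_hom_id, CategoryTheory.Functor.map_id, Category.comp_id,
      Category.id_comp]

end GrothLib.DerComp
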