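import Mathlib.CategoryTheory.Triangulated.Functor
import Mathlib.CategoryTheory.Limits.Shapes.Products

/-! # Objects at which a triangulated functor has a left adjoint -/

set_option autoImplicit false
universe t v u v' u'

open CategoryTheory CategoryTheory.Limits Pretriangulated

namespace GrothLib.DerComp

variable {A : Type u} [Category.{v} A] {B : Type u'} [Category.{v'} B] (R : A ⥤ B)

/-- `θ` exhibits `X` as the value of a left adjoint of `R` at `E`. -/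
def IsVal {E : B} {X : A} (θ : E ⟶ R.obj X) : Prop :=
  ∀ M : A, Function.Bijective fun a : X ⟶ M => θ ≫ R.map a

/-- `R` has a left adjoint at `E`. -/
def HasVal (E : B) : Prop := ∃ (X : A) (θ : E ⟶ R.obj X), IsVal R θ

variable {R}

theorem HasVal.of_iso {E E' : B} (h : HasVal R E) (e : E ≅ E') : HasVal R E' := by
  obtain ⟨X, θ, h⟩ := h
  refine ⟨X, e.inv ≫ θ, fun M => ?_⟩
  have : (fun a : X ⟶ M => (e.inv ≫ θ) ≫ R.map a) = e.homFromEquiv ∘ fun a => θ ≫ R.map a :=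
    funext fun a => Category.assoc _ _ _
  rw [this]
  exact e.homFromEquiv.bijective.comp (h M)

theorem HasVal.coprod {ι : Type t} (E : ι → B) [HasCoproduct E] [HasColimitsOfShape (Discrete ι) A]
    (h : ∀ i, HasVal R (E i)) : HasVal R (∐ E) := by
  choose X θ hθ using h
  let θ' : ∐ E ⟶ R.obj (∐ X) := Sigma.desc fun i => θ i ≫ R.map (Sigma.ι X i)
  have key : ∀ {M : A} (a : ∐ X ⟶ M) i, Sigma.ι E i ≫ θ' ≫ R.map a = θ i ≫ R.map (Sigma.ι X i ≫ a) := fun a i => by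
    simp [θ']
  refine ⟨∐ X, θ', fun M => ⟨fun a b hab => Sigma.hom_ext _ _ fun i => (hθ i M).1 ?_, fun c => ?_⟩⟩
  · change θ i ≫ R.map _ = θ i ≫ R.map _
    rw [← key, ← key]
    exact congrArg _ hab
  · choose a ha using fun i => (hθ i M).2 (Sigma.ι E i ≫ c)
    refine ⟨Sigma.desc a, Sigma.hom_ext _ _ fun i => ?_⟩
    refine (key _ i).trans ?_
    rw [Sigma.ι_desc]
    exact ha i

variable [Preadditive A] [HasZeroObject A] [HasShift A ℤ] [∀ n : ℤ, (shiftFunctor A n).Additive] [Pretriangulated A]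
  [Preadditive B] [HasZeroObject B] [HasShift B ℤ] [∀ n : ℤ, (shiftFunctor B n).Additive] [Pretriangulated B]
  [R.CommShift ℤ]

omit [HasZeroObject A] [∀ n : ℤ, (shiftFunctor A n).Additive] [Pretriangulated A] [HasZeroObject B]
  [∀ n : ℤ, (shiftFunctor B n).Additive] [Pretriangulated B] in
theorem IsVal.shift [Preadditive A] [Preadditive B] {E : B} {X : A} {θ : E ⟶ R.obj X} (h : IsVal R θ) (n : ℤ) :
    IsVal R (θ⟦n⟧' ≫ (R.commShiftIso n).inv.app X) := by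
  intro M
  let η := fun {T : Type u} [Category.{v} T] [HasShift T ℤ] (Y : T) =>
    (shiftFunctorCompIsoId T (-n) n (neg_add_cancel n)).app Y
  let eM : (M⟦-n⟧)⟦n⟧ ≅ M := (shiftFunctorCompIsoId A (-n) n (neg_add_cancel n)).app M
  let eR : ((R.obj (M⟦-n⟧))⟦n⟧) ≅ R.obj M := ((R.commShiftIso n).app _).symm ≪≫ R.mapIso eM
  have he : ∀ b : X ⟶ M⟦-n⟧, (θ⟦n⟧' ≫ (R.commShiftIso n).inv.app X) ≫ R.map (b⟦n⟧' ≫ eM.hom) =
      (θ ≫ R.map b)⟦n⟧' ≫ eR.hom := fun b => by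
    have := (R.commShiftIso n).inv.naturality b
    simp only [Functor.comp_map] at this
    simp only [Functor.map_comp, eR, Iso.trans_hom, Iso.symm_hom, Iso.app_inv, Functor.mapIso_hom, Category.assoc]
    rw [reassoc_of% this]
  have hb1 : Function.Bijective fun b : X ⟶ M⟦-n⟧ => b⟦n⟧' ≫ eM.hom :=
    ((Functor.FullyFaithful.ofFullyFaithful (shiftFunctor A n)).homEquiv.trans eM.homToEquiv).bijective
  have hb2 : Function.Bijective fun b : E ⟶ R.obj (M⟦-n⟧) => b⟦n⟧' ≫ eR.hom :=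
    ((Functor.FullyFaithful.ofFullyFaithful (shiftFunctor B n)).homEquiv.trans eR.homToEquiv).bijective
  refine (Function.Bijective.of_comp_iff _ hb1).1 ?_
  have : (fun a => (θ⟦n⟧' ≫ (R.commShiftIso n).inv.app X) ≫ R.map a) ∘ (fun b : X ⟶ M⟦-n⟧ => b⟦n⟧' ≫ eM.hom) =
      (fun b : E ⟶ R.obj (M⟦-n⟧) => b⟦n⟧' ≫ eR.hom) ∘ fun b => θ ≫ R.map b := funext he
  rw [this]
  exact hb2.comp (h _)

theorem HasVal.cone [R.Additive] [R.IsTriangulated] (T : Triangle B) (hT : T ∈ distTriang B) (h₁ : HasVal R T.obj₁)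
    (h₂ : HasVal R T.obj₂) : HasVal R T.obj₃ := by
  obtain ⟨X₁, θ₁, h₁⟩ := h₁
  obtain ⟨X₂, θ₂, h₂⟩ := h₂
  obtain ⟨u, hu⟩ := (h₁ X₂).2 (T.mor₁ ≫ θ₂)
  change θ₁ ≫ R.map u = _ at hu
  obtain ⟨X₃, g, d, hX⟩ := distinguished_cocone_triangle u
  obtain ⟨θ₃, hg, hd⟩ : ∃ θ₃ : T.obj₃ ⟶ R.obj X₃, T.mor₂ ≫ θ₃ = θ₂ ≫ R.map g ∧
      T.mor₃ ≫ θ₁⟦(1 : ℤ)⟧' = θ₃ ≫ R.map d ≫ (R.commShiftIso (1 : ℤ)).hom.app X₁ :=
    complete_distinguished_triangle_morphism T (R.mapTriangle.obj (Triangle.mk u g d)) hT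
    (R.map_distinguished _ hX) θ₁ θ₂ hu.symm
  let τ₁ := θ₁⟦(1 : ℤ)⟧' ≫ (R.commShiftIso (1 : ℤ)).inv.app X₁
  let τ₂ := θ₂⟦(1 : ℤ)⟧' ≫ (R.commShiftIso (1 : ℤ)).inv.app X₂
  have hd' : T.mor₃ ≫ τ₁ = θ₃ ≫ R.map d := by
    simp only [τ₁, ← Category.assoc, hd]
    simp
  have hu' : T.mor₁⟦(1 : ℤ)⟧' ≫ τ₂ = τ₁ ≫ R.map (u⟦(1 : ℤ)⟧') := by
    have := (R.commShiftIso (1 : ℤ)).inv.naturality u
    simp only [Functor.comp_map] at this
    simp only [τ₁, τ₂]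
    rw [← Category.assoc, ← Functor.map_comp, ← hu, Functor.map_comp, Category.assoc, this, ← Category.assoc]
  refine ⟨X₃, θ₃, fun M => ⟨fun a a' haa => ?_, fun c => ?_⟩⟩
  · suffices ∀ a : X₃ ⟶ M, θ₃ ≫ R.map a = 0 → a = 0 from sub_eq_zero.1 (this _
      ((congrArg (θ₃ ≫ ·) (R.map_sub (f := a) (g := a'))).trans
        ((Preadditive.comp_sub _ _ _).trans (sub_eq_zero.2 haa))))
    intro a ha
    have hga : g ≫ a = 0 := (h₂ M).1 (by
      change θ₂ ≫ R.map (g ≫ a) = θ₂ ≫ R.map 0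
      rw [Functor.map_comp, ← Category.assoc, ← hg, Category.assoc, ha, comp_zero, Functor.map_zero, comp_zero])
    obtain ⟨b, hb⟩ : ∃ b : X₁⟦(1 : ℤ)⟧ ⟶ M, a = d ≫ b := Triangle.yoneda_exact₃ _ hX a hga
    have hb0 : T.mor₃ ≫ τ₁ ≫ R.map b = 0 := by
      rw [← Category.assoc, hd', Category.assoc, ← Functor.map_comp, ← hb, ha]
    obtain ⟨c, hc⟩ : ∃ c : T.obj₂⟦(1 : ℤ)⟧ ⟶ R.obj M, τ₁ ≫ R.map b = (-T.mor₁⟦(1 : ℤ)⟧') ≫ c :=
      Triangle.yoneda_exact₃ _ (rot_of_distTriang _ hT) (τ₁ ≫ R.map b) hb0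
    obtain ⟨b', hb'⟩ := ((h₂.shift (1 : ℤ)) M).2 (-c)
    change τ₂ ≫ R.map b' = -c at hb'
    have hbb : b = u⟦(1 : ℤ)⟧' ≫ b' := ((h₁.shift (1 : ℤ)) M).1 (by
      change τ₁ ≫ R.map b = τ₁ ≫ R.map _
      refine hc.trans (Eq.trans ?_ ((congrArg (· ≫ R.map b') hu').trans
        ((Category.assoc _ _ _).trans (congrArg (τ₁ ≫ ·) (R.map_comp _ b').symm))))
      refine Eq.trans ?_ ((Category.assoc _ _ _).trans (congrArg (T.mor₁⟦(1 : ℤ)⟧' ≫ ·) hb')).symm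
      rw [Preadditive.neg_comp, Preadditive.comp_neg])
    rw [hb, hbb, ← Category.assoc]
    exact (congrArg (· ≫ b') (comp_distTriang_mor_zero₃₁ _ hX)).trans zero_comp
  · obtain ⟨a₂, ha₂⟩ := (h₂ M).2 (T.mor₂ ≫ c)
    change θ₂ ≫ R.map a₂ = _ at ha₂
    have hua : u ≫ a₂ = 0 := (h₁ M).1 (by
      change θ₁ ≫ R.map (u ≫ a₂) = θ₁ ≫ R.map 0
      rw [Functor.map_comp, ← Category.assoc, hu, Category.assoc, ha₂, ← Category.assoc,
        comp_distTriang_mor_zero₁₂ _ hT, zero_comp, Functor.map_zero, comp_zero])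
    obtain ⟨a, ha⟩ : ∃ a : X₃ ⟶ M, a₂ = g ≫ a := Triangle.yoneda_exact₂ _ hX a₂ hua
    have h0 : T.mor₂ ≫ (c - θ₃ ≫ R.map a) = 0 := by
      rw [Preadditive.comp_sub, sub_eq_zero, ← ha₂, ha, Functor.map_comp, ← Category.assoc T.mor₂, hg, Category.assoc]
    obtain ⟨c₁, hc₁⟩ : ∃ c₁ : T.obj₁⟦(1 : ℤ)⟧ ⟶ R.obj M, c - θ₃ ≫ R.map a = T.mor₃ ≫ c₁ :=
      Triangle.yoneda_exact₃ _ hT _ h0
    obtain ⟨b, hb⟩ := ((h₁.shift (1 : ℤ)) M).2 c₁
    change τ₁ ≫ R.map b = c₁ at hb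
    refine ⟨a + d ≫ b, ?_⟩
    change θ₃ ≫ R.map (a + d ≫ b) = c
    rw [Functor.map_add, Preadditive.comp_add, Functor.map_comp, ← Category.assoc, ← hd', Category.assoc, hb, ← hc₁]
    abel

end GrothLib.DerComp
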