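import Groth.Agent.Lib.DerComp.EigKos
import Groth.Agent.Lib.DerComp.Completion
import Groth.Agent.Lib.KInj.Adjoint
import Groth.Agent.S11131

/-! # A local criterion for the left orthogonal of complete objects -/

set_option autoImplicit false
universe u

open CategoryTheory CategoryTheory.Limits Opposite Pretriangulated

attribute [local instance] HasDerivedCategory.standard

namespace GrothLib.DerComp

variable {C : Type u} [SmallCategory C] {J : GrothendieckTopology C} {O : Sheaf J CommRingCat.{u}}

variable (O) in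
/-- Restriction to a slice has a right adjoint. -/
theorem isLeftAdjoint_restr (V : C) : (ModSite.restr O V).IsLeftAdjoint :=
  Groth.Agent.S11131.result (J.over V) J (Over.forget V) (GrothendieckTopology.over_forget_coverPreserving J V)
    (S := (ModSite.ringSh O).over V) (R := ModSite.ringSh O) (𝟙 _)

variable (O) in
/-- Restriction to a slice has a right adjoint on derived categories. -/
theorem isLeftAdjoint_rD (V : C) : (rD O V).IsLeftAdjoint := by
  have := isLeftAdjoint_restr O V
  have := (Adjunction.ofIsLeftAdjoint (ModSite.restr O V)).right_adjoint_additive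
  have : IsGrothendieckAbelian.{u} (ModSite.Mod O) := KInj.isGrothendieckAbelian_sheafOfModules _
  have : IsGrothendieckAbelian.{u} (ModSite.Mod (O.over V)) := KInj.isGrothendieckAbelian_sheafOfModules _
  exact (KInj.derivedAdj (Adjunction.ofIsLeftAdjoint (ModSite.restr O V))).isLeftAdjoint

variable (I : _root_.DerComp.IdealSh O)

/-- No maps to derived complete objects. -/
def LOrth (F : DerivedCategory (ModSite.Mod O)) : Prop :=
  ∀ L, _root_.DerComp.IsDerComp O I L → Subsingleton (F ⟶ L)

variable {I}

variable (I) in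
/-- Locally finitely spanned. -/
def LocFT : Prop :=
  ∀ V : C, SiteDer.Locally J V fun W _ => ∃ (r : ℕ) (a : Fin r → O.obj.obj (op W)), LocSpan I W a

lemma isDerComp_shift {L : DerivedCategory (ModSite.Mod O)} (h : _root_.DerComp.IsDerComp O I L) (n : ℤ) :
    _root_.DerComp.IsDerComp O I (L⟦n⟧) := fun U f hf m =>
  haveI := h U f hf (n + m)
  (((shiftFunctorAdd (DerivedCategory (ModSite.Mod O)) n m).app L).homToEquiv
    (Z := SiteCmp.inD O ((ModSite.extZero O U).obj (_root_.DerComp.awayOver O U f)))).symm.subsingleton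

lemma LOrth.subsingleton_shift {F : DerivedCategory (ModSite.Mod O)} (h : LOrth I F)
    {L : DerivedCategory (ModSite.Mod O)} (hL : _root_.DerComp.IsDerComp O I L) (n : ℤ) :
    Subsingleton (F ⟶ L⟦n⟧) := h _ (isDerComp_shift hL n)

lemma LOrth.of_iso {F F' : DerivedCategory (ModSite.Mod O)} (h : LOrth I F) (e : F ≅ F') : LOrth I F' :=
  fun L hL => haveI := h L hL; (e.homFromEquiv (Z := L)).symm.subsingleton

lemma LOrth.shift {F : DerivedCategory (ModSite.Mod O)} (h : LOrth I F) (n : ℤ) : LOrth I (F⟦n⟧) := fun L hL => by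
  have := h _ (isDerComp_shift hL (-n))
  have e := ((shiftEquiv (DerivedCategory (ModSite.Mod O)) n).toAdjunction.homEquiv F L)
  exact @Equiv.subsingleton _ _ e this

lemma LOrth.of_triangle {T : Triangle (DerivedCategory (ModSite.Mod O))} (hT : T ∈ distTriang _)
    (h₁ : LOrth I T.obj₁) (h₃ : LOrth I T.obj₃) : LOrth I T.obj₂ := fun L hL => by
  suffices ∀ φ : T.obj₂ ⟶ L, φ = 0 from ⟨fun x y => (this x).trans (this y).symm⟩
  intro φ
  obtain ⟨g, rfl⟩ := T.yoneda_exact₂ hT φ ((h₁ L hL).elim _ _)
  rw [(h₃ L hL).elim g 0, comp_zero]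

/-- Restrictions of derived complete objects are derived complete along the spanning sections. -/
lemma cplAll_rD {K : DerivedCategory (ModSite.Mod O)} (hK : _root_.DerComp.IsDerComp O I K) {V : C} {r : ℕ}
    {a : Fin r → O.obj.obj (op V)} (ha : LocSpan I V a) : CplAll (sectList a) ((rD O V).obj K) := by
  intro s hs
  obtain ⟨i, rfl⟩ := mem_sectList.1 hs
  exact (sCpl_iff_van K V (a i)).2 ((isDerComp_iff I K).1 hK V (a i) (ha.1 i))

/-- The right adjoint of restriction gives derived complete objects. -/
lemma isDerComp_rightAdjoint {V : C} [(rD O V).IsLeftAdjoint] {L : DerivedCategory (ModSite.Mod (O.over V))}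
    (h : ∀ (U : C) (f : O.obj.obj (op U)), f ∈ I.ideal U → ∀ n : ℤ, Subsingleton ((rD O V).obj
      (SiteCmp.inD O ((ModSite.extZero O U).obj (_root_.DerComp.awayOver O U f))) ⟶ L⟦n⟧)) :
    _root_.DerComp.IsDerComp O I ((rD O V).rightAdjoint.obj L) := fun U f hf n => by
  let adj := Adjunction.ofIsLeftAdjoint (rD O V)
  let X := SiteCmp.inD O ((ModSite.extZero O U).obj (_root_.DerComp.awayOver O U f))
  have h0 := h U f hf n
  have h1 : Subsingleton (((rD O V).obj X)⟦-n⟧ ⟶ L) :=
    @Equiv.subsingleton _ _ ((shiftEquiv' (DerivedCategory (ModSite.Mod (O.over V))) (-n) n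
      (neg_add_cancel n)).toAdjunction.homEquiv ((rD O V).obj X) L) h0
  have h2 : Subsingleton (X⟦-n⟧ ⟶ (rD O V).rightAdjoint.obj L) :=
    @Equiv.subsingleton _ _
      ((adj.homEquiv (X⟦-n⟧) L).symm.trans (((rD O V).commShiftIso (-n)).app X).homFromEquiv) h1
  exact @Equiv.subsingleton _ _ ((shiftEquiv' (DerivedCategory (ModSite.Mod O)) (-n) n
    (neg_add_cancel n)).toAdjunction.homEquiv X ((rD O V).rightAdjoint.obj L)).symm h2

/-- **The criterion, easy direction**: on spanned slices the Koszul object of the restriction vanishes. -/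
theorem LOrth.isZero_kos {F : DerivedCategory (ModSite.Mod O)} (hF : LOrth I F) {V : C} {r : ℕ}
    {a : Fin r → O.obj.obj (op V)} (ha : LocSpan I V a) : IsZero (kos (sectList a) ((rD O V).obj F)) := by
  refine (isZero_kos_iff_left _ _).2 fun L hL => ?_
  have := isLeftAdjoint_rD O V
  let adj := Adjunction.ofIsLeftAdjoint (rD O V)
  have : _root_.DerComp.IsDerComp O I ((rD O V).rightAdjoint.obj L) :=
    isDerComp_rightAdjoint fun U f hf n => (isZero_kos_iff_left _ _).1 (isZero_kos_generator f hf ha) _ (hL.shift n)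
  have := hF _ this
  exact (adj.homEquiv F L).subsingleton

/-- The completion map has a cone without maps to derived complete objects. -/
theorem exists_completion (I : _root_.DerComp.IdealSh O) (F : DerivedCategory (ModSite.Mod O)) :
    ∃ (L Q : DerivedCategory (ModSite.Mod O)) (η : F ⟶ L) (g : L ⟶ Q) (d : Q ⟶ F⟦(1 : ℤ)⟧),
      Triangle.mk η g d ∈ distTriang _ ∧ _root_.DerComp.IsDerComp O I L ∧ LOrth I Q := by
  have : IsGrothendieckAbelian.{u} (ModSite.Mod O) := KInj.isGrothendieckAbelian_sheafOfModules _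
  obtain ⟨L, η, hL, hU⟩ := exists_reflection (awayFamily I) F
  obtain ⟨Q, g, d, hT⟩ := distinguished_cocone_triangle η
  refine ⟨L, Q, η, g, d, hT, (isDerComp_iff_perpObj I L).2 hL, fun M hM => ?_⟩
  have h := (DCpl.subsingleton_iff_precomp_bijective _ hT M).2
    (fun n => hU _ ((isDerComp_iff_perpObj I _).1 (isDerComp_shift hM n))) 0
  exact @Equiv.subsingleton _ _ (((shiftFunctorZero (DerivedCategory (ModSite.Mod O)) ℤ).app M).homToEquiv (Z := Q)).symm h

/-- **The criterion**: for a finite type ideal the vanishing of all these Koszul objects suffices. -/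
theorem lOrth_of_isZero_kos (hI : LocFT I) {F : DerivedCategory (ModSite.Mod O)}
    (h : ∀ (V : C) (r : ℕ) (a : Fin r → O.obj.obj (op V)), LocSpan I V a →
      IsZero (kos (sectList a) ((rD O V).obj F))) : LOrth I F := by
  obtain ⟨L, Q, η, g, d, hT, hL, hQ⟩ := exists_completion I F
  have hzero : ∀ (V : C) (r : ℕ) (a : Fin r → O.obj.obj (op V)), LocSpan I V a → IsZero ((rD O V).obj L) := by
    intro V r a ha
    have hc := cplAll_rD hL ha
    have hF := (isZero_kos_iff_left _ _).1 (h V r a ha) _ hc
    have hQ' := (isZero_kos_iff_left _ _).1 (hQ.isZero_kos ha) _ hc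
    rw [IsZero.iff_id_eq_zero]
    obtain ⟨q, hq⟩ := ((rD O V).mapTriangle.obj (Triangle.mk η g d)).yoneda_exact₂
      ((rD O V).map_distinguished _ hT) (𝟙 _) (hF.elim _ _)
    exact hq.trans ((congrArg _ (hQ'.elim q 0)).trans comp_zero)
  have hL0 : IsZero L := isZero_of_freeMod_locally fun V k φ =>
    (hI V).mono fun W u ⟨r, a, ha⟩ => by
      let adj := derAdj O W
      let e : (eD O W).obj (((inDF (O.over W)).obj (ModSite.unit (O.over W)))⟦-k⟧) ≅
          (DerivedCategory.singleFunctor (ModSite.Mod O) k).obj ((SiteDer.freeMod O).obj W) :=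
        ((eD O W).commShiftIso (-k)).app _ ≪≫ (shiftFunctor _ (-k)).mapIso
          (((ModSite.extZero O W).mapDerivedCategorySingleFunctor 0).app _) ≪≫
          ((DerivedCategory.singleFunctors (ModSite.Mod O)).shiftIso (-k) k 0 (by omega)).app _ ≪≫
          (DerivedCategory.singleFunctor (ModSite.Mod O) k).mapIso ((freeRep O W).iso (freeModRep O W))
      refine (cancel_epi e.hom).1 (Eq.trans ?_ comp_zero.symm)
      exact (adj.homEquiv _ _).injective ((hzero W r a ha).eq_of_tgt _ _)
  intro M hM
  have hQF : LOrth I F := by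
    have hT' := inv_rot_of_distTriang _ hT
    refine (LOrth.of_triangle hT' (hQ.shift _) ?_)
    exact fun N _ => ⟨hL0.eq_of_src⟩
  exact hQF M hM

/-- Modules with an automorphism acting through the ideal have no maps to derived complete objects. -/
theorem lOrth_inDF (hI : LocFT I) {X : ModSite.Mod O} {ε : X ⟶ X} [IsIso ε] (h : IsEig I X ε) :
    LOrth I ((inDF O).obj X) := by
  refine lOrth_of_isZero_kos hI fun V r a ha => ?_
  have h0 := (isEigD_inDF (h.over V)).isZero_kos (sectList a) fun W g hg =>
    (locally_over W (ha.2 W.left W.hom g hg)).mono fun T k hk => by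
      refine Ideal.span_mono ?_ hk
      rintro _ ⟨i, rfl⟩
      refine ⟨_, mem_sectList.2 ⟨i, rfl⟩, ?_⟩
      change (O.obj.map T.hom.op).hom (a i) = _
      rw [← Over.w k]
  refine (isZero_kos_iff_left _ _).2 fun L hL => ?_
  have := (isZero_kos_iff_left _ _).1 h0 L hL
  exact @Equiv.subsingleton _ _ ((((ModSite.restr O V).mapDerivedCategorySingleFunctor 0).app X).homFromEquiv) this

theorem locFT_of_isFiniteType (hI : I.IsFiniteType) : LocFT I := locally_locSpan hI

theorem LocFT.over (hI : LocFT I) (U : C) : LocFT (I.over U) := locally_locSpan_over hI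

/-- Restriction preserves the left orthogonal of complete objects, for finite type ideals. -/
theorem LOrth.restrict (hI : LocFT I) {F : DerivedCategory (ModSite.Mod O)} (hF : LOrth I F) (U : C) :
    LOrth (I.over U) ((rD O U).obj F) := fun L hL => by
  have := isLeftAdjoint_rD O U
  have hR : _root_.DerComp.IsDerComp O I ((rD O U).rightAdjoint.obj L) := isDerComp_rightAdjoint fun T f hf n => by
    have := isIso_smulEnd_locAway (_root_.DerComp.GSec.ofSect O T f) (ModSite.unit (O.over T))
    have h0 := lOrth_inDF (hI.over U) ((isEig_extZero (I := I) (_root_.DerComp.awayOver O T f) f hf).over U)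
    exact (h0.of_iso (((ModSite.restr O U).mapDerivedCategorySingleFunctor 0).app
      ((ModSite.extZero O T).obj (_root_.DerComp.awayOver O T f))).symm).subsingleton_shift hL n
  have := hF _ hR
  exact @Equiv.subsingleton _ _ ((Adjunction.ofIsLeftAdjoint (rD O U)).homEquiv F L) this

/-- The cone of the completion map has no maps to derived complete objects. -/
theorem exists_cone_toDerCompletion [_root_.DerComp.HasDerCompletion O I] (F : DerivedCategory (ModSite.Mod O)) :
    ∃ (Q : DerivedCategory (ModSite.Mod O)) (g : ((_root_.DerComp.derCompletion O I).obj F).obj ⟶ Q)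
      (d : Q ⟶ F⟦(1 : ℤ)⟧), Triangle.mk (_root_.DerComp.toDerCompletion I F) g d ∈ distTriang _ ∧ LOrth I Q := by
  obtain ⟨Q, g, d, hT⟩ := distinguished_cocone_triangle (_root_.DerComp.toDerCompletion I F)
  refine ⟨Q, g, d, hT, fun M hM => ?_⟩
  have h := (DCpl.subsingleton_iff_precomp_bijective _ hT M).2 (fun n => by
    let M' : _root_.DerComp.DComp O I := ⟨M⟦n⟧, isDerComp_shift hM n⟩
    have e : (fun ψ : ((_root_.DerComp.derCompletion O I).obj F).obj ⟶ M'.obj =>
        _root_.DerComp.toDerCompletion I F ≫ ψ) =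
          ((_root_.DerComp.derCompletionAdj O I).homEquiv F M') ∘ (_root_.DerComp.IsDerComp O I).fullyFaithfulι.preimage :=
      funext fun ψ => ((_root_.DerComp.derCompletionAdj O I).homEquiv_unit F M' _).symm
    change Function.Bijective fun ψ : ((_root_.DerComp.derCompletion O I).obj F).obj ⟶ M'.obj =>
      _root_.DerComp.toDerCompletion I F ≫ ψ
    rw [e]
    exact ((_root_.DerComp.derCompletionAdj O I).homEquiv F M').bijective.comp
      (_root_.DerComp.IsDerComp O I).fullyFaithfulι.homEquiv.symm.bijective) 0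
  exact @Equiv.subsingleton _ _ (((shiftFunctorZero (DerivedCategory (ModSite.Mod O)) ℤ).app M).homToEquiv
    (Z := Q)).symm h

/-- A map into a derived complete object with orthogonal cone induces an isomorphism on completions. -/
theorem isIso_completion_map [_root_.DerComp.HasDerCompletion O I] {X Y Q : DerivedCategory (ModSite.Mod O)}
    (hY : _root_.DerComp.IsDerComp O I Y) {φ : X ⟶ Y} {g : Y ⟶ Q} {d : Q ⟶ X⟦(1 : ℤ)⟧}
    (hT : Triangle.mk φ g d ∈ distTriang _) (hQ : LOrth I Q) :
    IsIso (((_root_.DerComp.derCompletionAdj O I).homEquiv X ⟨Y, hY⟩).symm φ) := by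
  let adj := _root_.DerComp.derCompletionAdj O I
  have hb : ∀ (M : _root_.DerComp.DComp O I), Function.Bijective fun ψ : Y ⟶ M.obj => φ ≫ ψ := fun M => by
    have h := (DCpl.subsingleton_iff_precomp_bijective _ hT M.obj).1
      (fun n => hQ.subsingleton_shift M.property n) 0
    let e := (shiftFunctorZero (DerivedCategory (ModSite.Mod O)) ℤ).app M.obj
    refine ⟨fun a b hab => (cancel_mono e.inv).1 (h.1 ?_), fun b => ?_⟩
    · change φ ≫ a ≫ e.inv = φ ≫ b ≫ e.inv
      rw [← Category.assoc, ← Category.assoc]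
      exact congrArg (· ≫ e.inv) hab
    · obtain ⟨c, hc⟩ := h.2 (b ≫ e.inv)
      refine ⟨c ≫ e.hom, ?_⟩
      change φ ≫ c = b ≫ e.inv at hc
      change φ ≫ c ≫ e.hom = b
      rw [← Category.assoc, hc, Category.assoc, Iso.inv_hom_id, Category.comp_id]
  refine (isIso_iff_isIso_coyoneda_map _).2 fun M => ?_
  rw [isIso_iff_bijective]
  have e : (fun ψ : (⟨Y, hY⟩ : _root_.DerComp.DComp O I) ⟶ M => (adj.homEquiv X ⟨Y, hY⟩).symm φ ≫ ψ) =
      (adj.homEquiv X M).symm ∘ (fun ψ : Y ⟶ M.obj => φ ≫ ψ) ∘ (fun ψ => ψ.hom) := funext fun ψ =>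
    (adj.homEquiv_naturality_right_symm φ ψ).symm
  change Function.Bijective fun ψ : (⟨Y, hY⟩ : _root_.DerComp.DComp O I) ⟶ M => (adj.homEquiv X ⟨Y, hY⟩).symm φ ≫ ψ
  rw [e]
  exact (adj.homEquiv X M).symm.bijective.comp ((hb M).comp ((_root_.DerComp.IsDerComp O I).fullyFaithfulι.homEquiv.bijective))

end GrothLib.DerComp
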