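import Groth.Agent.Lib.DerComp.LinTri

/-! # Koszul objects and orthogonality to complete objects -/

universe t v u v' u'

open CategoryTheory CategoryTheory.Limits Pretriangulated

namespace GrothLib.DerComp

variable {R : Type t} [CommRing R] {D : Type u} [Category.{v} D] [Preadditive D] [Linear R D]
  [HasZeroObject D] [HasShift D ℤ] [∀ n : ℤ, (shiftFunctor D n).Additive] [Pretriangulated D]

/-- Some power of every scalar of the list kills `Z`. -/
def Nil (l : List R) (Z : D) : Prop := ∀ s ∈ l, ∃ k : ℕ, s ^ k • 𝟙 Z = 0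

/-- Complete for every scalar of the list. -/
def CplAll (l : List R) (L : D) : Prop := ∀ s ∈ l, SCpl s L

/-- The Koszul object. -/
noncomputable def kos : List R → D → D
  | [], Y => Y
  | s :: l, Y => coneOf (s • 𝟙 (kos l Y))

lemma Nil.zero_of_mem {l : List R} {Z : D} (h : Nil l Z) {s : R} (hs : s ∈ l) : ∃ k : ℕ, s ^ k • 𝟙 Z = 0 := h s hs

lemma smul_eq_zero_of_id {s : R} {X Y : D} (h : s • 𝟙 X = 0) (φ : X ⟶ Y) : s • φ = 0 := by
  rw [show s • φ = (s • 𝟙 X) ≫ φ by rw [Linear.smul_comp, Category.id_comp], h, zero_comp]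

lemma smul_eq_zero_of_id' {s : R} {X Y : D} (h : s • 𝟙 Y = 0) (φ : X ⟶ Y) : s • φ = 0 := by
  rw [show s • φ = φ ≫ (s • 𝟙 Y) by rw [Linear.comp_smul, Category.comp_id], h, comp_zero]

/-- Nilpotent objects are complete. -/
lemma sCpl_of_pow_smul_eq_zero {s : R} {Z : D} {k : ℕ} (h : s ^ k • 𝟙 Z = 0) : SCpl s Z := by
  intro X hX φ
  have := subsingleton_hom_of_bijective_of_nilpotent (M := X ⟶ Z) s (bijective_smul_of_isIso s).1
    (k := k) fun x => smul_eq_zero_of_id' h x
  exact Subsingleton.elim _ _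

lemma Nil.cplAll {l : List R} {Z : D} (h : Nil l Z) : CplAll l Z :=
  fun s hs => sCpl_of_pow_smul_eq_zero (h s hs).choose_spec

section

variable [∀ n : ℤ, (shiftFunctor D n).Linear R]

/-- A scalar killing two vertices of a triangle kills the third after squaring. -/
lemma smul_sq_eq_zero_of_triangle (T : Triangle D) (hT : T ∈ distTriang D) {s : R}
    (h₁ : s • 𝟙 T.obj₁ = 0) (h₂ : s • 𝟙 T.obj₂ = 0) : (s * s) • 𝟙 T.obj₃ = 0 := by
  have e₁ : T.mor₂ ≫ (s • 𝟙 T.obj₃) = 0 := by rw [← smul_id_comp, h₂, zero_comp]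
  have e₂ : (s • 𝟙 T.obj₃) ≫ T.mor₃ = 0 := by
    rw [smul_id_comp, ← map_shift_smul_id, h₁, Functor.map_zero, comp_zero]
  have := comp_self_eq_zero_of_triangle T hT _ e₁ e₂
  rwa [Linear.smul_comp, Category.id_comp, smul_smul] at this

lemma Nil.shift {l : List R} {Z : D} (h : Nil l Z) (n : ℤ) : Nil l (Z⟦n⟧) := fun s hs => by
  obtain ⟨k, hk⟩ := h s hs
  exact ⟨k, by rw [← map_shift_smul_id, hk, Functor.map_zero]⟩

lemma CplAll.shift {l : List R} {L : D} (h : CplAll l L) (n : ℤ) : CplAll l (L⟦n⟧) :=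
  fun s hs => (h s hs).shift n

lemma nil_kos (l : List R) (Y : D) : Nil l (kos l Y) := by
  induction l with
  | nil => intro s hs; simp at hs
  | cons a l ih =>
    obtain ⟨g, h, hT⟩ := exists_coneOf_triangle (a • 𝟙 (kos l Y))
    intro s hs
    rcases List.mem_cons.1 hs with rfl | hs
    · refine ⟨2, ?_⟩
      have e₁ : g ≫ (s • 𝟙 (coneOf (s • 𝟙 (kos l Y)))) = 0 :=
        (smul_id_comp s g).symm.trans (comp_distTriang_mor_zero₁₂ _ hT)
      have e₂ : (s • 𝟙 (coneOf (s • 𝟙 (kos l Y)))) ≫ h = 0 := by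
        rw [smul_id_comp, ← map_shift_smul_id]
        exact comp_distTriang_mor_zero₃₁ _ hT
      have := comp_self_eq_zero_of_triangle _ hT _ e₁ e₂
      rw [pow_two, ← smul_smul]
      calc s • s • 𝟙 (coneOf (s • 𝟙 (kos l Y)))
          = (s • 𝟙 (coneOf (s • 𝟙 (kos l Y)))) ≫ (s • 𝟙 (coneOf (s • 𝟙 (kos l Y)))) := by
            rw [Linear.smul_comp, Category.id_comp]
        _ = 0 := this
    · obtain ⟨k, hk⟩ := ih s hs
      refine ⟨k + k, ?_⟩
      rw [pow_add]
      exact smul_sq_eq_zero_of_triangle _ hT hk hk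

/-- Maps out of a Koszul object vanish when maps out of `Y` do. -/
lemma subsingleton_kos_hom {Y L : D} (h : ∀ n : ℤ, Subsingleton (Y ⟶ L⟦n⟧)) (l : List R) :
    ∀ n : ℤ, Subsingleton (kos l Y ⟶ L⟦n⟧) := by
  induction l with
  | nil => exact h
  | cons a l ih =>
    refine (subsingleton_coneOf_smul_iff a _ L).2 fun n => ?_
    have := ih n
    exact ⟨fun x y _ => Subsingleton.elim _ _, fun y => ⟨y, Subsingleton.elim _ _⟩⟩

/-- Maps into a Koszul object vanish when maps into `Y` do. -/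
lemma subsingleton_hom_kos {P : D → Prop} (hP : ∀ Z (n : ℤ), P Z → P (Z⟦n⟧)) {Y : D}
    (h : ∀ Z, P Z → Subsingleton (Z ⟶ Y)) (l : List R) : ∀ Z, P Z → Subsingleton (Z ⟶ kos l Y) := by
  induction l with
  | nil => exact h
  | cons a l ih =>
    intro Z hZ
    obtain ⟨g, g', hT⟩ := exists_coneOf_triangle (a • 𝟙 (kos l Y))
    suffices ∀ φ : Z ⟶ coneOf (a • 𝟙 (kos l Y)), φ = 0 from ⟨fun x y => (this x).trans (this y).symm⟩
    intro φ
    have h0 : φ ≫ g' = 0 := by
      apply (shiftFunctor D (-1 : ℤ)).map_injective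
      rw [Functor.map_zero, ← cancel_mono ((shiftFunctorCompIsoId D (1 : ℤ) (-1) (by omega)).hom.app _), zero_comp]
      exact (ih _ (hP Z (-1) hZ)).elim _ _
    obtain ⟨b, rfl⟩ := Triangle.coyoneda_exact₃ _ hT φ h0
    exact (congrArg (· ≫ g) ((ih Z hZ).elim b (0 : Z ⟶ kos l Y))).trans zero_comp

/-- Nilpotent objects do not see the difference between `Y` and a Koszul object being zero. -/
lemma subsingleton_nil_hom_of_kos {Y : D} (l l' : List R) (hl : l ⊆ l')
    (h : ∀ Z, Nil l' Z → Subsingleton (Z ⟶ kos l Y)) : ∀ Z, Nil l' Z → Subsingleton (Z ⟶ Y) := by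
  induction l with
  | nil => exact h
  | cons a l ih =>
    refine ih (fun x hx => hl (List.mem_cons_of_mem _ hx)) fun Z hZ => ?_
    obtain ⟨g, g', hT⟩ := exists_coneOf_triangle (a • 𝟙 (kos l Y))
    obtain ⟨k, hk⟩ := hZ a (hl List.mem_cons_self)
    refine subsingleton_hom_of_bijective_of_nilpotent (M := Z ⟶ kos l Y) a
      ((injective_iff_map_eq_zero (DistribSMul.toAddMonoidHom (Z ⟶ kos l Y) a)).2 fun φ hφ => ?_) (k := k)
      fun x => smul_eq_zero_of_id hk x
    change a • φ = 0 at hφ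
    have := h _ (hZ.shift 1)
    apply (shiftFunctor D (1 : ℤ)).map_injective
    obtain ⟨b, hb⟩ := Triangle.coyoneda_exact₁ _ hT (φ⟦(1 : ℤ)⟧') (by
      refine (Functor.map_comp _ _ _).symm.trans ?_
      change (φ ≫ (a • 𝟙 (kos l Y)))⟦(1 : ℤ)⟧' = 0
      rw [Linear.comp_smul, Category.comp_id, hφ, Functor.map_zero])
    refine hb.trans (Eq.trans ?_ (Functor.map_zero _ _ _).symm)
    exact (congrArg (· ≫ g') (this.elim b
      (0 : Z⟦(1 : ℤ)⟧ ⟶ coneOf (a • 𝟙 (kos l Y))))).trans zero_comp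

variable [∀ X : D, HasCoproduct fun _ : ℕ => X]

/-- Complete objects do not see the difference either. -/
lemma subsingleton_hom_cpl_of_kos {Y L : D} (l : List R) (hL : CplAll l L)
    (h : ∀ n : ℤ, Subsingleton (kos l Y ⟶ L⟦n⟧)) : ∀ n : ℤ, Subsingleton (Y ⟶ L⟦n⟧) := by
  induction l with
  | nil => exact h
  | cons a l ih =>
    refine ih (fun s hs => hL s (List.mem_cons_of_mem _ hs)) fun n => ?_
    have hb := (subsingleton_coneOf_smul_iff a (kos l Y) L).1 h n
    suffices ∀ φ : kos l Y ⟶ L⟦n⟧, φ = 0 from ⟨fun x y => (this x).trans (this y).symm⟩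
    intro φ
    choose d hd using fun x => hb.2 x
    let x : ℕ → (kos l Y ⟶ L⟦n⟧) := fun j => Nat.rec φ (fun _ p => d p) j
    exact ((hL a List.mem_cons_self).shift n |>.dcMod (kos l Y)).eq_zero x (fun j => (hd (x j)).symm) 0

/-- The Koszul criterion, on maps into complete objects. -/
theorem isZero_kos_iff_left (l : List R) (Y : D) :
    IsZero (kos l Y) ↔ ∀ L, CplAll l L → Subsingleton (Y ⟶ L) := by
  refine ⟨fun h L hL => ?_, fun h => ?_⟩
  · have := subsingleton_hom_cpl_of_kos l hL (fun n => ⟨h.eq_of_src⟩) 0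
    exact (((shiftFunctorZero D ℤ).app L).homToEquiv (Z := Y)).symm.subsingleton
  · have h' := subsingleton_kos_hom (Y := Y) (L := kos l Y)
      (fun n => h _ ((nil_kos l Y).cplAll.shift n)) l 0
    rw [IsZero.iff_id_eq_zero]
    apply (((shiftFunctorZero D ℤ).app (kos l Y)).symm.homToEquiv (Z := kos l Y)).injective
    exact Subsingleton.elim _ _

omit [∀ X : D, HasCoproduct fun _ : ℕ => X] in
/-- The Koszul criterion, on maps from nilpotent objects. -/
theorem isZero_kos_iff_right (l : List R) (Y : D) :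
    IsZero (kos l Y) ↔ ∀ Z, Nil l Z → Subsingleton (Z ⟶ Y) := by
  refine ⟨fun h Z hZ => subsingleton_nil_hom_of_kos l l (List.Subset.refl _) (fun _ _ => ⟨h.eq_of_tgt⟩) Z hZ,
    fun h => ?_⟩
  have := subsingleton_hom_kos (fun Z n (hZ : Nil l Z) => hZ.shift n) h l _ (nil_kos l Y)
  rw [IsZero.iff_id_eq_zero]
  exact Subsingleton.elim _ _

end

section Functor

variable {R' : Type t} [CommRing R'] {E : Type u'} [Category.{v'} E] [Preadditive E] [Linear R' E]
  [HasZeroObject E] [HasShift E ℤ] [∀ n : ℤ, (shiftFunctor E n).Additive] [Pretriangulated E]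

/-- Koszul objects commute with triangulated functors intertwining the scalars. -/
theorem nonempty_kos_map (G : D ⥤ E) [G.CommShift ℤ] [G.IsTriangulated] (σ : R' → R) (l : List R')
    (hσ : ∀ s ∈ l, ∀ X : D, G.map (σ s • 𝟙 X) = s • 𝟙 (G.obj X)) (Y : D) :
    Nonempty (G.obj (kos (l.map σ) Y) ≅ kos l (G.obj Y)) := by
  induction l with
  | nil => exact ⟨Iso.refl _⟩
  | cons a l ih =>
    obtain ⟨e⟩ := ih fun s hs => hσ s (List.mem_cons_of_mem _ hs)
    obtain ⟨g, h, hT⟩ := exists_coneOf_triangle (σ a • 𝟙 (kos (l.map σ) Y))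
    obtain ⟨g', h', hT'⟩ := exists_coneOf_triangle (a • 𝟙 (kos l (G.obj Y)))
    refine ⟨Triangle.π₃.mapIso (isoTriangleOfIso₁₂ _ _ (G.map_distinguished _ hT) hT' e e ?_)⟩
    change G.map (σ a • 𝟙 _) ≫ e.hom = e.hom ≫ (a • 𝟙 _)
    rw [hσ a List.mem_cons_self, smul_id_comp]

end Functor

end GrothLib.DerComp
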