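import Groth.Agent.Lib.DerComp.SiteTensor
import Groth.Agent.Lib.DerComp.Kos
import Groth.Agent.Lib.ModExtZero.KFlat

/-! # The projection formula on complexes and nilpotent objects -/

set_option autoImplicit false
universe u

open CategoryTheory CategoryTheory.Limits Opposite

attribute [local instance] HasDerivedCategory.standard

namespace GrothLib.DerComp

variable {C : Type u} [SmallCategory C] {J : GrothendieckTopology C} {O : Sheaf J CommRingCat.{u}}

attribute [local instance] ModFlat.additive_T Abelian.hasFiniteBiproducts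

/-- The projection formula for complexes. -/
noncomputable def extTensorCxIso {U : C} (F : CochainComplex (ModSite.Mod (O.over U)) ℤ)
    (E : CochainComplex (ModSite.Mod O) ℤ) :
    ((ModSite.extZero O U).mapHomologicalComplex _).obj
        (((ModSite.tensorCx (O.over U)).obj F).obj (((ModSite.restr O U).mapHomologicalComplex _).obj E)) ≅
      ((ModSite.tensorCx O).obj (((ModSite.extZero O U).mapHomologicalComplex _).obj F)).obj E :=
  let jF := ((ModSite.extZero O U).mapHomologicalComplex (ComplexShape.up ℤ)).obj F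
  let B := ((((ModSite.tensorBi (O.over U)).mapBifunctorHomologicalComplex (ComplexShape.up ℤ) (ComplexShape.up ℤ)).obj
    F).obj (((ModSite.restr O U).mapHomologicalComplex (ComplexShape.up ℤ)).obj E))
  let e : TotalMap.mapBicx (ModSite.extZero O U) B ≅
      (((ModSite.tensorBi O).mapBifunctorHomologicalComplex (ComplexShape.up ℤ) (ComplexShape.up ℤ)).obj jF).obj E :=
    HomologicalComplex.Hom.isoOfComponents
      (fun p => HomologicalComplex.Hom.isoOfComponents (fun q => ModExtZero.projIso O U (F.X p) (E.X q))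
        (fun q q' _ => (ModExtZero.projIso_natural_right (F.X p) (E.d q q')).symm))
      (fun p p' _ => HomologicalComplex.hom_ext _ _ fun q => (ModExtZero.projIso_natural_left (F.d p p') (E.X q)).symm)
  (TotalMap.totalMapIso (ModSite.extZero O U) B).symm ≪≫ HomologicalComplex₂.total.mapIso e (ComplexShape.up ℤ)

/-- Scalars act on a tensor product of complexes through the first factor. -/
lemma tensorCx_map_smul (s : _root_.DerComp.GSec O) (K E : CochainComplex (ModSite.Mod O) ℤ) :
    ((ModSite.tensorCx O).flip.obj E).map (s • 𝟙 K) = s • 𝟙 (((ModSite.tensorCx O).flip.obj E).obj K) := by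
  refine HomologicalComplex.hom_ext _ _ fun j => HomologicalComplex.mapBifunctor.hom_ext fun p q h => ?_
  refine (HomologicalComplex.ι_mapBifunctorMap (s • 𝟙 K) (𝟙 E) (ModSite.tensorBi O) (ComplexShape.up ℤ) p q j h).trans ?_
  rw [HomologicalComplex.smul_f_apply, HomologicalComplex.id_f, HomologicalComplex.id_f, ← smulEnd_eq_smul,
    tensor_smulEnd_left, CategoryTheory.Functor.map_id, Category.id_comp]
  refine Eq.trans ?_ (congrArg (_ ≫ ·) (HomologicalComplex.smul_f_apply s (𝟙 _) j)).symm
  rw [HomologicalComplex.id_f, ← smulEnd_eq_smul]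
  exact _root_.DerComp.smulEnd_comm s _

/-- Tensor products with extensions by zero of nilpotent objects are extensions of nilpotent objects. -/
theorem exists_nil_ltensor_eD {V : C} (l : List (_root_.DerComp.GSec (O.over V)))
    {Z : DerivedCategory (ModSite.Mod (O.over V))} (hZ : Nil l Z)
    (P : CochainComplex (ModSite.Mod O) ℤ) [ModSite.HasLTensorCx P] :
    ∃ Z', Nil l Z' ∧ Nonempty ((ModSite.LTensorCx P).obj ((eD O V).obj Z) ≅ (eD O V).obj Z') := by
  obtain ⟨E, q, hE, -, hq, -⟩ := ModFlat.exists_kflat_resolution (G := P)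
  obtain ⟨K, ⟨e⟩⟩ : ∃ K, Nonempty (DerivedCategory.Q.obj K ≅ Z) := ⟨_, ⟨DerivedCategory.Q.objObjPreimageIso Z⟩⟩
  let E₀ := ((ModSite.restr O V).mapHomologicalComplex (ComplexShape.up ℤ)).obj E
  have hE₀ : ModSite.IsKFlat E₀ := ModExtZero.isKFlat_restr hE
  let F := (ModSite.tensorCx (O.over V)).flip.obj E₀ ⋙ DerivedCategory.Q
  have hF : (HomologicalComplex.quasiIso (ModSite.Mod (O.over V)) (ComplexShape.up ℤ)).IsInvertedBy F :=
    fun K L φ hφ => by
      have : QuasiIso φ := hφ
      have := ModFlat.quasiIso_map_of_isKFlat φ E₀ hE₀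
      exact inferInstanceAs (IsIso (DerivedCategory.Q.map (((ModSite.tensorCx (O.over V)).flip.obj E₀).map φ)))
  let F' := Localization.lift F hF DerivedCategory.Q
  let i : DerivedCategory.Q ⋙ F' ≅ F := Localization.fac F hF DerivedCategory.Q
  have hF' : ∀ (r : _root_.DerComp.GSec (O.over V)), DerivedCategory.Q.map (r • 𝟙 K) = 0 →
      r • 𝟙 (F.obj K) = 0 := fun r hr => by
    have hz : DerivedCategory.Q.map (r • 𝟙 K) = DerivedCategory.Q.map ((0 : _root_.DerComp.GSec (O.over V)) • 𝟙 K) := by
      rw [hr, zero_smul, Functor.map_zero]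
    have h1 : F.map (r • 𝟙 K) = F.map ((0 : _root_.DerComp.GSec (O.over V)) • 𝟙 K) := by
      rw [← cancel_epi (i.hom.app K)]
      exact ((i.hom.naturality _).symm.trans (congrArg (fun t => F'.map t ≫ i.hom.app K) hz)).trans (i.hom.naturality _)
    change DerivedCategory.Q.map _ = DerivedCategory.Q.map _ at h1
    rw [tensorCx_map_smul, tensorCx_map_smul, Functor.map_smul, Functor.map_smul, zero_smul,
      CategoryTheory.Functor.map_id] at h1
    exact h1
  refine ⟨F.obj K, fun s hs => ?_, ?_⟩
  · obtain ⟨k, hk⟩ := hZ s hs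
    refine ⟨k, hF' _ ?_⟩
    rw [Functor.map_smul, CategoryTheory.Functor.map_id, ← cancel_mono e.hom, zero_comp, smul_id_comp, hk, comp_zero]
  · obtain ⟨v⟩ := ltensor_value P E q hE (((ModSite.extZero O V).mapHomologicalComplex _).obj K)
    exact ⟨(ModSite.LTensorCx P).mapIso ((eD O V).mapIso e.symm ≪≫
        (ModSite.extZero O V).mapDerivedCategoryFactors.app K) ≪≫ v ≪≫
      DerivedCategory.Q.mapIso (extTensorCxIso K E).symm ≪≫
      ((ModSite.extZero O V).mapDerivedCategoryFactors.app _).symm⟩

end GrothLib.DerComp
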