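import Groth.Agent.Lib.DerComp.Crit
import Groth.Agent.Lib.DerComp.SliceProj

/-! # Internal homs and the left orthogonal of complete objects -/

set_option autoImplicit false
universe u

open CategoryTheory CategoryTheory.Limits Opposite Pretriangulated

attribute [local instance] HasDerivedCategory.standard

namespace GrothLib.DerComp

variable {C : Type u} [SmallCategory C] {J : GrothendieckTopology C} {O : Sheaf J CommRingCat.{u}}
  {I : _root_.DerComp.IdealSh O}

/-- Extensions by zero of nilpotent objects do not see orthogonal objects. -/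
lemma subsingleton_eD_nil {V : C} {r : ℕ} {a : Fin r → O.obj.obj (op V)} (ha : LocSpan I V a)
    {Z : DerivedCategory (ModSite.Mod (O.over V))} (hZ : Nil (sectList a) Z)
    {Q : DerivedCategory (ModSite.Mod O)} (hQ : LOrth I Q) : Subsingleton ((eD O V).obj Z ⟶ Q) :=
  @Equiv.subsingleton _ _ ((derAdj O V).homEquiv Z Q)
    ((isZero_kos_iff_right _ _).1 (hQ.isZero_kos ha) Z hZ)

/-- Internal homs carry orthogonal cones to orthogonal cones. -/
theorem lOrth_cone_RHom_map (hI : LocFT I) (P : CochainComplex (ModSite.Mod O) ℤ)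
    [ModSite.HasLTensorCx P] [_root_.DerComp.HasRHom P] {A B Q Q' : DerivedCategory (ModSite.Mod O)} {η : A ⟶ B}
    {g : B ⟶ Q} {d : Q ⟶ A⟦(1 : ℤ)⟧} (hT : Triangle.mk η g d ∈ distTriang _) (hQ : LOrth I Q)
    {g' : (_root_.DerComp.RHom P).obj B ⟶ Q'} {d' : Q' ⟶ ((_root_.DerComp.RHom P).obj A)⟦(1 : ℤ)⟧}
    (hT' : Triangle.mk ((_root_.DerComp.RHom P).map η) g' d' ∈ distTriang _) : LOrth I Q' := by
  refine lOrth_of_isZero_kos hI fun V r a ha => (isZero_kos_iff_right _ _).2 fun Z hZ => ?_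
  refine @Equiv.subsingleton _ _ ((derAdj O V).homEquiv Z Q').symm ?_
  suffices ∀ ψ : (eD O V).obj Z ⟶ Q', ψ = 0 from ⟨fun x y => (this x).trans (this y).symm⟩
  intro ψ
  let e := ((shiftFunctorZero (DerivedCategory (ModSite.Mod O)) ℤ).app ((eD O V).obj Z))
  refine (cancel_epi e.hom).1 (Eq.trans ?_ comp_zero.symm)
  refine eq_zero_of_bijective_comp _ hT' ((eD O V).obj Z) (fun n => ?_) 0 _
  obtain ⟨Z', hZ', ⟨v⟩⟩ := exists_nil_ltensor_eD (sectList a) (hZ.shift n) P
  let X := ((eD O V).obj Z)⟦n⟧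
  let c : (eD O V).obj Z' ≅ (ModSite.LTensorCx P).obj X :=
    v.symm ≪≫ (ModSite.LTensorCx P).mapIso (((eD O V).commShiftIso n).app Z)
  let adj := _root_.DerComp.RHomAdj P
  have hb : Function.Bijective fun φ : (eD O V).obj Z' ⟶ A => φ ≫ η := by
    refine ⟨fun x y hxy => ?_, fun y => ?_⟩
    · obtain ⟨w, hw⟩ := Triangle.coyoneda_exact₂ _ (inv_rot_of_distTriang _ hT) (x - y) (by
        change (x - y) ≫ η = 0
        rw [Preadditive.sub_comp, sub_eq_zero]
        exact hxy)
      exact sub_eq_zero.1 (hw.trans ((congrArg (· ≫ _)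
        ((subsingleton_eD_nil ha hZ' (hQ.shift (-1))).elim w 0)).trans zero_comp))
    · obtain ⟨x, hx⟩ := Triangle.coyoneda_exact₂ _ hT y ((subsingleton_eD_nil ha hZ' hQ).elim _ _)
      exact ⟨x, hx.symm⟩
  let E := fun M : DerivedCategory (ModSite.Mod O) => (c.homFromEquiv (Z := M)).trans (adj.homEquiv X M)
  have key : (fun φ : X ⟶ (_root_.DerComp.RHom P).obj A => φ ≫ (_root_.DerComp.RHom P).map η) =
      E B ∘ (fun φ => φ ≫ η) ∘ (E A).symm := funext fun φ => by
    obtain ⟨x, rfl⟩ := (E A).surjective φ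
    simp only [Function.comp_apply, Equiv.symm_apply_apply]
    refine (adj.homEquiv_naturality_right _ η).symm.trans ?_
    simp [E, Iso.homFromEquiv]
  change Function.Bijective fun φ : X ⟶ (_root_.DerComp.RHom P).obj A => φ ≫ (_root_.DerComp.RHom P).map η
  rw [key]
  exact (E B).bijective.comp (hb.comp (E A).symm.bijective)

end GrothLib.DerComp
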