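import Groth.Agent.Lib.DerComp.SiteIdeal
import Groth.Agent.Lib.DerComp.Kos

/-! # Ideals locally spanned by finitely many sections -/

set_option autoImplicit false
universe u

open CategoryTheory CategoryTheory.Limits Opposite

attribute [local instance] HasDerivedCategory.standard

namespace GrothLib.DerComp

variable {C : Type u} [SmallCategory C] {J : GrothendieckTopology C} {O : Sheaf J CommRingCat.{u}}

/-- Completeness for a global section, on sections. -/
theorem dcMod_global_iff (s : _root_.DerComp.GSec O) (K : DerivedCategory (ModSite.Mod O)) (W : C) (n : ℤ) :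
    DCpl.DCMod s ((inDF O).obj (ModSite.freeOn O W) ⟶ K⟦n⟧) ↔
      SeqBij ((inDF O).map ((freeRep O W).mulEnd (s.1 W))) (K⟦n⟧) := by
  rw [← seqBij_iff_dcMod, ← inDF_map_smulEnd, (freeRep O W).smulEnd_eq s]

/-- Completeness for a global section is `Van` everywhere. -/
theorem sCpl_global_iff_van (s : _root_.DerComp.GSec O) (K : DerivedCategory (ModSite.Mod O)) :
    SCpl s K ↔ ∀ U : C, Van K U (s.1 U) := by
  refine ⟨fun h U V g n => ?_, fun h => sCpl_of_locally s K (fun _ => True)
    (fun V => SiteDer.Locally.of_forall fun _ _ => trivial) fun W _ n => ?_⟩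
  · have := (dcMod_global_iff s K V n).1 ((h.shift n).dcMod _)
    rwa [show (O.obj.map g.op).hom (s.1 U) = s.1 V from s.2 g]
  · have := h W W (𝟙 W) n
    rw [show (O.obj.map (𝟙 W : W ⟶ W).op).hom (s.1 W) = s.1 W from s.2 (𝟙 W)] at this
    exact (dcMod_global_iff s K W n).2 this

/-- Over every object of `C/V` the ideal is locally spanned by the sections `a`. -/
def LocSpan (I : _root_.DerComp.IdealSh O) (V : C) {r : ℕ} (a : Fin r → O.obj.obj (op V)) : Prop :=
  (∀ i, a i ∈ I.ideal V) ∧ ∀ (W : C) (k : W ⟶ V) (f : O.obj.obj (op W)), f ∈ I.ideal W →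
    SiteDer.Locally J W fun W' h =>
      (O.obj.map h.op).hom f ∈ Ideal.span (Set.range fun i => (O.obj.map (h ≫ k).op).hom (a i))

/-- The list of scalars given by a family of sections. -/
noncomputable def sectList {V : C} {r : ℕ} (a : Fin r → O.obj.obj (op V)) : List (_root_.DerComp.GSec (O.over V)) :=
  List.ofFn fun i => _root_.DerComp.GSec.ofSect O V (a i)

lemma mem_sectList {V : C} {r : ℕ} {a : Fin r → O.obj.obj (op V)} {s : _root_.DerComp.GSec (O.over V)} :
    s ∈ sectList a ↔ ∃ i, _root_.DerComp.GSec.ofSect O V (a i) = s := by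
  simp [sectList, List.mem_ofFn]

lemma res_res {W T T' : C} (k : T ⟶ W) (l : T' ⟶ T) (x : O.obj.obj (op W)) :
    (O.obj.map l.op).hom ((O.obj.map k.op).hom x) = (O.obj.map (l ≫ k).op).hom x := by
  rw [op_comp, Functor.map_comp, CommRingCat.comp_apply]

/-- The sections locally in the span of the restrictions of `a`. -/
def locSpanIdeal {V : C} {r : ℕ} (a : Fin r → O.obj.obj (op V)) (W : C) (k : W ⟶ V) : Ideal (O.obj.obj (op W)) where
  carrier := {f | SiteDer.Locally J W fun W' h => (O.obj.map h.op).hom f ∈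
    Ideal.span (Set.range fun i => (O.obj.map (h ≫ k).op).hom (a i))}
  add_mem' := fun {f g} ⟨S, hS, hf⟩ ⟨T, hT, hg⟩ => ⟨S ⊓ T, J.intersection_covering hS hT, fun W' h hh => by
    change (O.obj.map h.op).hom (f + g) ∈ _
    rw [map_add]
    exact add_mem (hf h hh.1) (hg h hh.2)⟩
  zero_mem' := SiteDer.Locally.of_forall fun W' h => by
    rw [map_zero]
    exact zero_mem _
  smul_mem' := fun c f hf => hf.mono fun W' h hh => by
    change (O.obj.map h.op).hom (c • f) ∈ _
    rw [smul_eq_mul, map_mul]
    exact Ideal.mul_mem_left _ _ hh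

/-- Ideals generated by sections, in the sense of spans. -/
def spanSh {V : C} {r : ℕ} (a : Fin r → O.obj.obj (op V)) : _root_.DerComp.IdealSh (O.over V) where
  ideal W := locSpanIdeal a W.left W.hom
  map_mem {W W'} g f hf := by
    obtain ⟨S, hS, h⟩ := hf
    refine ⟨S.pullback g.left, J.pullback_stable _ hS, fun T k hk => ?_⟩
    have := h (k ≫ g.left) hk
    simp only [Category.assoc, Over.w] at this
    change (O.obj.map k.op).hom ((O.obj.map g.left.op).hom f) ∈ _
    rw [res_res]
    exact this
  glue {W f} S hS h := by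
    change SiteDer.Locally J W.left _
    refine SiteDer.Locally.trans (fun T T' k l hk => ?_) ((GrothendieckTopology.mem_over_iff _ _).1 hS) fun T k hk => ?_
    · have := Ideal.mem_map_of_mem (O.obj.map l.op).hom hk
      rw [Ideal.map_span, res_res] at this
      refine Ideal.span_mono ?_ this
      rintro _ ⟨_, ⟨i, rfl⟩, rfl⟩
      exact ⟨i, ((res_res _ l (a i)).trans (by rw [Category.assoc])).symm⟩
    · have hmem := h (Over.homMk k : Over.mk (k ≫ W.hom) ⟶ W) ((Sieve.overEquiv_iff S k).1 hk)
      refine SiteDer.Locally.mono hmem fun T' l hl => ?_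
      have e : (O.obj.map l.op).hom ((O.obj.map k.op).hom f) = (O.obj.map (l ≫ k).op).hom f := res_res k l f
      change (O.obj.map l.op).hom ((O.obj.map k.op).hom f) ∈ _ at hl
      rw [e] at hl
      dsimp at hl ⊢
      simp only [Category.assoc] at hl ⊢
      exact hl

/-- Generated by finitely many sections implies locally spanned. -/
theorem locSpan_of_isGenBy (I : _root_.DerComp.IdealSh O) (V : C) {r : ℕ} (a : Fin r → O.obj.obj (op V))
    (h : (I.over V).IsGenBy fun i => _root_.DerComp.GSec.ofSect O V (a i)) : LocSpan I V a := by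
  refine ⟨fun i => ?_, fun W k f hf => ?_⟩
  · have := h.1 i (Over.mk (𝟙 V))
    rwa [ofSect_val_id] at this
  · have hc : (spanSh a).Contains fun i => _root_.DerComp.GSec.ofSect O V (a i) := fun i W' =>
      SiteDer.Locally.of_forall fun T h => Ideal.subset_span ⟨i, (res_res W'.hom h (a i)).symm⟩
    exact h.2 (spanSh a) hc (Over.mk k) hf

/-- Finite type ideals are locally spanned by finitely many sections. -/
theorem locally_locSpan {I : _root_.DerComp.IdealSh O} (hI : I.IsFiniteType) (U : C) :
    SiteDer.Locally J U fun V _ => ∃ (r : ℕ) (a : Fin r → O.obj.obj (op V)), LocSpan I V a := by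
  obtain ⟨S, hS, h⟩ := hI U
  refine ⟨S, hS, fun V g hg => ?_⟩
  obtain ⟨r, a, ha⟩ := h g hg
  exact ⟨r, a, locSpan_of_isGenBy I V a ha⟩

/-- For a locally spanned ideal completeness is completeness for the spanning sections. -/
theorem isDerComp_over_iff_cplAll {I : _root_.DerComp.IdealSh O} {V : C} {r : ℕ} {a : Fin r → O.obj.obj (op V)}
    (ha : LocSpan I V a) (L : DerivedCategory (ModSite.Mod (O.over V))) :
    _root_.DerComp.IsDerComp (O.over V) (I.over V) L ↔ CplAll (sectList a) L := by
  rw [isDerComp_iff_le_vanIdeal]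
  constructor
  · intro h s hs
    obtain ⟨i, rfl⟩ := mem_sectList.1 hs
    exact (sCpl_global_iff_van _ _).2 fun W => h W (I.map_mem W.hom (ha.1 i))
  · intro h W f hf
    obtain ⟨S, hS, hspan⟩ := ha.2 W.left W.hom f hf
    refine (vanIdeal L).glue ((Sieve.overEquiv W).symm S) (J.overEquiv_symm_mem_over W S hS) fun T g hg => ?_
    have h1 := hspan g.left ((Sieve.overEquiv_symm_iff _ g).1 hg)
    refine (Ideal.span_le.2 ?_ : _ ≤ (vanIdeal L).ideal T) h1
    rintro _ ⟨i, rfl⟩
    have h2 := (sCpl_global_iff_van _ _).1 (h _ (mem_sectList.2 ⟨i, rfl⟩)) T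
    change (O.obj.map (g.left ≫ W.hom).op).hom (a i) ∈ (vanIdeal L).ideal T
    rw [Over.w g]
    exact h2

/-- Local statements pass to slices. -/
theorem locally_over {U : C} (W : Over U) {P : ∀ ⦃T : C⦄, (T ⟶ W.left) → Prop} (h : SiteDer.Locally J W.left P) :
    SiteDer.Locally (J.over U) W (fun _ g => P g.left) := by
  obtain ⟨S, hS, hP⟩ := h
  exact ⟨(Sieve.overEquiv W).symm S, J.overEquiv_symm_mem_over W S hS,
    fun T g hg => hP _ ((Sieve.overEquiv_symm_iff _ g).1 hg)⟩

/-- Spanning sections restrict to slices. -/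
theorem LocSpan.over {I : _root_.DerComp.IdealSh O} {U : C} (W : Over U) {r : ℕ}
    {a : Fin r → O.obj.obj (op W.left)} (ha : LocSpan I W.left a) :
    LocSpan (O := O.over U) (I.over U) W a :=
  ⟨ha.1, fun W' k f hf => locally_over W' (ha.2 W'.left k.left f hf)⟩

/-- Local generation passes to slices. -/
theorem locally_locSpan_over {I : _root_.DerComp.IdealSh O} {U : C}
    (hI : ∀ V : C, SiteDer.Locally J V fun V' _ => ∃ (r : ℕ) (a : Fin r → O.obj.obj (op V')), LocSpan I V' a)
    (W : Over U) : SiteDer.Locally (J.over U) W fun W' _ =>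
      ∃ (r : ℕ) (a : Fin r → (O.over U).obj.obj (op W')), LocSpan (O := O.over U) (I.over U) W' a :=
  (locally_over W (hI W.left)).mono fun W' _ ⟨r, a, ha⟩ => ⟨r, a, ha.over W'⟩

end GrothLib.DerComp
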