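import Groth.Agent.Lib.DerComp.Inst
import Groth.Agent.Lib.ModSupp25.Null
import Groth.Agent.Lib.DerComp.GlobalGen

/-! # Modules on which an endomorphism acts through an ideal

`IsEig I X ε`: locally every section is annihilated by a product of factors `ε - g` with `g` a section
of the ideal.
-/

set_option autoImplicit false
universe u

open CategoryTheory CategoryTheory.Limits Opposite GrothLib.ModSupp25

namespace GrothLib.DerComp

variable {C : Type u} [SmallCategory C] {J : GrothendieckTopology C} {O : Sheaf J CommRingCat.{u}}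

/-- Scalar multiplication on a section. -/
noncomputable abbrev smSec (X : ModSite.Mod O) {W : C} (r : O.obj.obj (op W)) (x : sec O X W) : sec O X W :=
  show X.val.obj (op W) from sc r • (show X.val.obj (op W) from x)

lemma res_smSec (X : ModSite.Mod O) {W W' : C} (g : W' ⟶ W) (r : O.obj.obj (op W)) (x : sec O X W) :
    res O X g (smSec X r x) = smSec X ((O.obj.map g.op).hom r) (res O X g x) :=
  PresheafOfModules.map_smul X.val g.op (sc r) x

lemma app_smSec {X Y : ModSite.Mod O} (f : X ⟶ Y) (W : C) (r : O.obj.obj (op W)) (x : sec O X W) :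
    app O f W (smSec X r x) = smSec Y r (app O f W x) :=
  (f.val.app (op W)).hom.map_smul (sc r) x

lemma smSec_add (X : ModSite.Mod O) {W : C} (r : O.obj.obj (op W)) (x y : sec O X W) :
    smSec X r (x + y) = smSec X r x + smSec X r y :=
  smul_add (sc r) (show X.val.obj (op W) from x) (show X.val.obj (op W) from y)

lemma smSec_sub (X : ModSite.Mod O) {W : C} (r : O.obj.obj (op W)) (x y : sec O X W) :
    smSec X r (x - y) = smSec X r x - smSec X r y :=
  smul_sub (sc r) (show X.val.obj (op W) from x) (show X.val.obj (op W) from y)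

lemma smSec_comm (X : ModSite.Mod O) {W : C} (r r' : O.obj.obj (op W)) (x : sec O X W) :
    smSec X r (smSec X r' x) = smSec X r' (smSec X r x) := by
  let y : X.val.obj (op W) := x
  change sc r • sc r' • y = sc r' • sc r • y
  rw [smul_smul, smul_smul]
  exact congrArg (fun t : (ModSite.ringSh O).obj.obj (op W) => t • y) (mul_comm r r')

/-- `x` is killed by a product of factors `ε - g`. -/
inductive Ann (I : _root_.DerComp.IdealSh O) {X : ModSite.Mod O} (ε : X ⟶ X) (W : C) : sec O X W → Prop
  | zero : Ann I ε W 0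
  | step (g : O.obj.obj (op W)) (hg : g ∈ I.ideal W) (x : sec O X W)
      (h : Ann I ε W (app O ε W x - smSec X g x)) : Ann I ε W x

variable {I : _root_.DerComp.IdealSh O}

/-- Transport of annihilation. -/
lemma Ann.map {C' : Type u} [SmallCategory C'] {J' : GrothendieckTopology C'} {O' : Sheaf J' CommRingCat.{u}}
    {I' : _root_.DerComp.IdealSh O'} {X : ModSite.Mod O} {ε : X ⟶ X} {Y : ModSite.Mod O'} {ε' : Y ⟶ Y} {W : C}
    {W' : C'} (σ : O.obj.obj (op W) → O'.obj.obj (op W')) (hσ : ∀ g ∈ I.ideal W, σ g ∈ I'.ideal W')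
    (u : sec O X W →+ sec O' Y W') (hu : ∀ g ∈ I.ideal W, ∀ x, u (smSec X g x) = smSec Y (σ g) (u x))
    (hε : ∀ x, u (app O ε W x) = app O' ε' W' (u x)) {x : sec O X W} (h : Ann I ε W x) :
    Ann I' ε' W' (u x) := by
  induction h with
  | zero =>
    rw [map_zero]
    exact Ann.zero
  | step g hg x _ ih =>
    rw [map_sub, hε, hu g hg] at ih
    exact Ann.step (σ g) (hσ g hg) _ ih

lemma Ann.restrict {X : ModSite.Mod O} {ε : X ⟶ X} {W W' : C} (k : W' ⟶ W) {x : sec O X W} (h : Ann I ε W x) :
    Ann I ε W' (res O X k x) :=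
  Ann.map (fun g => (O.obj.map k.op).hom g) (fun _ hg => I.map_mem k hg) (res O X k).hom
    (fun g _ x => res_smSec X k g x) (fun x => res_app O ε k x) h

lemma Ann.app {X Y : ModSite.Mod O} {ε : X ⟶ X} {ε' : Y ⟶ Y} (f : X ⟶ Y) (hf : ε ≫ f = f ≫ ε') {W : C}
    {x : sec O X W} (h : Ann I ε W x) : Ann I ε' W (ModSupp25.app O f W x) :=
  Ann.map id (fun _ hg => hg) (ModSupp25.app O f W).hom (fun g _ x => app_smSec f W g x)
    (fun x => by
      change ModSupp25.app O f W (ModSupp25.app O ε W x) = ModSupp25.app O ε' W (ModSupp25.app O f W x)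
      rw [← app_comp, ← app_comp, hf]) h

lemma Ann.sub_smul {X : ModSite.Mod O} {ε : X ⟶ X} {W : C} (g : O.obj.obj (op W)) {x : sec O X W}
    (h : Ann I ε W x) : Ann I ε W (ModSupp25.app O ε W x - smSec X g x) := by
  let S : sec O X W →+ sec O X W := AddMonoidHom.mk' (fun x => smSec X g x) (smSec_add X g)
  refine Ann.map id (fun _ hg => hg) ((ModSupp25.app O ε W).hom - S) (fun r _ y => ?_) (fun y => ?_) h
  · change ModSupp25.app O ε W (smSec X r y) - smSec X g (smSec X r y) =
      smSec X r (ModSupp25.app O ε W y - smSec X g y)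
    rw [app_smSec, smSec_comm, smSec_sub]
  · change ModSupp25.app O ε W (ModSupp25.app O ε W y) - smSec X g (ModSupp25.app O ε W y) =
      ModSupp25.app O ε W (ModSupp25.app O ε W y - smSec X g y)
    rw [map_sub, app_smSec]

lemma Ann.add {X : ModSite.Mod O} {ε : X ⟶ X} {W : C} {x y : sec O X W} (hx : Ann I ε W x) (hy : Ann I ε W y) :
    Ann I ε W (x + y) := by
  induction hx generalizing y with
  | zero => rwa [zero_add]
  | step g hg x _ ih =>
    refine Ann.step g hg _ ?_
    have := ih (hy.sub_smul g)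
    rwa [show ModSupp25.app O ε W (x + y) - smSec X g (x + y) =
      (ModSupp25.app O ε W x - smSec X g x) + (ModSupp25.app O ε W y - smSec X g y) by
        rw [map_add, smSec_add]
        abel]

variable (I) in
/-- Locally every section is killed by a product of factors `ε - g`. -/
def IsEig (X : ModSite.Mod O) (ε : X ⟶ X) : Prop :=
  ∀ (W : C) (x : sec O X W), SiteDer.Locally J W fun W' h => Ann I ε W' (res O X h x)

lemma locally_ann_add {X : ModSite.Mod O} {ε : X ⟶ X} {W : C} {x y : sec O X W}
    (hx : SiteDer.Locally J W fun W' h => Ann I ε W' (res O X h x))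
    (hy : SiteDer.Locally J W fun W' h => Ann I ε W' (res O X h y)) :
    SiteDer.Locally J W fun W' h => Ann I ε W' (res O X h (x + y)) := by
  obtain ⟨S, hS, hx⟩ := hx
  obtain ⟨T, hT, hy⟩ := hy
  exact ⟨S ⊓ T, J.intersection_covering hS hT, fun W' h hh => by
    change Ann I ε W' (res O X h (x + y))
    rw [map_add]
    exact (hx h hh.1).add (hy h hh.2)⟩

lemma isEig_of_isZero {X : ModSite.Mod O} (ε : X ⟶ X) (hX : IsZero X) : IsEig I X ε := fun W x =>
  SiteDer.Locally.of_forall fun W' h => by
    have := AddCommGrpCat.subsingleton_of_isZero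
      ((tS O ⋙ sheafToPresheaf J AddCommGrpCat.{u} ⋙ (evaluation _ _).obj (op W')).map_isZero hX)
    rw [show res O X h x = 0 from @Subsingleton.elim _ this _ _]
    exact Ann.zero

lemma IsEig.of_epi {X Y : ModSite.Mod O} {ε : X ⟶ X} {ε' : Y ⟶ Y} (h : IsEig I X ε) (f : X ⟶ Y) [Epi f]
    (hf : ε ≫ f = f ≫ ε') : IsEig I Y ε' := fun W y => by
  obtain ⟨S, hS, hx⟩ := exists_cover_lift O f y
  refine SiteDer.Locally.trans (fun V V' a b hab => ?_) hS fun V a ha => ?_
  · rw [← ModSupp25.res_res O Y a b y]
    exact hab.restrict b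
  · obtain ⟨x, hx⟩ := hx a ha
    refine (h V x).mono fun V' b hb => ?_
    rw [← ModSupp25.res_res O Y a b y, ← hx, res_app]
    exact hb.app f hf

lemma sec_app_injective {X Y : ModSite.Mod O} (f : X ⟶ Y) [Mono f] (W : C) :
    Function.Injective (ModSupp25.app O f W) := by
  have : Mono ((tS O).map f) := by
    have := SheafCoh.preservesHomology_toSheaf (ModSite.ringSh O)
    exact Functor.map_mono _ _
  have : Mono ((sheafToPresheaf J AddCommGrpCat.{u}).map ((tS O).map f)) := Functor.map_mono _ _
  exact (AddCommGrpCat.mono_iff_injective _).1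
    (inferInstanceAs (Mono (((sheafToPresheaf J AddCommGrpCat.{u}).map ((tS O).map f)).app (op W))))

lemma Ann.of_injective {X Y : ModSite.Mod O} {ε : X ⟶ X} {ε' : Y ⟶ Y} (f : X ⟶ Y) (hf : ε ≫ f = f ≫ ε')
    {W : C} (hinj : Function.Injective (ModSupp25.app O f W)) {y : sec O Y W} (hy : Ann I ε' W y) :
    ∀ x, ModSupp25.app O f W x = y → Ann I ε W x := by
  induction hy with
  | zero =>
    intro x hx
    rw [hinj (hx.trans (map_zero _).symm)]
    exact Ann.zero
  | step g hg y _ ih =>
    intro x hx
    refine Ann.step g hg x (ih _ ?_)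
    rw [map_sub, app_smSec, hx, ← app_comp, hf, app_comp, hx]

lemma IsEig.of_mono {X Y : ModSite.Mod O} {ε : X ⟶ X} {ε' : Y ⟶ Y} (h : IsEig I Y ε') (f : X ⟶ Y) [Mono f]
    (hf : ε ≫ f = f ≫ ε') : IsEig I X ε := fun W x =>
  (h W (ModSupp25.app O f W x)).mono fun W' a ha =>
    Ann.of_injective f hf (sec_app_injective f W') ha _ (res_app O f a x).symm

/-- A sum of two modules of this kind is of this kind. -/
lemma IsEig.of_decomp {X A B : ModSite.Mod O} {ε : X ⟶ X} {α : A ⟶ A} {β : B ⟶ B} (hA : IsEig I A α)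
    (hB : IsEig I B β) (p : X ⟶ A) (i : A ⟶ X) (q : X ⟶ B) (j : B ⟶ X) (hid : p ≫ i + q ≫ j = 𝟙 X)
    (hi : α ≫ i = i ≫ ε) (hj : β ≫ j = j ≫ ε) : IsEig I X ε := fun W x => by
  have hx : x = ModSupp25.app O i W (ModSupp25.app O p W x) + ModSupp25.app O j W (ModSupp25.app O q W x) := by
    rw [← app_comp, ← app_comp]
    calc x = ModSupp25.app O (p ≫ i + q ≫ j) W x := by rw [hid]; rfl
      _ = _ := rfl
  rw [hx]
  refine locally_ann_add (x := ModSupp25.app O i W (ModSupp25.app O p W x))
    (y := ModSupp25.app O j W (ModSupp25.app O q W x)) ((hA W (ModSupp25.app O p W x)).mono fun W' a ha => ?_)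
    ((hB W (ModSupp25.app O q W x)).mono fun W' a ha => ?_)
  · rw [res_app]
    exact ha.app i hi
  · rw [res_app]
    exact ha.app j hj

/-- If `ε` is invertible and the ideal acts locally nilpotently, the module is zero. -/
theorem IsEig.isZero {X : ModSite.Mod O} {ε : X ⟶ X} [IsIso ε] (h : IsEig I X ε)
    (hnil : ∀ (W : C), ∀ g ∈ I.ideal W, ∀ y : sec O X W,
      SiteDer.Locally J W fun W' a => ∃ n : ℕ,
        ((fun z => smSec X ((O.obj.map a.op).hom g) z)^[n]) (res O X a y) = 0) : IsZero X := by
  have key : ∀ (W : C) (x : sec O X W), Ann I ε W x → x = 0 := by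
    intro W x hx
    induction hx with
    | zero => rfl
    | step g hg x _ ih =>
      obtain ⟨S, hS, hn⟩ := hnil W g hg x
      refine eq_zero_of_cover O X x S hS fun W' a ha => ?_
      obtain ⟨n, hn⟩ := hn a ha
      have hinj := sec_app_injective ε W'
      have hx : ModSupp25.app O ε W' (res O X a x) = smSec X ((O.obj.map a.op).hom g) (res O X a x) := by
        rw [← res_app, ← res_smSec, sub_eq_zero.1 ih]
      generalize res O X a x = y at hn hx ⊢
      induction n generalizing y with
      | zero => exact hn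
      | succ n ihn =>
        rw [Function.iterate_succ_apply] at hn
        have h0 := ihn _ hn (by rw [app_smSec, hx])
        exact hinj (hx.trans (h0.trans (map_zero _).symm))
  rw [IsZero.iff_id_eq_zero]
  refine SheafOfModules.hom_ext (PresheafOfModules.hom_ext fun W => ModuleCat.hom_ext (LinearMap.ext fun x => ?_))
  change x = (0 : X.val.obj W)
  obtain ⟨S, hS, hS'⟩ := h W.unop x
  exact eq_zero_of_cover O X x S hS fun W' a ha => key W' _ (hS' a ha)

end GrothLib.DerComp
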