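import Groth.Prelude.Def_DerComp
import Groth.Agent.Lib.ModFlat.TensorSymm

/-! # Multiplication by global sections and tensor products -/

set_option autoImplicit false
universe u

open CategoryTheory CategoryTheory.Limits Opposite MonoidalCategory GrothLib.SheafCoh

namespace GrothLib.DerComp

variable {C : Type u} [SmallCategory C] {J : GrothendieckTopology C} {O : Sheaf J CommRingCat.{u}}

/-- `(s • x) ⊗ y = s • (x ⊗ y)`. -/
theorem tensor_smulEnd_left (s : _root_.DerComp.GSec O) (A M : ModSite.Mod O) :
    ((ModSite.tensorBi O).map (_root_.DerComp.smulEnd s A)).app M =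
      _root_.DerComp.smulEnd s (((ModSite.tensorBi O).obj A).obj M) := by
  let P := (forgetP O).obj A ⊗ (forgetP O).obj M
  apply ((shfAdj O).homEquiv P _).injective
  rw [Adjunction.homEquiv_unit, Adjunction.homEquiv_unit]
  refine ((shfAdj O).unit.naturality ((forgetP O).map (_root_.DerComp.smulEnd s A) ▷ (forgetP O).obj M)).symm.trans ?_
  refine PresheafOfModules.hom_ext fun X => ModuleCat.MonoidalCategory.tensor_ext (R := O.obj.obj X) fun m n => ?_
  let η := ((shfAdj O).unit.app P).app X
  let r : (O.obj ⋙ forget₂ CommRingCat.{u} RingCat.{u}).obj X := s.1 X.unop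
  change η.hom ((r • m) ⊗ₜ[O.obj.obj X] n) = r • η.hom (m ⊗ₜ[O.obj.obj X] n)
  rw [← map_smul]
  rfl

/-- An invertible scalar stays invertible after tensoring. -/
theorem isIso_smulEnd_tensor (s : _root_.DerComp.GSec O) (A M : ModSite.Mod O)
    [IsIso (_root_.DerComp.smulEnd s A)] :
    IsIso (_root_.DerComp.smulEnd s (((ModSite.tensorBi O).obj A).obj M)) := by
  rw [← tensor_smulEnd_left]
  infer_instance

/-- Multiplication by `s` is invertible on `M_s`. -/
theorem isIso_smulEnd_locAway (s : _root_.DerComp.GSec O) (M : ModSite.Mod O) :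
    IsIso (_root_.DerComp.smulEnd s (_root_.DerComp.locAway s M)) := by
  let σ : (∐ fun _ : ℕ => M) ⟶ ∐ fun _ : ℕ => M := Sigma.desc fun n => Sigma.ι (fun _ : ℕ => M) (n + 1)
  have hψ : _root_.DerComp.awayMap s M = 𝟙 _ - _root_.DerComp.smulEnd s _ ≫ σ := Sigma.hom_ext _ _ fun n => by
    simp only [_root_.DerComp.awayMap, Sigma.ι_desc, Preadditive.comp_sub, Category.comp_id, σ]
    rw [← Category.assoc, ← _root_.DerComp.smulEnd_comm, Category.assoc, Sigma.ι_desc]
  have hc : _root_.DerComp.awayMap s M ≫ σ ≫ cokernel.π (_root_.DerComp.awayMap s M) = 0 := by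
    have : _root_.DerComp.awayMap s M ≫ σ = σ ≫ _root_.DerComp.awayMap s M := by
      rw [hψ, Preadditive.sub_comp, Preadditive.comp_sub, Category.id_comp, Category.comp_id, ← Category.assoc σ,
        ← _root_.DerComp.smulEnd_comm]
    rw [← Category.assoc, this, Category.assoc, cokernel.condition, comp_zero]
  have h1 : _root_.DerComp.smulEnd s (∐ fun _ : ℕ => M) ≫ σ ≫ cokernel.π (_root_.DerComp.awayMap s M) =
      cokernel.π (_root_.DerComp.awayMap s M) := by
    have h : (𝟙 _ - _root_.DerComp.smulEnd s (∐ fun _ : ℕ => M) ≫ σ) ≫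
        cokernel.π (_root_.DerComp.awayMap s M) = 0 :=
      (congrArg (· ≫ cokernel.π (_root_.DerComp.awayMap s M)) hψ).symm.trans (cokernel.condition _)
    rw [Preadditive.sub_comp, Category.id_comp, sub_eq_zero, Category.assoc] at h
    exact h.symm
  refine ⟨cokernel.desc _ _ hc, ?_, ?_⟩
  · apply coequalizer.hom_ext
    rw [← Category.assoc, ← _root_.DerComp.smulEnd_comm, Category.assoc, cokernel.π_desc]
    exact h1.trans (Category.comp_id _).symm
  · rw [← _root_.DerComp.smulEnd_comm]
    apply coequalizer.hom_ext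
    rw [← Category.assoc, ← _root_.DerComp.smulEnd_comm, Category.assoc, cokernel.π_desc]
    exact h1.trans (Category.comp_id _).symm

end GrothLib.DerComp
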