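import Groth.Agent.Lib.DerComp.Eig
import Groth.Agent.Lib.DerComp.SmulTensor
import Mathlib.Algebra.Homology.DerivedCategory.FullyFaithful
import Mathlib.Algebra.Homology.DerivedCategory.TStructure

/-! # Koszul objects of modules on which an automorphism acts through the ideal vanish -/

set_option autoImplicit false
universe u

open CategoryTheory CategoryTheory.Limits Opposite GrothLib.ModSupp25 Pretriangulated

attribute [local instance] HasDerivedCategory.standard

namespace GrothLib.DerComp

variable {C : Type u} [SmallCategory C] {J : GrothendieckTopology C} {O : Sheaf J CommRingCat.{u}}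
  {I : _root_.DerComp.IdealSh O}

/-- The middle term of an exact sequence is of this kind when the outer terms are. -/
theorem IsEig.of_exact (S : ShortComplex (ModSite.Mod O)) (hS : S.Exact) {α : S.X₁ ⟶ S.X₁} {ε : S.X₂ ⟶ S.X₂}
    {γ : S.X₃ ⟶ S.X₃} (hf : α ≫ S.f = S.f ≫ ε) (hgS : ε ≫ S.g = S.g ≫ γ) (h₁ : IsEig I S.X₁ α)
    (h₃ : IsEig I S.X₃ γ) : IsEig I S.X₂ ε := by
  have key : ∀ (W : C) (b : sec O S.X₃ W), Ann I γ W b → ∀ x, ModSupp25.app O S.g W x = b →
      SiteDer.Locally J W fun W' h => Ann I ε W' (res O S.X₂ h x) := by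
    intro W b hb
    induction hb with
    | zero =>
      intro x hx
      obtain ⟨T, hT, hw⟩ := exists_cover_of_exact O S hS x hx
      refine SiteDer.Locally.trans (fun V V' a b hab => ?_) hT fun V a ha => ?_
      · rw [← ModSupp25.res_res O S.X₂ a b x]
        exact hab.restrict b
      · obtain ⟨w, hw⟩ := hw a ha
        refine (h₁ V w).mono fun V' b hb => ?_
        rw [← ModSupp25.res_res O S.X₂ a b x, ← hw, res_app]
        exact hb.app S.f hf
    | step g hg b _ ih =>
      intro x hx
      have h' := ih (ModSupp25.app O ε W x - smSec S.X₂ g x)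
        (by rw [map_sub, ← app_comp, hgS, app_comp, app_smSec, hx])
      refine h'.mono fun W' a ha => ?_
      refine Ann.step ((O.obj.map a.op).hom g) (I.map_mem a hg) _ ?_
      rwa [map_sub, res_app, res_smSec] at ha
  intro W x
  obtain ⟨T, hT, hb⟩ := h₃ W (ModSupp25.app O S.g W x)
  refine SiteDer.Locally.trans (fun V V' a b hab => ?_) hT fun V a ha => ?_
  · rw [← ModSupp25.res_res O S.X₂ a b x]
    exact hab.restrict b
  · refine (key V _ (hb a ha) (res O S.X₂ a x) (res_app O S.g a x).symm).mono fun V' b hb' => ?_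
    rw [← ModSupp25.res_res O S.X₂ a b x]
    exact hb'

/-- Restriction to a slice. -/
theorem IsEig.over {X : ModSite.Mod O} {ε : X ⟶ X} (h : IsEig I X ε) (U : C) :
    IsEig (I.over U) ((ModSite.restr O U).obj X) ((ModSite.restr O U).map ε) := fun W x =>
  (locally_over W (h W.left x)).mono fun W' a ha =>
    Ann.map (O := O) (I := I) (X := X) (ε := ε) (W := W'.left) (I' := I.over U) (Y := (ModSite.restr O U).obj X) (ε' := (ModSite.restr O U).map ε) (W' := W') id (fun _ hg => hg)
      (show sec O X W'.left →+ sec (O.over U) ((ModSite.restr O U).obj X) W' from AddMonoidHom.id _)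
      (fun _ _ _ => rfl) (fun _ => rfl) ha

/-- An automorphism of every homology, acting through the ideal. -/
def IsEigD (I : _root_.DerComp.IdealSh O) (Y : DerivedCategory (ModSite.Mod O)) (e : Y ⟶ Y) : Prop :=
  IsIso e ∧ ∀ n : ℤ, IsEig I ((DerivedCategory.homologyFunctor (ModSite.Mod O) n).obj Y)
    ((DerivedCategory.homologyFunctor (ModSite.Mod O) n).map e)

theorem isEigD_inDF {X : ModSite.Mod O} {ε : X ⟶ X} [IsIso ε] (h : IsEig I X ε) :
    IsEigD I ((inDF O).obj X) ((inDF O).map ε) := by
  refine ⟨inferInstance, fun n => ?_⟩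
  obtain hn | rfl := ne_or_eq n 0
  · refine isEig_of_isZero _ ?_
    rcases lt_or_gt_of_ne hn with hn | hn
    · exact DerivedCategory.isZero_of_isGE _ 0 n hn
    · exact DerivedCategory.isZero_of_isLE _ 0 n hn
  · exact h.of_mono ((DerivedCategory.singleFunctorCompHomologyFunctorIso (ModSite.Mod O) 0).hom.app X)
      ((DerivedCategory.singleFunctorCompHomologyFunctorIso (ModSite.Mod O) 0).hom.naturality ε)

theorem IsEigD.exists_cone {Y : DerivedCategory (ModSite.Mod O)} {e : Y ⟶ Y} (h : IsEigD I Y e)
    (s : _root_.DerComp.GSec O) : ∃ c, IsEigD I (coneOf (s • 𝟙 Y)) c := by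
  obtain ⟨g, d, hT⟩ := exists_coneOf_triangle (s • 𝟙 Y)
  obtain ⟨c, hc₂, hc₃⟩ := complete_distinguished_triangle_morphism _ _ hT hT e e (smul_id_comp s e)
  have := h.1
  let φ : Triangle.mk (s • 𝟙 Y) g d ⟶ Triangle.mk (s • 𝟙 Y) g d :=
    { hom₁ := e, hom₂ := e, hom₃ := c, comm₁ := smul_id_comp s e, comm₂ := hc₂, comm₃ := hc₃ }
  refine ⟨c, isIso₃_of_isIso₁₂ φ hT hT h.1 h.1, fun n => ?_⟩
  let H := DerivedCategory.homologyFunctor (ModSite.Mod O) n
  have hex : (ShortComplex.mk (H.map g) (H.map d) (by
      rw [← Functor.map_comp]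
      exact (congrArg H.map (comp_distTriang_mor_zero₂₃ _ hT)).trans (H.map_zero _ _))).Exact :=
    H.map_distinguished_exact _ (rot_of_distTriang _ hT)
  refine IsEig.of_exact _ hex (α := H.map e) (γ := H.map (e⟦(1 : ℤ)⟧')) ?_ ?_ (h.2 n) ?_
  · change H.map e ≫ H.map g = H.map g ≫ H.map c
    rw [← Functor.map_comp, ← Functor.map_comp]
    exact congrArg H.map hc₂.symm
  · change H.map c ≫ H.map d = H.map d ≫ H.map (e⟦(1 : ℤ)⟧')
    rw [← Functor.map_comp, ← Functor.map_comp]
    exact congrArg H.map hc₃.symm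
  · let m : H.obj (Y⟦(1 : ℤ)⟧) ≅ (DerivedCategory.homologyFunctor (ModSite.Mod O) (n + 1)).obj Y :=
      ((DerivedCategory.homologyFunctor (ModSite.Mod O) 0).shiftIso 1 n (n + 1)
        (show 1 + n = n + 1 by omega)).app Y
    exact (h.2 (n + 1)).of_mono m.hom (((DerivedCategory.homologyFunctor (ModSite.Mod O) 0).shiftIso 1 n (n + 1)
      (show 1 + n = n + 1 by omega)).hom.naturality e)

theorem IsEigD.exists_kos {Y : DerivedCategory (ModSite.Mod O)} {e : Y ⟶ Y} (h : IsEigD I Y e)
    (l : List (_root_.DerComp.GSec O)) : ∃ c, IsEigD I (kos l Y) c := by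
  induction l with
  | nil => exact ⟨e, h⟩
  | cons a l ih => exact ih.choose_spec.exists_cone a

lemma homologyMap_smul (s : _root_.DerComp.GSec O) (Y : DerivedCategory (ModSite.Mod O)) (n : ℤ) :
    (DerivedCategory.homologyFunctor (ModSite.Mod O) n).map (s • 𝟙 Y) =
      _root_.DerComp.smulEnd s ((DerivedCategory.homologyFunctor (ModSite.Mod O) n).obj Y) := by
  let H := DerivedCategory.homologyFunctor (ModSite.Mod O) n
  obtain ⟨K, ⟨i⟩⟩ : ∃ K, Nonempty (DerivedCategory.Q.obj K ≅ Y) := ⟨_, ⟨DerivedCategory.Q.objObjPreimageIso Y⟩⟩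
  let F := (DerivedCategory.homologyFunctorFactors (ModSite.Mod O) n).hom
  have hK : HomologicalComplex.homologyMap (s • 𝟙 K) n = s • 𝟙 (K.homology n) := by
    refine (ShortComplex.homologyMap_smul (φ := 𝟙 (K.sc n)) s).trans ?_
    rw [ShortComplex.homologyMap_id]
    rfl
  have h1 : H.map (DerivedCategory.Q.map (s • 𝟙 K)) = _root_.DerComp.smulEnd s _ := by
    rw [← cancel_mono (F.app K)]
    refine (F.naturality (s • 𝟙 K)).trans ?_
    change F.app K ≫ HomologicalComplex.homologyMap (s • 𝟙 K) n = _
    rw [hK, ← smulEnd_eq_smul]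
    exact (_root_.DerComp.smulEnd_comm s (F.app K)).symm
  have h2 : s • 𝟙 Y = i.inv ≫ DerivedCategory.Q.map (s • 𝟙 K) ≫ i.hom := by
    rw [Functor.map_smul, CategoryTheory.Functor.map_id]
    simp
  rw [h2, Functor.map_comp, Functor.map_comp, h1, _root_.DerComp.smulEnd_comm, ← Category.assoc,
    ← Functor.map_comp, Iso.inv_hom_id, CategoryTheory.Functor.map_id, Category.id_comp]

/-- The Koszul object on spanning sections vanishes. -/
theorem IsEigD.isZero_kos {Y : DerivedCategory (ModSite.Mod O)} {e : Y ⟶ Y} (h : IsEigD I Y e)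
    (l : List (_root_.DerComp.GSec O))
    (hspan : ∀ (W : C), ∀ g ∈ I.ideal W, SiteDer.Locally J W fun T a =>
      (O.obj.map a.op).hom g ∈ Ideal.span ((fun s : _root_.DerComp.GSec O => s.1 T) '' {s | s ∈ l})) :
    IsZero (kos l Y) := by
  obtain ⟨c, hc, hc'⟩ := h.exists_kos l
  refine isZero_of_homology fun n => ?_
  let H := (DerivedCategory.homologyFunctor (ModSite.Mod O) n).obj (kos l Y)
  have : IsIso ((DerivedCategory.homologyFunctor (ModSite.Mod O) n).map c) := inferInstance
  refine (hc' n).isZero fun W g hg y => ?_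
  refine (hspan W g hg).mono fun T a ha => ?_
  let N : Ideal (O.obj.obj (op T)) :=
    { carrier := {r | ∀ z : sec O H T, smSec H r z = 0}
      zero_mem' := fun z => zero_smul ((ModSite.ringSh O).obj.obj (op T)) (show H.val.obj (op T) from z)
      add_mem' := fun {p q} hp hq z => by
        refine (add_smul (sc p) (sc q) (show H.val.obj (op T) from z)).trans ?_
        exact (congrArg₂ (· + ·) (hp z) (hq z)).trans (add_zero _)
      smul_mem' := fun p q hq z => by
        refine (mul_smul (sc p) (sc q) (show H.val.obj (op T) from z)).trans ?_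
        exact (congrArg (smSec H p) (hq z)).trans (smul_zero (A := H.val.obj (op T)) (sc p)) }
  have hrad : Ideal.span ((fun s : _root_.DerComp.GSec O => s.1 T) '' {s | s ∈ l}) ≤ N.radical := by
    refine Ideal.span_le.2 ?_
    rintro _ ⟨s, hs, rfl⟩
    obtain ⟨k, hk⟩ := nil_kos l Y s hs
    refine ⟨k, fun z => ?_⟩
    have h0 := homologyMap_smul (s ^ k) (kos l Y) n
    rw [hk, Functor.map_zero] at h0
    exact (congrArg (fun f : H ⟶ H => ModSupp25.app O f T z) h0.symm).trans rfl
  obtain ⟨m, hm⟩ := hrad ha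
  refine ⟨m, ?_⟩
  have it : ∀ (j : ℕ) (z : sec O H T), ((fun z => smSec H ((O.obj.map a.op).hom g) z)^[j]) z =
      smSec H ((O.obj.map a.op).hom g ^ j) z := by
    intro j
    induction j with
    | zero =>
      intro z
      rw [pow_zero]
      exact (one_smul ((ModSite.ringSh O).obj.obj (op T)) (show H.val.obj (op T) from z)).symm
    | succ j ihj =>
      intro z
      rw [Function.iterate_succ_apply', ihj, pow_succ']
      exact (mul_smul (sc ((O.obj.map a.op).hom g)) (sc ((O.obj.map a.op).hom g ^ j))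
        (show H.val.obj (op T) from z)).symm
  rw [it]
  exact hm _

/-- The generators of the left orthogonal of complete objects are of this kind. -/
theorem isEig_extZero {U : C} (A : ModSite.Mod (O.over U)) (f : O.obj.obj (op U)) (hf : f ∈ I.ideal U) :
    IsEig I ((ModSite.extZero O U).obj A)
      ((ModSite.extZero O U).map (_root_.DerComp.smulEnd (_root_.DerComp.GSec.ofSect O U f) A)) := by
  classical
  let h := _root_.DerComp.smulEnd (_root_.DerComp.GSec.ofSect O U f) A
  let i := ModExtZero.extZeroIso O U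
  let G := (ModExtZero.extP O U).obj ((SheafCoh.forgetP (O.over U)).obj A)
  let u : G ⟶ (SheafCoh.forgetP O).obj ((ModSite.extZero O U).obj A) :=
    (SheafCoh.shfAdj O).unit.app G ≫ (SheafCoh.forgetP O).map (i.hom.app A)
  have hu : (ModExtZero.extP O U).map ((SheafCoh.forgetP (O.over U)).map h) ≫ u =
      u ≫ (SheafCoh.forgetP O).map ((ModSite.extZero O U).map h) := by
    simp only [u, Category.assoc, ← Functor.map_comp]
    rw [← i.hom.naturality h]
    simp only [Functor.map_comp, ← Category.assoc]
    congr 1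
    exact (SheafCoh.shfAdj O).unit.naturality _
  intro W x
  have := SheafCoh.isLocallySurjective_unit O G
  obtain ⟨x', hx'⟩ : ∃ x', ModSupp25.app O (i.hom.app A) W x' = x :=
    ⟨ModSupp25.app O (i.inv.app A) W x, by rw [← app_comp, Iso.inv_hom_id_app]; rfl⟩
  refine ⟨_, Presheaf.imageSieve_mem J ((PresheafOfModules.toPresheaf _).map ((SheafCoh.shfAdj O).unit.app G))
    (U := op W) x', fun V a ⟨t, ht⟩ => ?_⟩
  have ht' : (u.app (op V)).hom t = res O ((ModSite.extZero O U).obj A) a x := by
    rw [← hx', res_app]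
    exact congrArg (ModSupp25.app O (i.hom.app A) V) ht
  change Ann I _ V (res O ((ModSite.extZero O U).obj A) a x)
  rw [← ht']
  clear ht ht'
  induction t using DirectSum.induction_on with
  | zero =>
    erw [map_zero]
    exact Ann.zero
  | of φ y =>
    refine Ann.step ((O.obj.map φ.op).hom f) (I.map_mem φ hf) _ ?_
    rw [show ModSupp25.app O ((ModSite.extZero O U).map h) V ((u.app (op V)).hom
        (DirectSum.of (fun χ => ModExtZero.comp ((SheafCoh.forgetP (O.over U)).obj A) (op V) χ) φ y)) =
      smSec _ ((O.obj.map φ.op).hom f) ((u.app (op V)).hom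
        (DirectSum.of (fun χ => ModExtZero.comp ((SheafCoh.forgetP (O.over U)).obj A) (op V) χ) φ y)) from ?_,
      sub_self]
    · exact Ann.zero
    refine (congrArg (fun k => (k.app (op V)).hom
      (DirectSum.of (fun χ => ModExtZero.comp ((SheafCoh.forgetP (O.over U)).obj A) (op V) χ) φ y)) hu).symm.trans ?_
    change (u.app (op V)).hom (DirectSum.lmap (ModExtZero.hcomp ((SheafCoh.forgetP (O.over U)).map h) (op V))
      (DirectSum.of (fun χ => ModExtZero.comp ((SheafCoh.forgetP (O.over U)).obj A) (op V) χ) φ y)) = _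
    rw [DirectSum.lmap_of]
    refine Eq.trans (congrArg (u.app (op V)).hom ?_) ((u.app (op V)).hom.map_smul (sc ((O.obj.map φ.op).hom f)) _)
    exact (DirectSum.lof (O.obj.obj (op V)) _
      (fun χ => ModExtZero.comp ((SheafCoh.forgetP (O.over U)).obj A) (op V) χ) φ).map_smul
        ((O.obj.map φ.op).hom f) y
  | add p q hp hq =>
    erw [map_add]
    exact hp.add hq

/-- On a slice with spanning sections the Koszul object of a generator vanishes. -/
theorem isZero_kos_generator {U V : C} (f : O.obj.obj (op U)) (hf : f ∈ I.ideal U) {r : ℕ}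
    {a : Fin r → O.obj.obj (op V)} (ha : LocSpan I V a) :
    IsZero (kos (sectList a) ((rD O V).obj
      ((inDF O).obj ((ModSite.extZero O U).obj (_root_.DerComp.awayOver O U f))))) := by
  have := isIso_smulEnd_locAway (_root_.DerComp.GSec.ofSect O U f) (ModSite.unit (O.over U))
  have hE := (isEig_extZero (I := I) (_root_.DerComp.awayOver O U f) f hf).over V
  have hiso := ((ModSite.restr O V).mapDerivedCategorySingleFunctor 0).app
    ((ModSite.extZero O U).obj (_root_.DerComp.awayOver O U f))
  have h0 := (isEigD_inDF hE).isZero_kos (sectList a) fun W g hg =>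
    (locally_over W (ha.2 W.left W.hom g hg)).mono fun T k hk => by
      refine Ideal.span_mono ?_ hk
      rintro _ ⟨i, rfl⟩
      refine ⟨_, mem_sectList.2 ⟨i, rfl⟩, ?_⟩
      change (O.obj.map T.hom.op).hom (a i) = _
      rw [← Over.w k]
  refine (isZero_kos_iff_left _ _).2 fun L hL => ?_
  have := (isZero_kos_iff_left _ _).1 h0 L hL
  exact @Equiv.subsingleton _ _ (hiso.homFromEquiv (Z := L)) this

end GrothLib.DerComp
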