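import Groth.Agent.Lib.DerComp.GammaD
import Groth.Agent.Lib.DerComp.Kos
import Groth.Agent.Lib.DCxRing.DComplete.Noetherian

/-! # Hypercohomology of a completion over a Noetherian ring of global sections -/

set_option autoImplicit false
universe u

open CategoryTheory CategoryTheory.Limits Opposite Pretriangulated

attribute [local instance] HasDerivedCategory.standard

namespace GrothLib.DerComp

variable {C : Type u} [SmallCategory C] {J : GrothendieckTopology C} {O : Sheaf J CommRingCat.{u}}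

/-- Derived complete complexes over a ring are complete for the scalars. -/
lemma sCpl_of_dcMod {A : Type u} [CommRing A] {f : A} {E : Dual.D A}
    (h : ∀ n : ℤ, DCpl.DCMod f (Dual.HD A E n)) : SCpl f E := fun _ hX φ =>
  DCpl.hom_eq_zero_of_isIso_smul (hE := hX) h φ

lemma dcMod_of_equiv' {A : Type u} [CommRing A] {f : A} {M : Type*} [AddCommGroup M] [Module A M] {N : Type*}
    [AddCommGroup N] [Module A N] (e : M ≃ₗ[A] N) (h : DCpl.DCMod f M) : DCpl.DCMod f N := by
  have key : DCpl.telMap f N ∘ (fun x j => e (x j)) = (fun x j => e (x j)) ∘ DCpl.telMap f M :=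
    funext fun x => funext fun j => by simp
  have hb : Function.Bijective (fun (x : ℕ → M) j => e (x j)) := (Equiv.arrowCongr (Equiv.refl ℕ) e.toEquiv).bijective
  exact (Function.Bijective.of_comp_iff _ hb).1 (key ▸ hb.comp h)

/-- Derived global sections of complete objects are derived complete. -/
lemma dcMod_HD_gamD {s : _root_.DerComp.GSec O} {L : DerivedCategory (ModSite.Mod O)} (hL : SCpl s L) (n : ℤ) :
    DCpl.DCMod s (Dual.HD (_root_.DerComp.GSec O) ((gamD O).obj L) n) := by
  have h := (hL.shift n).dcMod ((inDF O).obj (ModSite.unit O))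
  exact dcMod_of_equiv' (gamEquiv n L) h

theorem exists_adicCompletion_equiv [IsNoetherianRing (_root_.DerComp.GSec O)] (l : List (_root_.DerComp.GSec O))
    {K L Q : DerivedCategory (ModSite.Mod O)} {η : K ⟶ L} {g : L ⟶ Q} {d : Q ⟶ K⟦(1 : ℤ)⟧}
    (hT : Triangle.mk η g d ∈ distTriang _) (hL : CplAll l L) (hQ : IsZero (kos l Q))
    (hfin : ∀ m : ℤ, Module.Finite (_root_.DerComp.GSec O) ((inDF O).obj (ModSite.unit O) ⟶ K⟦m⟧)) (n : ℤ) :
    ∃ e : ((inDF O).obj (ModSite.unit O) ⟶ L⟦n⟧) ≃ₗ[_root_.DerComp.GSec O]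
        AdicCompletion (Ideal.span {x | x ∈ l}) ((inDF O).obj (ModSite.unit O) ⟶ K⟦n⟧),
      ∀ x, e (x ≫ η⟦n⟧') = AdicCompletion.of _ _ x := by
  let A := _root_.DerComp.GSec O
  let I : Ideal A := Ideal.span {x | x ∈ l}
  haveI := isTriangulated_gamD O
  have hfin' : ∀ m : ℤ, Module.Finite A (Dual.HD A ((gamD O).obj K) m) := fun m =>
    haveI := hfin m
    Module.Finite.equiv (gamEquiv m K)
  obtain ⟨Lh, ηh, hLh, hηh, he⟩ := DCpl.exists_hat_completion I ((gamD O).obj K) hfin'
  have hI : ∀ s ∈ l, s ∈ I := fun s hs => Ideal.subset_span hs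
  -- derived global sections of `L` are derived complete
  have hLc : DRing.IsDerivedComplete I ((gamD O).obj L) := by
    rw [DCpl.isDerivedComplete_iff]
    intro f hf m
    have hle : I ≤ cplIdeal A L := Ideal.span_le.2 fun s hs => hL s hs
    exact dcMod_HD_gamD (hle hf) m
  -- the cone vanishes modulo the Koszul complex
  have hQ' : IsZero (kos l ((gamD O).obj Q)) := by
    obtain ⟨e⟩ := nonempty_kos_map (gamD O) id l (fun s _ X => gamD_map_smul s X) Q
    rw [List.map_id] at e
    exact ((gamD O).map_isZero hQ).of_iso e.symm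
  have hpre : ∀ E : Dual.D A, DRing.IsDerivedComplete I E →
      Function.Bijective (fun ψ : (gamD O).obj L ⟶ E => (gamD O).map η ≫ ψ) := fun E hE => by
    rw [DCpl.isDerivedComplete_iff] at hE
    have hE' : CplAll l E := fun s hs => sCpl_of_dcMod (hE s (hI s hs))
    have hb := (DCpl.subsingleton_iff_precomp_bijective _ ((gamD O).map_distinguished _ hT) E).1
      (fun m => (isZero_kos_iff_left l _).1 hQ' _ (hE'.shift m)) 0
    let e0 := ((shiftFunctorZero (Dual.D A) ℤ).app E).homToEquiv (Z := (gamD O).obj L)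
    let e1 := ((shiftFunctorZero (Dual.D A) ℤ).app E).homToEquiv (Z := (gamD O).obj K)
    have : (fun ψ : (gamD O).obj L ⟶ E => (gamD O).map η ≫ ψ) =
        e1 ∘ (fun ψ : (gamD O).obj L ⟶ E⟦(0 : ℤ)⟧ => (gamD O).map η ≫ ψ) ∘ e0.symm := funext fun ψ => by
      simp [e0, e1]
    rw [this]
    exact e1.bijective.comp (hb.comp e0.symm.bijective)
  obtain ⟨u, hu⟩ := (hηh _ hLc).2 ((gamD O).map η)
  obtain ⟨v, hv⟩ := (hpre _ hLh).2 ηh
  simp only at hu hv
  have huv : u ≫ v = 𝟙 _ := (hηh _ hLh).1 (by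
    change ηh ≫ u ≫ v = ηh ≫ 𝟙 _
    exact ((Category.assoc _ _ _).symm.trans (congrArg (· ≫ v) hu)).trans (hv.trans (Category.comp_id _).symm))
  have hvu : v ≫ u = 𝟙 _ := (hpre _ hLc).1 (by
    change (gamD O).map η ≫ v ≫ u = (gamD O).map η ≫ 𝟙 _
    exact ((Category.assoc _ _ _).symm.trans (congrArg (· ≫ u) hv)).trans (hu.trans (Category.comp_id _).symm))
  let ev : (gamD O).obj L ≅ Lh := ⟨v, u, hvu, huv⟩
  obtain ⟨e, hex⟩ := he n
  let H := DerivedCategory.homologyFunctor (ModuleCat.{u} A) n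
  refine ⟨(gamEquiv n L).trans ((H.mapIso ev).toLinearEquiv.trans
    (e.trans (AdicCompletion.congr I (gamEquiv n K).symm |>.restrictScalars A))), fun x => ?_⟩
  change AdicCompletion.congr I (gamEquiv n K).symm (e ((H.map v).hom (gamEquiv n L (x ≫ η⟦n⟧')))) = _
  rw [gamEquiv_comp]
  change AdicCompletion.congr I (gamEquiv n K).symm
    (e ((H.map ((gamD O).map η) ≫ H.map v).hom (gamEquiv n K x))) = _
  rw [← Functor.map_comp, hv, hex, AdicCompletion.congr_apply, AdicCompletion.map_of]
  exact congrArg _ ((gamEquiv n K).symm_apply_apply x)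

end GrothLib.DerComp
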