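import Groth.Agent.Lib.DerComp.HomKos
import Groth.Agent.Lib.DerComp.GammaCompletion
import Groth.Agent.Lib.DerComp.Crit
import Groth.Agent.S7048
import Mathlib.RingTheory.AdicCompletion.AsTensorProduct
import Mathlib.LinearAlgebra.TensorProduct.Basic

/-! # Completion does not change morphisms with finite complete modules of extensions -/

set_option autoImplicit false
universe u

open CategoryTheory CategoryTheory.Limits Opposite Pretriangulated

attribute [local instance] HasDerivedCategory.standard

namespace GrothLib.DerComp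

/-- Finite modules over complete Noetherian rings are derived complete. -/
theorem dcMod_of_finite {A : Type u} [CommRing A] [IsNoetherianRing A] (I : Ideal A) [IsAdicComplete I A]
    (M : Type*) [AddCommGroup M] [Module A M] [Module.Finite A M] {a : A} (ha : a ∈ I) : DCpl.DCMod a M := by
  obtain ⟨n, f, hf⟩ := Module.Finite.exists_fin' A M
  let N := (Fin n → A) ⧸ LinearMap.ker f
  have hN : IsAdicComplete I N := by
    refine AdicCompletion.of_bijective_iff.1 ?_
    let e : N ≃ₗ[A] AdicCompletion I N :=
      (TensorProduct.lid A N).symm.trans ((TensorProduct.congr (AdicCompletion.ofLinearEquiv I A) (LinearEquiv.refl A N)).trans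
        ((AdicCompletion.ofTensorProductEquivOfFiniteNoetherian I N).restrictScalars A))
    have : (AdicCompletion.of I N : N → AdicCompletion I N) = e := funext fun x => by
      change _ = AdicCompletion.ofTensorProduct I N (AdicCompletion.of I A 1 ⊗ₜ[A] x)
      rw [AdicCompletion.ofTensorProduct_tmul]
      exact (one_smul (AdicCompletion I A) _).symm
    rw [this]
    exact e.bijective
  exact dcMod_of_equiv' (f.quotKerEquivOfSurjective hf) (DCpl.dcMod_of_isAdicComplete I N ha)

variable {C : Type u} [SmallCategory C] {J : GrothendieckTopology C} {O : Sheaf J CommRingCat.{u}}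

/-- Postcomposition with a map whose cone is Koszul-acyclic is bijective between complete morphism modules. -/
theorem comp_bijective_of_kos (l : List (_root_.DerComp.GSec O)) {F G L Q : DerivedCategory (ModSite.Mod O)}
    {η : G ⟶ L} {g : L ⟶ Q} {d : Q ⟶ G⟦(1 : ℤ)⟧} (hT : Triangle.mk η g d ∈ distTriang _)
    (hL : CplAll l L) (hQ : IsZero (kos l Q))
    (hG : ∀ s ∈ l, ∀ n : ℤ, DCpl.DCMod s (F ⟶ G⟦n⟧)) : Function.Bijective (fun ψ : F ⟶ G => ψ ≫ η) := by
  have hdc : ∀ s ∈ l, ∀ n : ℤ, DCpl.DCMod s (F ⟶ Q⟦n⟧) := fun s hs n =>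
    dcMod_hom_obj₃_shift (Triangle.mk η g d) hT F (hG s hs) (fun m => ((hL s hs).shift m).dcMod F) n
  have hz := subsingleton_hom_of_kos F Q l hdc fun n =>
    ⟨((shiftFunctor (DerivedCategory (ModSite.Mod O)) n).map_isZero hQ).eq_of_tgt⟩
  have hz0 : Subsingleton (F ⟶ Q) :=
    @Equiv.subsingleton _ _ (((shiftFunctorZero (DerivedCategory (ModSite.Mod O)) ℤ).app Q).homToEquiv (Z := F)).symm (hz 0)
  refine ⟨fun a b hab => ?_, fun b => ?_⟩
  · obtain ⟨y, hy⟩ := (Triangle.mk η g d).invRotate.coyoneda_exact₂ (inv_rot_of_distTriang _ hT) (a - b)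
      (show (a - b) ≫ η = 0 by rw [Preadditive.sub_comp, sub_eq_zero]; exact hab)
    refine sub_eq_zero.1 (hy.trans ?_)
    rw [(hz (-1)).elim y 0]
    exact zero_comp
  · obtain ⟨y, hy⟩ := (Triangle.mk η g d).coyoneda_exact₂ hT b (hz0.elim _ _)
    exact ⟨y, hy.symm⟩

end GrothLib.DerComp
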