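import Groth.Agent.Lib.DerComp.GammaScheme
import Groth.Prelude.Def_KLin

/-! # The action of the base ring on the derived category of a scheme over it -/

set_option autoImplicit false
universe u

open CategoryTheory CategoryTheory.Limits Opposite AlgebraicGeometry

attribute [local instance] HasDerivedCategory.standard

namespace GrothLib.DerComp

variable (A : Type u) [CommRing A] (X : Scheme.{u}) [X.Over (Spec (CommRingCat.of A))]

/-- The global sections given by the base ring. -/
noncomputable def baseSec : A →+* _root_.DerComp.GSec X.sheaf :=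
  (gsecTop (X := X)).symm.toRingHom.comp (Coh.toGlobal (X ↘ Spec (CommRingCat.of A)))

lemma baseSec_val (a : A) (U : X.Opens) : (baseSec A X a).1 U =
    (X.presheaf.map (homOfLE (le_top : U ≤ ⊤)).op).hom (Coh.toGlobal (X ↘ Spec (CommRingCat.of A)) a) := rfl

lemma smul_id_mod (a : A) (M : X.Modules) :
    a • 𝟙 M = (show M ⟶ M from _root_.DerComp.smulEnd (O := X.sheaf) (baseSec A X a) M) := by
  rw [KLin.smul_id]
  refine Scheme.Modules.hom_ext _ _ fun U => ?_
  ext m
  exact KLin.smulModΓ_app_apply M _ U m

/-- Global sections acting on the derived category of the scheme. -/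
noncomputable abbrev secSmul {K L : DCoh.D X} (s : _root_.DerComp.GSec X.sheaf) (φ : K ⟶ L) : K ⟶ L :=
  HSMul.hSMul (α := _root_.DerComp.GSec X.sheaf) (β := @Quiver.Hom (DerivedCategory (ModSite.Mod X.sheaf)) _ K L) s φ

/-- The base ring acts on the derived category through global sections. -/
theorem smul_eq_baseSec {K L : DCoh.D X} (a : A) (φ : K ⟶ L) : a • φ = secSmul X (baseSec A X a) φ := by
  have hcx : ∀ F : CochainComplex X.Modules ℤ, a • 𝟙 F =
      (show F ⟶ F from HSMul.hSMul (α := _root_.DerComp.GSec X.sheaf)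
        (β := @Quiver.Hom (CochainComplex (ModSite.Mod X.sheaf) ℤ) _ F F) (baseSec A X a) (𝟙 _)) := fun F => by
    refine HomologicalComplex.hom_ext _ _ fun i => ?_
    refine (smul_id_mod A X a (F.X i)).trans ?_
    exact (Category.comp_id _).symm
  have hid : ∀ E : DCoh.D X, a • 𝟙 E = secSmul X (baseSec A X a) (𝟙 E) := fun E => by
    let e := DerivedCategory.Q.objObjPreimageIso E
    have h1 : a • 𝟙 (DerivedCategory.Q.obj (DerivedCategory.Q.objPreimage E)) =
        secSmul X (baseSec A X a) (𝟙 (DerivedCategory.Q.obj (DerivedCategory.Q.objPreimage E))) := by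
      rw [← DerivedCategory.Q.map_id, ← Functor.map_smul, hcx]
      exact Functor.map_smul (DerivedCategory.Q (C := ModSite.Mod X.sheaf)) _ _
    calc a • 𝟙 E = e.inv ≫ (a • 𝟙 _) ≫ e.hom := by
          rw [Linear.smul_comp, Category.id_comp, Linear.comp_smul, e.inv_hom_id]
      _ = e.inv ≫ secSmul X (baseSec A X a) (𝟙 _) ≫ e.hom := by rw [h1]
      _ = _ := by
          refine (congrArg (e.inv ≫ ·) ((Linear.smul_comp (C := DerivedCategory (ModSite.Mod X.sheaf)) _ _ _ _ _ _).trans
            (congrArg (HSMul.hSMul _) (Category.id_comp _)))).trans ?_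
          exact (Linear.comp_smul (C := DerivedCategory (ModSite.Mod X.sheaf)) _ _ _ _ _ _).trans
            (congrArg (HSMul.hSMul _) e.inv_hom_id)
  calc a • φ = (a • 𝟙 K) ≫ φ := by rw [Linear.smul_comp, Category.id_comp]
    _ = secSmul X (baseSec A X a) (𝟙 K) ≫ φ := by rw [hid]
    _ = _ := (Linear.smul_comp (C := DerivedCategory (ModSite.Mod X.sheaf)) _ _ _ _ _ _).trans
        (congrArg (HSMul.hSMul _) (Category.id_comp _))

end GrothLib.DerComp
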