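import Groth.Agent.Lib.DerComp.PushKos
import Groth.Agent.Lib.DCxRing.KoszulCone
import Groth.Agent.Lib.DerCat.Theta
import Mathlib.Algebra.Homology.HomotopyCategory.HomComplexSingle
import Mathlib.Algebra.Homology.DerivedCategory.KProjective
import Mathlib.CategoryTheory.Linear.Yoneda

/-! # Derived global sections as complexes over the ring of global sections -/

set_option autoImplicit false
universe u

open CategoryTheory CategoryTheory.Limits Opposite Pretriangulated

attribute [local instance] HasDerivedCategory.standard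

namespace GrothLib.DerComp

variable {C : Type u} [SmallCategory C] {J : GrothendieckTopology C} (O : Sheaf J CommRingCat.{u})

/-- Global sections as modules over global sections. -/
noncomputable abbrev gamMod : ModSite.Mod O ⥤ ModuleCat.{u} (_root_.DerComp.GSec O) :=
  (linearCoyoneda (_root_.DerComp.GSec O) (ModSite.Mod O)).obj (op (ModSite.unit O))

instance additive_gamMod : (gamMod O).Additive where
  map_add {X Y f g} := ModuleCat.hom_ext (LinearMap.ext fun h => Preadditive.comp_add _ _ _ h f g)

/-- Global sections on homotopy categories. -/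
noncomputable abbrev gamK : HomotopyCategory (ModSite.Mod O) (ComplexShape.up ℤ) ⥤
    HomotopyCategory (ModuleCat.{u} (_root_.DerComp.GSec O)) (ComplexShape.up ℤ) :=
  (gamMod O).mapHomotopyCategory (ComplexShape.up ℤ)

/-- Derived global sections. -/
noncomputable abbrev gamD : DerivedCategory (ModSite.Mod O) ⥤ Dual.D (_root_.DerComp.GSec O) :=
  haveI : IsGrothendieckAbelian.{u} (ModSite.Mod O) := KInj.isGrothendieckAbelian_sheafOfModules _
  KInj.res _ ⋙ gamK O ⋙ DerivedCategory.Qh

theorem isTriangulated_gamD : (gamD O).IsTriangulated :=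
  haveI : IsGrothendieckAbelian.{u} (ModSite.Mod O) := KInj.isGrothendieckAbelian_sheafOfModules _
  SiteDer.isTriangulated_res_map (gamMod O)

variable {O}

lemma gamK_map_smul {X Y : HomotopyCategory (ModSite.Mod O) (ComplexShape.up ℤ)} (s : _root_.DerComp.GSec O)
    (f : X ⟶ Y) : (gamK O).map (s • f) = s • (gamK O).map f := by
  obtain ⟨f, rfl⟩ := (HomotopyCategory.quotient _ _).map_surjective f
  erw [← (HomotopyCategory.quotient _ _).map_smul s f]
  change (HomotopyCategory.quotient _ _).map (((gamMod O).mapHomologicalComplex _).map (s • f)) =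
    s • (HomotopyCategory.quotient _ _).map (((gamMod O).mapHomologicalComplex _).map f)
  rw [← Functor.map_smul]
  congr 1
  refine HomologicalComplex.hom_ext _ _ fun i => ModuleCat.hom_ext (LinearMap.ext fun h => ?_)
  exact Linear.comp_smul _ _ _ (show ModSite.unit O ⟶ _ from h) s (f.f i)

lemma gamD_map_smul (s : _root_.DerComp.GSec O) (X : DerivedCategory (ModSite.Mod O)) :
    (gamD O).map (s • 𝟙 X) = s • 𝟙 ((gamD O).obj X) := by
  have : IsGrothendieckAbelian.{u} (ModSite.Mod O) := KInj.isGrothendieckAbelian_sheafOfModules _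
  change DerivedCategory.Qh.map ((gamK O).map ((KInj.res _).map (s • 𝟙 X))) = _
  rw [res_map_smul_id, gamK_map_smul, CategoryTheory.Functor.map_id, Functor.map_smul, CategoryTheory.Functor.map_id]
  rfl

variable (O) in
/-- The section `1`. -/
noncomputable def gamOne : ModuleCat.of (_root_.DerComp.GSec O) (_root_.DerComp.GSec O) ⟶
    (gamMod O).obj (ModSite.unit O) :=
  ModuleCat.ofHom (LinearMap.toSpanSingleton _ (ModSite.unit O ⟶ ModSite.unit O) (𝟙 _))

/-- The single complex on the ring. -/
noncomputable abbrev ringCx (O : Sheaf J CommRingCat.{u}) (n : ℤ) :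
    CochainComplex (ModuleCat.{u} (_root_.DerComp.GSec O)) ℤ :=
  (CochainComplex.singleFunctor _ n).obj (ModuleCat.of (_root_.DerComp.GSec O) (_root_.DerComp.GSec O))

instance isKProjective_ringCx (n : ℤ) : (ringCx O n).IsKProjective := by
  have : (ringCx O n).IsStrictlyLE n := inferInstance
  have : ∀ i, Projective ((ringCx O n).X i) := fun i => by
    rcases eq_or_ne i n with rfl | hi
    · exact Projective.of_iso (HomologicalComplex.singleObjXSelf (ComplexShape.up ℤ) i _).symm inferInstance
    · exact (HomologicalComplex.isZero_single_obj_X _ _ _ _ hi).projective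
  exact CochainComplex.isKProjective_of_projective _ n

/-- A map out of a single unit as a section in a complex. -/
noncomputable def gamGen (n : ℤ) : ringCx O n ⟶
    ((gamMod O).mapHomologicalComplex (ComplexShape.up ℤ)).obj ((CochainComplex.singleFunctor _ n).obj (ModSite.unit O)) :=
  (CochainComplex.singleFunctor _ n).map (gamOne O) ≫
    (HomologicalComplex.singleMapHomologicalComplex (gamMod O) (ComplexShape.up ℤ) n).inv.app (ModSite.unit O)

lemma gamGen_comp_f (n : ℤ) {I : CochainComplex (ModSite.Mod O) ℤ}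
    (f : (CochainComplex.singleFunctor _ n).obj (ModSite.unit O) ⟶ I) :
    ((HomologicalComplex.singleObjXSelf (ComplexShape.up ℤ) n
        (ModuleCat.of (_root_.DerComp.GSec O) (_root_.DerComp.GSec O))).inv ≫
      (gamGen n ≫ ((gamMod O).mapHomologicalComplex _).map f).f n).hom (1 : _root_.DerComp.GSec O) =
      ((HomologicalComplex.singleObjXSelf (ComplexShape.up ℤ) n (ModSite.unit O)).inv ≫ f.f n :
        ModSite.unit O ⟶ I.X n) := by
  have h : (HomologicalComplex.singleObjXSelf (ComplexShape.up ℤ) n
      (ModuleCat.of (_root_.DerComp.GSec O) (_root_.DerComp.GSec O))).inv ≫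
      (gamGen n ≫ ((gamMod O).mapHomologicalComplex _).map f).f n =
      gamOne O ≫ (gamMod O).map ((HomologicalComplex.singleObjXSelf (ComplexShape.up ℤ) n (ModSite.unit O)).inv ≫ f.f n) := by
    simp [gamGen, CochainComplex.singleFunctor, CochainComplex.singleFunctors, HomologicalComplex.single_map_f_self]
    erw [Category.assoc, Iso.inv_hom_id_assoc, Category.assoc, Category.assoc, Iso.inv_hom_id_assoc]
    exact congrArg (gamOne O ≫ ·) ((gamMod O).map_comp _ _).symm
  rw [h]
  change ((1 : _root_.DerComp.GSec O) • 𝟙 (ModSite.unit O)) ≫ _ = _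
  rw [one_smul, Category.id_comp]

open CochainComplex.HomComplex in
/-- Maps out of the single unit complex are sections. -/
theorem bijective_gamGen (n : ℤ) (I : CochainComplex (ModSite.Mod O) ℤ) :
    Function.Bijective fun f : (HomotopyCategory.quotient _ _).obj ((CochainComplex.singleFunctor _ n).obj (ModSite.unit O)) ⟶
        (HomotopyCategory.quotient _ _).obj I =>
      (HomotopyCategory.quotient _ _).map (gamGen n) ≫ (gamK O).map f := by
  let X₀ := ModuleCat.of (_root_.DerComp.GSec O) (_root_.DerComp.GSec O)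
  have hm : ∀ f : (CochainComplex.singleFunctor _ n).obj (ModSite.unit O) ⟶ I,
      (HomotopyCategory.quotient _ _).map (gamGen n) ≫ (gamK O).map ((HomotopyCategory.quotient _ _).map f) =
        (HomotopyCategory.quotient _ _).map (gamGen n ≫ ((gamMod O).mapHomologicalComplex _).map f) :=
    fun f => ((HomotopyCategory.quotient _ _).map_comp _ _).symm
  constructor
  · suffices ∀ f, (HomotopyCategory.quotient _ _).map (gamGen n) ≫ (gamK O).map f = 0 → f = 0 from fun f g h =>
      sub_eq_zero.1 (this _ ((congrArg _ ((gamK O).map_sub)).trans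
        ((Preadditive.comp_sub _ _ _).trans (sub_eq_zero.2 h))))
    intro f hf
    obtain ⟨f, rfl⟩ := (HomotopyCategory.quotient _ _).map_surjective f
    rw [hm] at hf
    obtain ⟨z, hz⟩ := Cochain.equivHomotopy _ _
      (HomotopyCategory.homotopyOfEq _ 0 (hf.trans (Functor.map_zero _ _ _).symm))
    obtain ⟨m, rfl⟩ := Cochain.fromSingleMk_surjective z (n - 1) (by omega)
    let m' : ModSite.unit O ⟶ I.X (n - 1) := m.hom (1 : _root_.DerComp.GSec O)
    rw [Cochain.δ_fromSingleMk _ _ 0 n (by omega), Cochain.ofHom_zero, add_zero] at hz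
    have hf' : (HomologicalComplex.singleObjXSelf (ComplexShape.up ℤ) n (ModSite.unit O)).inv ≫ f.f n =
        m' ≫ I.d (n - 1) n := by
      rw [← gamGen_comp_f]
      have h := congrArg (fun c => (HomologicalComplex.singleObjXSelf (ComplexShape.up ℤ) n X₀).inv ≫
        Cochain.v c n n (add_zero n)) hz
      erw [Cochain.ofHom_v, Cochain.fromSingleMk_v, Iso.inv_hom_id_assoc] at h
      exact congrArg (fun t => t.hom (1 : _root_.DerComp.GSec O)) h
    refine (HomotopyCategory.eq_of_homotopy _ _ ((Cochain.equivHomotopy f 0).symm ⟨Cochain.fromSingleMk m'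
      (show n + (-1) = n - 1 by omega), ?_⟩)).trans (Functor.map_zero _ _ _)
    rw [Cochain.δ_fromSingleMk _ _ 0 n (by omega), Cochain.ofHom_zero, add_zero]
    refine (Cochain.fromSingleEquiv (add_zero n)).injective ?_
    rw [Cochain.fromSingleEquiv_fromSingleMk, ← hf']
    simp [Cochain.fromSingleEquiv]
  · intro g
    obtain ⟨g, rfl⟩ := (HomotopyCategory.quotient _ _).map_surjective g
    let h : ModSite.unit O ⟶ I.X n :=
      ((HomologicalComplex.singleObjXSelf (ComplexShape.up ℤ) n X₀).inv ≫ g.f n).hom (1 : _root_.DerComp.GSec O)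
    have hd : ∀ k, (ComplexShape.up ℤ).Rel n k → h ≫ I.d n k = 0 := fun k _ => by
      have e := congrArg (fun t => ((HomologicalComplex.singleObjXSelf (ComplexShape.up ℤ) n X₀).inv ≫ t).hom
        (1 : _root_.DerComp.GSec O)) (g.comm n k)
      simp [CochainComplex.singleFunctor, CochainComplex.singleFunctors] at e
      exact e
    refine ⟨(HomotopyCategory.quotient _ _).map (HomologicalComplex.mkHomFromSingle h hd), ?_⟩
    refine (hm _).trans (congrArg _ (HomologicalComplex.from_single_hom_ext ?_))
    apply (cancel_epi (HomologicalComplex.singleObjXSelf (ComplexShape.up ℤ) n X₀).inv).1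
    refine ModuleCat.hom_ext (LinearMap.ext_ring ?_)
    refine (gamGen_comp_f n _).trans ?_
    simp [h]
    rfl

/-- Global sections of cohomology as homology of derived global sections. -/
noncomputable def gamTheta (n : ℤ) (K : DerivedCategory (ModSite.Mod O))
    (φ : (DerivedCategory.singleFunctor (ModSite.Mod O) n).obj (ModSite.unit O) ⟶ K) :
    Dual.HD (_root_.DerComp.GSec O) ((gamD O).obj K) n :=
  haveI : IsGrothendieckAbelian.{u} (ModSite.Mod O) := KInj.isGrothendieckAbelian_sheafOfModules _
  (SiteDer.theta (DerivedCategory.Qh.map ((HomotopyCategory.quotient _ _).map (gamGen n) ≫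
    (gamK O).map ((KInj.resAdj (ModSite.Mod O)).homEquiv
      ((HomotopyCategory.quotient _ _).obj ((CochainComplex.singleFunctor _ n).obj (ModSite.unit O))) K φ)) :
      (DerivedCategory.singleFunctor (ModuleCat.{u} (_root_.DerComp.GSec O)) n).obj
        (ModuleCat.of (_root_.DerComp.GSec O) (_root_.DerComp.GSec O)) ⟶ (gamD O).obj K)).hom
    (1 : _root_.DerComp.GSec O)

lemma gamTheta_comp (n : ℤ) {K L : DerivedCategory (ModSite.Mod O)} (η : K ⟶ L)
    (φ : (DerivedCategory.singleFunctor (ModSite.Mod O) n).obj (ModSite.unit O) ⟶ K) :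
    gamTheta n L (φ ≫ η) =
      ((DerivedCategory.homologyFunctor _ n).map ((gamD O).map η)).hom (gamTheta n K φ) := by
  have : IsGrothendieckAbelian.{u} (ModSite.Mod O) := KInj.isGrothendieckAbelian_sheafOfModules _
  let Q := HomotopyCategory.quotient (ModuleCat.{u} (_root_.DerComp.GSec O)) (ComplexShape.up ℤ)
  have e : DerivedCategory.Qh.map (Q.map (gamGen n) ≫ (gamK O).map ((KInj.resAdj (ModSite.Mod O)).homEquiv
      ((HomotopyCategory.quotient _ _).obj ((CochainComplex.singleFunctor _ n).obj (ModSite.unit O))) L (φ ≫ η))) =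
      DerivedCategory.Qh.map (Q.map (gamGen n) ≫ (gamK O).map ((KInj.resAdj (ModSite.Mod O)).homEquiv
      ((HomotopyCategory.quotient _ _).obj ((CochainComplex.singleFunctor _ n).obj (ModSite.unit O))) K φ)) ≫
      (gamD O).map η := by
    refine (congrArg (fun t => DerivedCategory.Qh.map (Q.map (gamGen n) ≫ (gamK O).map t))
      ((KInj.resAdj (ModSite.Mod O)).homEquiv_naturality_right φ η)).trans ?_
    exact (congrArg DerivedCategory.Qh.map ((congrArg (Q.map (gamGen n) ≫ ·) ((gamK O).map_comp _ _)).trans
      (Category.assoc _ _ _).symm)).trans (DerivedCategory.Qh.map_comp _ _)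
  exact congrArg (fun t => t.hom (1 : _root_.DerComp.GSec O))
    ((congrArg SiteDer.theta e).trans (SiteDer.theta_comp _ ((gamD O).map η)))

lemma gamTheta_add (n : ℤ) (K : DerivedCategory (ModSite.Mod O))
    (φ ψ : (DerivedCategory.singleFunctor (ModSite.Mod O) n).obj (ModSite.unit O) ⟶ K) :
    gamTheta n K (φ + ψ) = gamTheta n K φ + gamTheta n K ψ := by
  have : IsGrothendieckAbelian.{u} (ModSite.Mod O) := KInj.isGrothendieckAbelian_sheafOfModules _
  have : (KInj.res (ModSite.Mod O)).Additive := (KInj.resAdj (ModSite.Mod O)).right_adjoint_additive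
  simp only [gamTheta, Adjunction.homEquiv_unit, SiteDer.theta]
  erw [Functor.map_add, Preadditive.comp_add, Functor.map_add, Preadditive.comp_add, Functor.map_add,
    Functor.map_add, Preadditive.comp_add]
  rfl

lemma gamTheta_smul (n : ℤ) (K : DerivedCategory (ModSite.Mod O)) (s : _root_.DerComp.GSec O)
    (φ : (DerivedCategory.singleFunctor (ModSite.Mod O) n).obj (ModSite.unit O) ⟶ K) :
    gamTheta n K (s • φ) = s • gamTheta n K φ := by
  rw [show s • φ = φ ≫ (s • 𝟙 K) by rw [Linear.comp_smul, Category.comp_id], gamTheta_comp, gamD_map_smul,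
    DR.homologyFunctor_map_smul_id]
  rfl

theorem bijective_gamTheta (n : ℤ) (K : DerivedCategory (ModSite.Mod O)) : Function.Bijective (gamTheta n K) := by
  have : IsGrothendieckAbelian.{u} (ModSite.Mod O) := KInj.isGrothendieckAbelian_sheafOfModules _
  let R := ModuleCat.of (_root_.DerComp.GSec O) (_root_.DerComp.GSec O)
  let ev : (R ⟶ (DerivedCategory.homologyFunctor (ModuleCat.{u} (_root_.DerComp.GSec O)) n).obj ((gamD O).obj K)) ≃
      Dual.HD (_root_.DerComp.GSec O) ((gamD O).obj K) n :=
    ModuleCat.homEquiv.trans (LinearMap.ringLmapEquivSelf (_root_.DerComp.GSec O) (_root_.DerComp.GSec O) _).toEquiv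
  exact ev.bijective.comp ((DerTheta.thetaBij_of_projective R n _).comp
    ((CochainComplex.IsKProjective.Qh_map_bijective (ringCx O n) _).comp
      ((bijective_gamGen n ((KInj.res _).obj K).as).comp
        ((KInj.resAdj (ModSite.Mod O)).homEquiv
          ((HomotopyCategory.quotient _ _).obj ((CochainComplex.singleFunctor _ n).obj (ModSite.unit O))) K).bijective)))

/-- Hypercohomology is the homology of derived global sections. -/
noncomputable def gamEquiv (n : ℤ) (K : DerivedCategory (ModSite.Mod O)) :
    ((inDF O).obj (ModSite.unit O) ⟶ K⟦n⟧) ≃ₗ[_root_.DerComp.GSec O]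
      Dual.HD (_root_.DerComp.GSec O) ((gamD O).obj K) n :=
  let e : ((DerivedCategory.singleFunctor (ModSite.Mod O) n).obj (ModSite.unit O))⟦n⟧ ≅ (inDF O).obj (ModSite.unit O) :=
    ((DerivedCategory.singleFunctors (ModSite.Mod O)).shiftIso n 0 n (add_zero n)).app _
  let F : ((DerivedCategory.singleFunctor (ModSite.Mod O) n).obj (ModSite.unit O) ⟶ K) →ₗ[_root_.DerComp.GSec O]
      ((inDF O).obj (ModSite.unit O) ⟶ K⟦n⟧) :=
    { toFun := fun φ => e.inv ≫ φ⟦n⟧'
      map_add' := fun φ ψ => by rw [Functor.map_add, Preadditive.comp_add]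
      map_smul' := fun s φ => by rw [Functor.map_smul, Linear.comp_smul]; rfl }
  (LinearEquiv.ofBijective F (e.homFromEquiv.bijective.comp
      (Functor.FullyFaithful.ofFullyFaithful (shiftFunctor _ n)).homEquiv.bijective)).symm.trans
    (LinearEquiv.ofBijective
      { toFun := gamTheta n K, map_add' := gamTheta_add n K, map_smul' := gamTheta_smul n K }
      (bijective_gamTheta n K))

lemma gamEquiv_comp (n : ℤ) {K L : DerivedCategory (ModSite.Mod O)} (η : K ⟶ L)
    (x : (inDF O).obj (ModSite.unit O) ⟶ K⟦n⟧) :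
    gamEquiv n L (x ≫ η⟦n⟧') =
      ((DerivedCategory.homologyFunctor _ n).map ((gamD O).map η)).hom (gamEquiv n K x) := by
  let e : ((DerivedCategory.singleFunctor (ModSite.Mod O) n).obj (ModSite.unit O))⟦n⟧ ≅ (inDF O).obj (ModSite.unit O) :=
    ((DerivedCategory.singleFunctors (ModSite.Mod O)).shiftIso n 0 n (add_zero n)).app _
  obtain ⟨ψ, hψ⟩ := (shiftFunctor (DerivedCategory (ModSite.Mod O)) n).map_surjective (e.hom ≫ x)
  have hx : x = e.inv ≫ ψ⟦n⟧' := by rw [hψ, Iso.inv_hom_id_assoc]
  have key : ∀ {M : DerivedCategory (ModSite.Mod O)} (χ : (DerivedCategory.singleFunctor (ModSite.Mod O) n).obj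
      (ModSite.unit O) ⟶ M), gamEquiv n M (e.inv ≫ χ⟦n⟧') = gamTheta n M χ := fun χ => by
    rw [gamEquiv, LinearEquiv.trans_apply]
    exact congrArg (gamTheta n _) ((LinearEquiv.symm_apply_eq _).2 rfl)
  rw [hx, Category.assoc, ← Functor.map_comp, key, key, gamTheta_comp]

end GrothLib.DerComp
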