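import Groth.Prelude.Def_DerComp
import Groth.Agent.Lib.ModFlat.Basic
import Groth.Agent.Lib.SiteDer.ModGen

/-! # Objects corepresenting sections, and multiplication by a section -/

set_option autoImplicit false
universe u

open CategoryTheory CategoryTheory.Limits Opposite

namespace GrothLib.DerComp

variable {C : Type u} [SmallCategory C] {J : GrothendieckTopology C} {O : Sheaf J CommRingCat.{u}}

/-- A section of `O` as a scalar for sections of modules. -/
abbrev sc {V : C} (r : O.obj.obj (op V)) : (ModSite.ringSh O).obj.obj (op V) := r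

/-- `P` corepresents sections over `V`. -/
structure SecRep (P : ModSite.Mod O) (V : C) where
  eqv (G : ModSite.Mod O) : (P ⟶ G) ≃ G.val.obj (op V)
  comp {G G' : ModSite.Mod O} (a : P ⟶ G) (b : G ⟶ G') : eqv G' (a ≫ b) = b.val.app (op V) (eqv G a)

/-- `j_!O_V` corepresents sections over `V`. -/
noncomputable def freeRep (O : Sheaf J CommRingCat.{u}) (V : C) : SecRep (ModSite.freeOn O V) V where
  eqv := ModFlat.freeOnEquiv O V
  comp := ModFlat.freeOnEquiv_comp V

/-- The generators of the derived theory corepresent sections. -/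
noncomputable def freeModRep (O : Sheaf J CommRingCat.{u}) (V : C) :
    SecRep ((SiteDer.freeMod O).obj V) V where
  eqv G := SiteDer.secMod G V
  comp a b := SiteDer.secMod_comp V a b

namespace SecRep

variable {P Q : ModSite.Mod O} {V : C} (e : SecRep P V) (e' : SecRep Q V)

lemma eqv_eq {G : ModSite.Mod O} (a : P ⟶ G) : e.eqv G a = a.val.app (op V) (e.eqv P (𝟙 P)) := by
  rw [← e.comp, Category.id_comp]

lemma hom_ext {G : ModSite.Mod O} {a b : P ⟶ G} (h : e.eqv G a = e.eqv G b) : a = b :=
  (e.eqv G).injective h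

lemma eqv_add {G : ModSite.Mod O} (a b : P ⟶ G) : e.eqv G (a + b) = e.eqv G a + e.eqv G b := by
  rw [e.eqv_eq (a + b), e.eqv_eq a, e.eqv_eq b]
  rfl

lemma eqv_zero (G : ModSite.Mod O) : e.eqv G (0 : P ⟶ G) = 0 := by
  rw [e.eqv_eq]
  rfl

/-- Two objects corepresenting the same sections are isomorphic. -/
noncomputable def iso : P ≅ Q where
  hom := (e.eqv Q).symm (e'.eqv Q (𝟙 Q))
  inv := (e'.eqv P).symm (e.eqv P (𝟙 P))
  hom_inv_id := e.hom_ext (by rw [e.comp, Equiv.apply_symm_apply, ← e'.eqv_eq, Equiv.apply_symm_apply])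
  inv_hom_id := e'.hom_ext (by rw [e'.comp, Equiv.apply_symm_apply, ← e.eqv_eq, Equiv.apply_symm_apply])

lemma eqv_iso_comp {G : ModSite.Mod O} (a : Q ⟶ G) : e.eqv G ((e.iso e').hom ≫ a) = e'.eqv G a := by
  rw [e.comp, iso, Equiv.apply_symm_apply, ← e'.eqv_eq]

/-- Multiplication by a section over `V`. -/
noncomputable def mulEnd (r : O.obj.obj (op V)) : P ⟶ P := (e.eqv P).symm (sc r • e.eqv P (𝟙 P))

lemma eqv_mulEnd_comp (r : O.obj.obj (op V)) {G : ModSite.Mod O} (a : P ⟶ G) :
    e.eqv G (e.mulEnd r ≫ a) = sc r • e.eqv G a := by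
  rw [e.comp, mulEnd, Equiv.apply_symm_apply, e.eqv_eq a]
  exact (a.val.app (op V)).hom.map_smul _ _

lemma eq_mulEnd {u : P ⟶ P} {r : O.obj.obj (op V)} (h : e.eqv P u = sc r • e.eqv P (𝟙 P)) :
    u = e.mulEnd r := e.hom_ext (by rw [h, mulEnd, Equiv.apply_symm_apply])

lemma iso_mulEnd (r : O.obj.obj (op V)) :
    e.mulEnd r ≫ (e.iso e').hom = (e.iso e').hom ≫ e'.mulEnd r := by
  apply e.hom_ext
  rw [e.eqv_mulEnd_comp, e.eqv_iso_comp, e'.eqv_eq, ← Category.comp_id (e.iso e').hom, e.eqv_iso_comp]
  exact (Equiv.apply_symm_apply _ _).symm.trans (e'.eqv_eq (e'.mulEnd r))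

lemma smulEnd_eq (s : _root_.DerComp.GSec O) : _root_.DerComp.smulEnd s P = e.mulEnd (s.1 V) := by
  refine e.eq_mulEnd ?_
  rw [e.eqv_eq]
  rfl

end SecRep

section Slice

variable (O) in
/-- Extension by zero of an object corepresenting sections over `W : C/U`. -/
noncomputable def extRep {U : C} {W : Over U} {P : ModSite.Mod (O.over U)} (e : SecRep P W) :
    SecRep ((ModSite.extZero O U).obj P) W.left where
  eqv G := ((ModSite.extZeroAdj O U).homEquiv P G).trans (e.eqv ((ModSite.restr O U).obj G))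
  comp {G G'} a b := by
    simp only [Equiv.trans_apply, Adjunction.homEquiv_naturality_right]
    exact e.comp _ _

lemma extRep_mulEnd {U : C} {W : Over U} {P : ModSite.Mod (O.over U)} (e : SecRep P W)
    (r : O.obj.obj (op W.left)) :
    (ModSite.extZero O U).map (e.mulEnd r) = (extRep O e).mulEnd r := by
  refine (extRep O e).eq_mulEnd ?_
  simp only [extRep, Equiv.trans_apply]
  rw [← Category.comp_id ((ModSite.extZero O U).map (e.mulEnd r)), Adjunction.homEquiv_naturality_left]
  exact e.eqv_mulEnd_comp r _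

/-- The structure sheaf of `C/U` corepresents sections over `U`. -/
noncomputable def unitRep (O : Sheaf J CommRingCat.{u}) (U : C) :
    SecRep (ModSite.unit (O.over U)) (Over.mk (𝟙 U) : Over U) where
  eqv G := G.unitHomEquiv.trans
    { toFun := fun s => s.1 (op (Over.mk (𝟙 U)))
      invFun := fun x => PresheafOfModules.sectionsMk
        (fun W => G.val.map (Over.homMk W.unop.hom (by simp) : W.unop ⟶ Over.mk (𝟙 U)).op x) fun W W' h => by
        have key : (Over.homMk W.unop.hom (by simp) : W.unop ⟶ Over.mk (𝟙 U)).op ≫ h =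
            (Over.homMk W'.unop.hom (by simp) : W'.unop ⟶ Over.mk (𝟙 U)).op :=
          Quiver.Hom.unop_inj (Over.OverMorphism.ext (by simp))
        rw [← PresheafOfModules.map_comp_apply, key]
      left_inv := fun s => by
        refine PresheafOfModules.sections_ext _ _ fun W => ?_
        exact s.2 (Over.homMk W.unop.hom (by simp) : W.unop ⟶ Over.mk (𝟙 U)).op
      right_inv := fun x => by
        change G.val.map (Over.homMk (𝟙 U) _ : Over.mk (𝟙 U) ⟶ Over.mk (𝟙 U)).op x = x
        rw [show (Over.homMk (𝟙 U) (by simp) : Over.mk (𝟙 U) ⟶ Over.mk (𝟙 U)) = 𝟙 _ from rfl, op_id,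
          PresheafOfModules.map_id]
        rfl }
  comp a b := rfl

lemma ofSect_val_id (U : C) (f : O.obj.obj (op U)) :
    (_root_.DerComp.GSec.ofSect O U f).1 (Over.mk (𝟙 U)) = f := by
  change (O.obj.map (𝟙 U).op).hom f = f
  simp

lemma toOver_val (s : _root_.DerComp.GSec O) {U : C} (W : Over U) :
    (_root_.DerComp.GSec.toOver s U).1 W = s.1 W.left := rfl

lemma ofSect_val (U : C) (f : O.obj.obj (op U)) (W : Over U) :
    (_root_.DerComp.GSec.ofSect O U f).1 W = (O.obj.map W.hom.op).hom f := rfl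

end Slice

end GrothLib.DerComp
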