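import Groth.Agent.Lib.DerComp.GammaD
import Groth.Agent.Lib.DerComp.GlobalGen
import Groth.Agent.Lib.DerComp.Rep
import Groth.Agent.Lib.OX.AffineSections
import Groth.Agent.Lib.QCoh.FT

/-! # Hypercohomology over an affine scheme as a module over global sections -/

set_option autoImplicit false
universe u

open CategoryTheory CategoryTheory.Limits Opposite AlgebraicGeometry

attribute [local instance] HasDerivedCategory.standard

namespace GrothLib.DerComp

variable {X : Scheme.{u}}

/-- Global sections as families. -/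
noncomputable def gsecTop : _root_.DerComp.GSec X.sheaf ≃+* Γ(X, (⊤ : X.Opens)) where
  toFun s := s.1 ⊤
  invFun f := ⟨fun U => (X.presheaf.map (homOfLE (le_top : U ≤ ⊤)).op).hom f, fun U V g =>
    (res_res (O := X.sheaf) (homOfLE (le_top : U ≤ ⊤)) g f)⟩
  left_inv s := Subtype.ext (funext fun U => s.2 (homOfLE (le_top : U ≤ ⊤)))
  right_inv f := by simp
  map_mul' _ _ := rfl
  map_add' _ _ := rfl

theorem isNoetherianRing_gsec [IsAffine X] [IsLocallyNoetherian X] :
    IsNoetherianRing (_root_.DerComp.GSec X.sheaf) :=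
  haveI : IsNoetherianRing Γ(X, (⊤ : X.Opens)) :=
    IsLocallyNoetherian.component_noetherian ⟨⊤, isAffineOpen_top X⟩
  isNoetherianRing_of_ringEquiv _ (gsecTop (X := X)).symm

/-- The structure sheaf corepresents global sections. -/
noncomputable def unitTopRep (X : Scheme.{u}) : SecRep (ModSite.unit X.sheaf) (⊤ : X.Opens) where
  eqv G := G.unitHomEquiv.trans
    { toFun := fun s => s.1 (op ⊤)
      invFun := fun x => PresheafOfModules.sectionsMk
        (fun W => G.val.map (homOfLE (le_top : W.unop ≤ ⊤)).op x) fun W W' h => by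
        rw [← PresheafOfModules.map_comp_apply]
        rfl
      left_inv := fun s => PresheafOfModules.sections_ext _ _ fun W => s.2 (homOfLE (le_top : W.unop ≤ ⊤)).op
      right_inv := fun x => by
        change G.val.map (homOfLE (le_refl (⊤ : X.Opens))).op x = x
        rw [show (homOfLE (le_refl (⊤ : X.Opens))).op = 𝟙 (op (⊤ : X.Opens)) from rfl, PresheafOfModules.map_id]
        rfl }
  comp a b := rfl

theorem thetaBij_unit [IsAffine X] {E : DerivedCategory (ModSite.Mod X.sheaf)}
    (hE : DCoh.IsQCohD (X := X) E) (j : ℤ) :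
    Function.Bijective (fun φ : (DerivedCategory.singleFunctor (ModSite.Mod X.sheaf) j).obj (ModSite.unit X.sheaf) ⟶ E =>
      SiteDer.theta φ) := by
  let i : (SiteDer.freeMod X.sheaf).obj (⊤ : X.Opens) ≅ ModSite.unit X.sheaf := (freeModRep X.sheaf (⊤ : X.Opens)).iso (unitTopRep X)
  let a := (DerivedCategory.singleFunctor (ModSite.Mod X.sheaf) j).mapIso i
  have h := OX.theta_bijective (isAffineOpen_top X) hE j
  have key : (fun φ : (DerivedCategory.singleFunctor (ModSite.Mod X.sheaf) j).obj (ModSite.unit X.sheaf) ⟶ E =>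
      SiteDer.theta φ) = (fun t => i.inv ≫ t) ∘ (fun ψ => SiteDer.theta ψ) ∘ (fun φ => a.hom ≫ φ) := funext fun φ => by
    exact ((congrArg (i.inv ≫ ·) (SiteDer.theta_map_comp (A := ModSite.Mod X.sheaf) i.hom φ)).trans (Iso.inv_hom_id_assoc i _)).symm
  rw [key]
  exact i.homFromEquiv.bijective.comp (h.comp a.symm.homFromEquiv.bijective)

/-- Hypercohomology with coherent cohomology over an affine scheme is finite. -/
theorem finite_hom_unit_shift [IsAffine X] {K : DerivedCategory (ModSite.Mod X.sheaf)}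
    (hq : DCoh.IsQCohD (X := X) K) (m : ℤ) (hc : Coh.IsCoh (DCoh.HD (X := X) K m)) :
    Module.Finite (_root_.DerComp.GSec X.sheaf) ((inDF X.sheaf).obj (ModSite.unit X.sheaf) ⟶ K⟦m⟧) := by
  let S := (DerivedCategory.singleFunctor (ModSite.Mod X.sheaf) m).obj (ModSite.unit X.sheaf)
  let e : S⟦m⟧ ≅ (inDF X.sheaf).obj (ModSite.unit X.sheaf) :=
    ((DerivedCategory.singleFunctors (ModSite.Mod X.sheaf)).shiftIso m 0 m (add_zero m)).app _
  let F : (S ⟶ K) →ₗ[_root_.DerComp.GSec X.sheaf] ((inDF X.sheaf).obj (ModSite.unit X.sheaf) ⟶ K⟦m⟧) :=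
    { toFun := fun φ => e.inv ≫ φ⟦m⟧'
      map_add' := fun φ ψ => by rw [Functor.map_add, Preadditive.comp_add]
      map_smul' := fun s φ => by rw [Functor.map_smul, Linear.comp_smul]; rfl }
  have hF : Function.Surjective F := fun x => by
    obtain ⟨ψ, hψ⟩ := (shiftFunctor (DerivedCategory (ModSite.Mod X.sheaf)) m).map_surjective (e.hom ≫ x)
    exact ⟨ψ, show e.inv ≫ ψ⟦m⟧' = x by rw [hψ, Iso.inv_hom_id_assoc]⟩
  suffices Module.Finite (_root_.DerComp.GSec X.sheaf) (S ⟶ K) from Module.Finite.of_surjective F hF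
  haveI : (DCoh.HD (X := X) K m).IsQuasicoherent := hq m
  haveI := QCoh.moduleFinite_of_isFiniteType (DCoh.HD (X := X) K m) hc.2 (isAffineOpen_top X)
  let G : (S ⟶ K) → Γ(DCoh.HD (X := X) K m, (⊤ : X.Opens)) := fun φ =>
    let t := SiteDer.theta φ
    (unitTopRep X).eqv _ t
  have hG : Function.Bijective G := ((unitTopRep X).eqv _).bijective.comp (thetaBij_unit hq m)
  have hadd : ∀ φ ψ, G (φ + ψ) = G φ + G ψ := fun φ ψ => by
    simp only [G, SiteDer.theta, Functor.map_add, Preadditive.comp_add, (unitTopRep X).eqv_add]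
    rfl
  have hsmul : ∀ (s : _root_.DerComp.GSec X.sheaf) φ, G (s • φ) = gsecTop s • G φ := fun s φ => by
    have : SiteDer.theta (s • φ) = s • SiteDer.theta φ := by
      rw [show s • φ = φ ≫ (s • 𝟙 K) by rw [Linear.comp_smul, Category.comp_id], SiteDer.theta_comp,
        DR.homologyFunctor_map_smul_id, Linear.comp_smul]
      exact congrArg (s • ·) (Category.comp_id _)
    simp only [G, this, _root_.DerComp.smul_def]
    rw [(unitTopRep X).smulEnd_eq]
    exact (unitTopRep X).eqv_mulEnd_comp _ _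
  obtain ⟨T, hT⟩ := (Module.finite_def.1 ‹_› : (⊤ : Submodule Γ(X, (⊤ : X.Opens)) Γ(DCoh.HD (X := X) K m, (⊤ : X.Opens))).FG)
  classical
  refine ⟨⟨T.image (Function.invFun G), Submodule.eq_top_iff'.2 fun φ => ?_⟩⟩
  suffices ∀ y ∈ Submodule.span Γ(X, (⊤ : X.Opens)) (T : Set Γ(DCoh.HD (X := X) K m, (⊤ : X.Opens))),
      ∀ φ, G φ = y → φ ∈ Submodule.span (_root_.DerComp.GSec X.sheaf) (T.image (Function.invFun G) : Set (S ⟶ K)) from
    this (G φ) (by rw [hT]; trivial) φ rfl
  intro y hy
  induction hy using Submodule.span_induction with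
  | mem y hy =>
    intro φ h
    refine Submodule.subset_span (Finset.mem_coe.2 (Finset.mem_image.2 ⟨y, hy, ?_⟩))
    rw [← h]
    exact Function.leftInverse_invFun hG.1 φ
  | zero =>
    intro φ h
    have : φ = 0 := hG.1 (h.trans (by simpa using (hadd 0 0) : G 0 = 0).symm)
    rw [this]
    exact zero_mem _
  | add y z _ _ hy hz =>
    intro φ h
    obtain ⟨a, ha⟩ := hG.2 y
    obtain ⟨b, hb⟩ := hG.2 z
    rw [show φ = a + b from hG.1 (h.trans ((congrArg₂ (· + ·) ha.symm hb.symm).trans (hadd a b).symm))]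
    exact add_mem (hy a ha) (hz b hb)
  | smul c y _ hy =>
    intro φ h
    obtain ⟨a, ha⟩ := hG.2 y
    rw [show φ = gsecTop.symm c • a from hG.1 (h.trans (Eq.symm ((hsmul _ a).trans (by rw [RingEquiv.apply_symm_apply]; exact congrArg (c • ·) ha))))]
    exact Submodule.smul_mem _ _ (hy a ha)

end GrothLib.DerComp
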