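import Groth.Agent.Lib.DerComp.GammaScheme
import Groth.Agent.Lib.DerComp.Crit
import Groth.Agent.Lib.OX.RpushQCoh

/-! # Hypercohomology over an affine open as a module over its sections -/

set_option autoImplicit false
universe u

open CategoryTheory CategoryTheory.Limits Opposite AlgebraicGeometry

attribute [local instance] HasDerivedCategory.standard

namespace GrothLib.DerComp

section Rep

variable {C : Type u} [SmallCategory C] {J : GrothendieckTopology C} {O : Sheaf J CommRingCat.{u}}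

/-- Maps out of a corepresenting object are finite when the sections are. -/
theorem finite_hom_of_rep {P G : ModSite.Mod O} {V : C} (e : SecRep P V)
    (hsurj : Function.Surjective fun s : _root_.DerComp.GSec O => s.1 V)
    (h : Module.Finite ((ModSite.ringSh O).obj.obj (op V)) (G.val.obj (op V))) :
    Module.Finite (_root_.DerComp.GSec O) (P ⟶ G) := by
  have hsmul : ∀ (s : _root_.DerComp.GSec O) (a : P ⟶ G), e.eqv G (s • a) = sc (s.1 V) • e.eqv G a := fun s a => by
    rw [_root_.DerComp.smul_def, e.smulEnd_eq, e.eqv_mulEnd_comp]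
  obtain ⟨T, hT⟩ := Module.finite_def.1 h
  classical
  refine ⟨⟨T.image (e.eqv G).symm, Submodule.eq_top_iff'.2 fun φ => ?_⟩⟩
  suffices ∀ y ∈ Submodule.span _ (T : Set (G.val.obj (op V))),
      (e.eqv G).symm y ∈ Submodule.span (_root_.DerComp.GSec O) (T.image (e.eqv G).symm : Set (P ⟶ G)) by
    have := this (e.eqv G φ) (by rw [hT]; trivial)
    rwa [Equiv.symm_apply_apply] at this
  intro y hy
  induction hy using Submodule.span_induction with
  | mem y hy => exact Submodule.subset_span (Finset.mem_coe.2 (Finset.mem_image_of_mem _ hy))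
  | zero =>
    rw [show (e.eqv G).symm 0 = 0 from (Equiv.symm_apply_eq _).2 (e.eqv_zero G).symm]
    exact zero_mem _
  | add y z _ _ hy hz =>
    rw [show (e.eqv G).symm (y + z) = (e.eqv G).symm y + (e.eqv G).symm z from
      (Equiv.symm_apply_eq _).2 (by rw [e.eqv_add, Equiv.apply_symm_apply, Equiv.apply_symm_apply])]
    exact add_mem hy hz
  | smul c y _ hy =>
    obtain ⟨s, hs⟩ := hsurj c
    rw [show (e.eqv G).symm (c • y) = s • (e.eqv G).symm y from
      (Equiv.symm_apply_eq _).2 (by rw [hsmul, Equiv.apply_symm_apply]; exact congrArg (fun t => sc t • y) hs.symm)]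
    exact Submodule.smul_mem _ _ hy

/-- Global sections of a slice are the sections over it. -/
noncomputable def gsecOver (O : Sheaf J CommRingCat.{u}) (U : C) :
    _root_.DerComp.GSec (O.over U) ≃+* O.obj.obj (op U) where
  toFun s := s.1 (Over.mk (𝟙 U))
  invFun f := _root_.DerComp.GSec.ofSect O U f
  left_inv s := Subtype.ext (funext fun W => s.2 (Over.homMk W.hom : W ⟶ Over.mk (𝟙 U)))
  right_inv f := ofSect_val_id U f
  map_mul' _ _ := rfl
  map_add' _ _ := rfl

/-- Sections over a slice of a module, in degree zero. -/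
theorem finite_hom_unit_shift_zero (M : ModSite.Mod O) (U : C)
    (h : Module.Finite ((ModSite.ringSh O).obj.obj (op U)) (M.val.obj (op U))) :
    Module.Finite (_root_.DerComp.GSec (O.over U))
      ((inDF (O.over U)).obj (ModSite.unit (O.over U)) ⟶ ((rD O U).obj ((inDF O).obj M))⟦(0 : ℤ)⟧) := by
  have hf : Module.Finite (_root_.DerComp.GSec (O.over U)) (ModSite.unit (O.over U) ⟶ (ModSite.restr O U).obj M) :=
    finite_hom_of_rep (unitRep O U) (gsecOver O U).surjective h
  let c : (inDF (O.over U)).obj ((ModSite.restr O U).obj M) ≅ ((rD O U).obj ((inDF O).obj M))⟦(0 : ℤ)⟧ :=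
    (((ModSite.restr O U).mapDerivedCategorySingleFunctor 0).app M).symm ≪≫
      ((shiftFunctorZero (DerivedCategory (ModSite.Mod (O.over U))) ℤ).app _).symm
  let F : (ModSite.unit (O.over U) ⟶ (ModSite.restr O U).obj M) →ₗ[_root_.DerComp.GSec (O.over U)]
      ((inDF (O.over U)).obj (ModSite.unit (O.over U)) ⟶ ((rD O U).obj ((inDF O).obj M))⟦(0 : ℤ)⟧) :=
    { toFun := fun φ => (inDF (O.over U)).map φ ≫ c.hom
      map_add' := fun φ ψ => by rw [Functor.map_add, Preadditive.add_comp]
      map_smul' := fun s φ => by rw [Functor.map_smul, Linear.smul_comp]; rfl }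
  refine Module.Finite.of_surjective F fun x => ?_
  obtain ⟨ψ, hψ⟩ := (inDF (O.over U)).map_surjective (x ≫ c.inv)
  exact ⟨ψ, show (inDF (O.over U)).map ψ ≫ c.hom = x by rw [hψ, Category.assoc, Iso.inv_hom_id, Category.comp_id]⟩

end Rep

variable {X : Scheme.{u}}

/-- No hypercohomology over an affine open outside the degrees of cohomology. -/
theorem subsingleton_hom_freeOn_shift {U : X.Opens} (hU : IsAffineOpen U)
    {K : DerivedCategory (ModSite.Mod X.sheaf)} (hq : DCoh.IsQCohD (X := X) K) (m : ℤ)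
    (hz : IsZero ((DerivedCategory.homologyFunctor (ModSite.Mod X.sheaf) m).obj K)) :
    Subsingleton ((inDF X.sheaf).obj (ModSite.freeOn X.sheaf U) ⟶ K⟦m⟧) := by
  let i : (SiteDer.freeMod X.sheaf).obj U ≅ ModSite.freeOn X.sheaf U := (freeModRep X.sheaf U).iso (freeRep X.sheaf U)
  have h := OX.theta_bijective hU hq m
  have hs : Subsingleton ((DerivedCategory.singleFunctor (ModSite.Mod X.sheaf) m).obj ((SiteDer.freeMod X.sheaf).obj U) ⟶ K) :=
    ⟨fun a b => h.1 (hz.eq_of_tgt _ _)⟩
  let e : ((DerivedCategory.singleFunctor (ModSite.Mod X.sheaf) m).obj ((SiteDer.freeMod X.sheaf).obj U))⟦m⟧ ≅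
      (inDF X.sheaf).obj (ModSite.freeOn X.sheaf U) :=
    ((DerivedCategory.singleFunctors (ModSite.Mod X.sheaf)).shiftIso m 0 m (add_zero m)).app _ ≪≫ (inDF X.sheaf).mapIso i
  exact @Equiv.subsingleton _ _ ((e.homFromEquiv (Z := K⟦m⟧)).symm.trans
    (Functor.FullyFaithful.ofFullyFaithful (shiftFunctor (DerivedCategory (ModSite.Mod X.sheaf)) m)).homEquiv.symm) hs

theorem isZero_homology_inDF (F : X.Modules) {i : ℤ} (hi : i ≠ 0) :
    IsZero ((DerivedCategory.homologyFunctor (ModSite.Mod X.sheaf) i).obj ((inDF X.sheaf).obj F)) := by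
  rcases lt_or_gt_of_ne hi with h | h
  · exact DerivedCategory.isZero_of_isGE _ 0 i h
  · exact DerivedCategory.isZero_of_isLE _ 0 i h

/-- A quasi-coherent sheaf in degree zero. -/
theorem isQCohD_inDF (F : X.Modules) (hF : Coh.IsQCoh F) : DCoh.IsQCohD (X := X) ((inDF X.sheaf).obj F) := fun i => by
  rcases eq_or_ne i 0 with rfl | hi
  · exact OX.isQCoh_of_iso ((DerivedCategory.singleFunctorCompHomologyFunctorIso X.Modules 0).app F).symm hF
  · exact OX.isQCoh_of_isZero (isZero_homology_inDF F hi)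

/-- A quasi-coherent ideal is spanned over affine opens by generators of its sections. -/
theorem locSpan_of_qcoh (𝓘 : _root_.DerComp.IdealSh X.sheaf) {U : X.Opens} (hU : IsAffineOpen U)
    (hqc : ∀ g : Γ(X, U), 𝓘.ideal (X.basicOpen g) =
      Ideal.map (X.presheaf.map (homOfLE (X.basicOpen_le g)).op).hom (𝓘.ideal U))
    {r : ℕ} (a : Fin r → Γ(X, U)) (ha : Ideal.span (Set.range a) = 𝓘.ideal U) :
    LocSpan (O := X.sheaf) 𝓘 U a := by
  refine ⟨fun i => ha ▸ Ideal.subset_span ⟨i, rfl⟩, fun W k f hf => ?_⟩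
  let S : Sieve W := Sieve.ofArrows (fun g : {g : Γ(X, U) // X.basicOpen g ≤ W} => X.basicOpen g.1) fun g => homOfLE g.2
  refine ⟨S, fun x hx => ?_, fun W' h hh => ?_⟩
  · obtain ⟨g, hg, hxg⟩ := hU.exists_basicOpen_le ⟨x, hx⟩ (leOfHom k hx)
    exact ⟨X.basicOpen g, homOfLE hg, Sieve.ofArrows_mk
      (fun g : {g : Γ(X, U) // X.basicOpen g ≤ W} => X.basicOpen g.1) (fun g => homOfLE g.2) ⟨g, hg⟩, hxg⟩
  · obtain ⟨g, q, hq⟩ := (Sieve.mem_ofArrows_iff _ _ _).1 hh
    subst hq
    have h1 : (X.presheaf.map (homOfLE g.2).op).hom f ∈ 𝓘.ideal (X.basicOpen g.1) := 𝓘.map_mem (homOfLE g.2) hf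
    rw [hqc, ← ha] at h1
    erw [Ideal.map_span] at h1
    have h2 := Ideal.mem_map_of_mem (X.presheaf.map q.op).hom h1
    erw [Ideal.map_span] at h2
    rw [← CommRingCat.comp_apply, ← Functor.map_comp, ← op_comp] at h2
    refine Ideal.span_mono ?_ h2
    rintro _ ⟨_, ⟨_, ⟨i, rfl⟩, rfl⟩, rfl⟩
    exact ⟨i, (res_res (O := X.sheaf) (homOfLE (X.basicOpen_le g.1)) q (a i)).symm⟩

end GrothLib.DerComp
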