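import Groth.Agent.Lib.DerComp.Inst
import Groth.Agent.Lib.SiteDer.ModGen
import Groth.Agent.Lib.SiteDer.Push
import Groth.Agent.Lib.DerCat.HomologyCoproduct
import Groth.Agent.Lib.DerCat.SeqColimit

/-! # The derived category of a ringed site is generated by the free modules -/

set_option autoImplicit false
universe u

open CategoryTheory CategoryTheory.Limits Opposite Pretriangulated

attribute [local instance] HasDerivedCategory.standard

namespace GrothLib.DerComp

section Telescope

universe v w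

variable {A : Type w} [Category.{v} A] [Abelian A] (H : ℕ → A) [HasCoproduct H] (t : ∀ n, H n ⟶ H (n + 1))

/-- A telescope of epimorphisms onto `L` killing their kernels computes `L`. -/
theorem isIso_of_telescope {L Q : A} (p : ∀ n, H n ⟶ L) [∀ n, Epi (p n)] (hp : ∀ n, t n ≫ p (n + 1) = p n)
    (hk : ∀ n, kernel.ι (p n) ≫ t n = 0) (q : ∐ H ⟶ Q) [Epi q]
    (hq : (𝟙 (∐ H) - DerLim.shiftMap H t) ≫ q = 0) (π : Q ⟶ L) (hπ : ∀ n, Sigma.ι H n ≫ q ≫ π = p n) :
    IsIso π := by
  have hstep : ∀ n, Sigma.ι H n ≫ q = t n ≫ Sigma.ι H (n + 1) ≫ q := fun n => by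
    have := congrArg (Sigma.ι H n ≫ ·) hq
    simp only [Preadditive.sub_comp, Category.id_comp, Preadditive.comp_sub, DerLim.shiftMap, Sigma.ι_desc_assoc,
      Category.assoc, comp_zero, sub_eq_zero] at this
    exact this
  let u := fun n => Abelian.epiDesc (p n) (t n) (hk n)
  have hu : ∀ n, p n ≫ u n = t n := fun n => Abelian.comp_epiDesc (p n) (t n) (hk n)
  have hup : ∀ n, u n ≫ p (n + 1) = 𝟙 L := fun n => by
    rw [← cancel_epi (p n), ← Category.assoc, hu, hp, Category.comp_id]
  let w := fun n => u n ≫ Sigma.ι H (n + 1) ≫ q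
  have hw : ∀ n, Sigma.ι H n ≫ q = p n ≫ w n := fun n => by
    simp only [w, ← Category.assoc, hu]
    rw [Category.assoc, ← hstep]
  have hw0 : ∀ n, w n = w 0 := fun n => by
    induction n with
    | zero => rfl
    | succ n ih =>
      rw [← ih]
      change _ = u n ≫ Sigma.ι H (n + 1) ≫ q
      rw [hw (n + 1), ← Category.assoc, hup, Category.id_comp]
  refine ⟨w 0, ?_, ?_⟩
  · rw [← cancel_epi q]
    refine Sigma.hom_ext _ _ fun n => ?_
    rw [← Category.assoc q, ← Category.assoc, hπ, Category.comp_id, hw n, hw0 n]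
  · simp only [w, Category.assoc, hπ, hup]

end Telescope

variable {C : Type u} [SmallCategory C] {J : GrothendieckTopology C} {O : Sheaf J CommRingCat.{u}}

/-- Morphism sets of the derived category are small. -/
theorem small_hom (X Y : DerivedCategory (ModSite.Mod O)) : Small.{u} (X ⟶ Y) := by
  have : IsGrothendieckAbelian.{u} (ModSite.Mod O) := KInj.isGrothendieckAbelian_sheafOfModules _
  have := Localization.essSurj (DerivedCategory.Qh (C := ModSite.Mod O))
    (HomotopyCategory.subcategoryAcyclic (ModSite.Mod O)).trW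
  exact ⟨⟨_, ⟨((DerivedCategory.Qh.objObjPreimageIso X).symm.homFromEquiv (Z := Y)).trans
    ((KInj.resAdj (ModSite.Mod O)).homEquiv _ Y)⟩⟩⟩

/-- The homology of a countable coproduct. -/
noncomputable abbrev hSigma (K : ℕ → DerivedCategory (ModSite.Mod O)) (j : ℤ) :
    (∐ fun n => (DerivedCategory.homologyFunctor (ModSite.Mod O) j).obj (K n)) ⟶
      (DerivedCategory.homologyFunctor (ModSite.Mod O) j).obj (∐ K) :=
  Sigma.desc fun n => (DerivedCategory.homologyFunctor (ModSite.Mod O) j).map (Sigma.ι K n)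

theorem homology_coprod_hom_ext {ι : Type} [HasColimitsOfShape (Discrete ι) (ModSite.Mod O)]
    [HasExactColimitsOfShape (Discrete ι) (ModSite.Mod O)] [HasColimitsOfShape (Discrete ι) (DerivedCategory (ModSite.Mod O))]
    (K : ι → DerivedCategory (ModSite.Mod O)) (j : ℤ) {W : ModSite.Mod O}
    (g : (DerivedCategory.homologyFunctor (ModSite.Mod O) j).obj (∐ K) ⟶ W)
    (h : ∀ k, (DerivedCategory.homologyFunctor (ModSite.Mod O) j).map (Sigma.ι K k) ≫ g = 0) : g = 0 := by
  let L : ι → CochainComplex (ModSite.Mod O) ℤ := fun k => DerivedCategory.Q.objPreimage (K k)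
  let e : ∀ k, DerivedCategory.Q.obj (L k) ≅ K k := fun k => DerivedCategory.Q.objObjPreimageIso (K k)
  let hc := isColimitCofanMkObjOfIsColimit DerivedCategory.Q L (Sigma.ι L) (coproductIsCoproduct L)
  let f : DerivedCategory.Q.obj (∐ L) ⟶ ∐ K := Cofan.IsColimit.desc hc fun k => (e k).hom ≫ Sigma.ι K k
  have hf : ∀ k, DerivedCategory.Q.map (Sigma.ι L k) ≫ f = (e k).hom ≫ Sigma.ι K k :=
    fun k => Cofan.IsColimit.fac hc _ k
  have : IsIso f := ⟨Sigma.desc (fun k => (e k).inv ≫ DerivedCategory.Q.map (Sigma.ι L k)),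
    Cofan.IsColimit.hom_ext hc _ _ (fun k => by
      show DerivedCategory.Q.map (Sigma.ι L k) ≫ _ = DerivedCategory.Q.map (Sigma.ι L k) ≫ _
      rw [reassoc_of% hf k, Sigma.ι_desc, Iso.hom_inv_id_assoc, Category.comp_id]),
    Sigma.hom_ext _ _ fun k => by
      rw [Sigma.ι_desc_assoc, Category.assoc, hf k, Iso.inv_hom_id_assoc, Category.comp_id]⟩
  let H := DerivedCategory.homologyFunctor (ModSite.Mod O) j
  let η := DerivedCategory.homologyFunctorFactors (ModSite.Mod O) j
  have h0 : η.inv.app (∐ L) ≫ H.map f ≫ g = 0 := by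
    refine DerCat.homology_sigma_hom_ext L j _ fun k => ?_
    have := η.inv.naturality (Sigma.ι L k)
    erw [reassoc_of% this]
    simp only [Functor.comp_map, H]
    rw [← Functor.map_comp_assoc, hf k, Functor.map_comp, Category.assoc, h k, comp_zero, comp_zero]
    rfl
  exact (cancel_epi (H.map f)).1 (((cancel_epi (η.inv.app (∐ L))).1 (h0.trans comp_zero.symm)).trans comp_zero.symm)

theorem isIso_hSigma (K : ℕ → DerivedCategory (ModSite.Mod O)) (j : ℤ) : IsIso (hSigma K j) := by
  classical
  have : Epi (hSigma K j) := Preadditive.epi_of_cancel_zero _ fun g hg =>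
    homology_coprod_hom_ext K j g fun k => by
      have h := congrArg (fun t => Sigma.ι (fun n => (DerivedCategory.homologyFunctor _ j).obj (K n)) k ≫ t) hg
      simpa [hSigma] using h
  have : Mono (hSigma K j) := Preadditive.mono_of_cancel_zero _ fun x hx =>
    DerCat.eq_zero_of_comp_π _ x fun k => by
      have h1 : hSigma K j ≫ (DerivedCategory.homologyFunctor _ j).map (Sigma.π K k) =
          Sigma.π (fun n => (DerivedCategory.homologyFunctor _ j).obj (K n)) k := Sigma.hom_ext _ _ fun l => by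
        rw [Sigma.ι_desc_assoc, ← Functor.map_comp]
        by_cases hl : l = k
        · subst hl
          rw [Sigma.ι_π_eq_id, Sigma.ι_π_eq_id, CategoryTheory.Functor.map_id]
        · rw [Sigma.ι_π_of_ne _ hl, Sigma.ι_π_of_ne _ hl, Functor.map_zero]
      rw [← h1, ← Category.assoc, hx, zero_comp]
  exact isIso_of_mono_of_epi _

/-- A morphism vanishing on all sections vanishes. -/
lemma eq_zero_of_gen {X Y : ModSite.Mod O} (f : X ⟶ Y)
    (h : ∀ U (g : (SiteDer.freeMod O).obj U ⟶ X), g ≫ f = 0) : f = 0 := by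
  have : Epi (kernel.ι f) := (SiteDer.isLocGen_freeMod (ModSite.ringSh O)).epi _ fun U g =>
    SiteDer.Locally.of_forall fun V a => ⟨kernel.lift f ((SiteDer.freeMod O).map a ≫ g) (by
      rw [Category.assoc, h U g, comp_zero]), kernel.lift_ι _ _ _⟩
  exact (cancel_epi (kernel.ι f)).1 (by simp)

/-- An approximation of `E` by an object satisfying `P`. -/
structure Stage (P : DerivedCategory (ModSite.Mod O) → Prop) (E : DerivedCategory (ModSite.Mod O)) where
  /-- the object -/
  F : DerivedCategory (ModSite.Mod O)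
  /-- the map to `E` -/
  p : F ⟶ E
  prop : P F
  epi : ∀ k, Epi ((DerivedCategory.homologyFunctor (ModSite.Mod O) k).map p)

variable (P : DerivedCategory (ModSite.Mod O) → Prop)
  (hiso : ∀ X Y, P X → (X ≅ Y) → P Y)
  (hcop : ∀ (ι : Type u) (f : ι → DerivedCategory (ModSite.Mod O)), (∀ i, P (f i)) → P (∐ f))
  (hcone : ∀ T : Triangle (DerivedCategory (ModSite.Mod O)), T ∈ distTriang _ → P T.obj₁ → P T.obj₂ → P T.obj₃)
  (hgen : ∀ V k, P ((DerivedCategory.singleFunctor (ModSite.Mod O) k).obj ((SiteDer.freeMod O).obj V)))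

include hcop hgen in
theorem nonempty_stage (E : DerivedCategory (ModSite.Mod O)) : Nonempty (Stage P E) := by
  have hs := fun X => small_hom X E
  let ι := Σ p : C × ULift.{u} ℤ, Shrink.{u}
    ((DerivedCategory.singleFunctor (ModSite.Mod O) p.2.down).obj ((SiteDer.freeMod O).obj p.1) ⟶ E)
  let F : ι → DerivedCategory (ModSite.Mod O) := fun i =>
    (DerivedCategory.singleFunctor (ModSite.Mod O) i.1.2.down).obj ((SiteDer.freeMod O).obj i.1.1)
  let p : ∐ F ⟶ E := Sigma.desc fun i => (equivShrink _).symm i.2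
  refine ⟨⟨∐ F, p, hcop _ F fun i => hgen _ _, fun k => ?_⟩⟩
  refine (SiteDer.isLocGen_freeMod (ModSite.ringSh O)).epi _ fun U g => ?_
  refine ((SiteDer.isLocGen_freeMod (ModSite.ringSh O)).exists_theta g).mono fun V a ⟨φ, hφ⟩ => ?_
  let i : ι := ⟨(V, ⟨k⟩), equivShrink _ φ⟩
  refine ⟨SiteDer.theta (Sigma.ι F i), ?_⟩
  rw [← SiteDer.theta_comp]
  refine Eq.trans ?_ hφ
  congr 1
  simp only [p, i, Sigma.ι_desc]
  exact Equiv.symm_apply_apply _ φ

include hcop hcone hgen in
theorem exists_next {E : DerivedCategory (ModSite.Mod O)} (s : Stage P E) :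
    ∃ (s' : Stage P E) (t : s.F ⟶ s'.F), t ≫ s'.p = s.p ∧ ∀ k,
      kernel.ι ((DerivedCategory.homologyFunctor (ModSite.Mod O) k).map s.p) ≫
        (DerivedCategory.homologyFunctor (ModSite.Mod O) k).map t = 0 := by
  have hs : ∀ X, Small.{u} {φ : X ⟶ s.F // φ ≫ s.p = 0} := fun X =>
    have := small_hom X s.F
    inferInstance
  let ι := Σ p : C × ULift.{u} ℤ, Shrink.{u}
    {φ : (DerivedCategory.singleFunctor (ModSite.Mod O) p.2.down).obj ((SiteDer.freeMod O).obj p.1) ⟶ s.F // φ ≫ s.p = 0}
  let F : ι → DerivedCategory (ModSite.Mod O) := fun i =>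
    (DerivedCategory.singleFunctor (ModSite.Mod O) i.1.2.down).obj ((SiteDer.freeMod O).obj i.1.1)
  let m : ∐ F ⟶ s.F := Sigma.desc fun i => ((equivShrink _).symm i.2).1
  obtain ⟨F', t, d, hT⟩ := distinguished_cocone_triangle m
  obtain ⟨p', hp'⟩ := Triangle.yoneda_exact₂ _ hT s.p (Sigma.hom_ext _ _ fun i => by
    change Sigma.ι F i ≫ m ≫ s.p = _
    rw [Sigma.ι_desc_assoc, ((equivShrink _).symm i.2).2]
    exact comp_zero.symm)
  change s.p = t ≫ p' at hp'
  let H := fun k => DerivedCategory.homologyFunctor (ModSite.Mod O) k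
  refine ⟨⟨F', p', hcone _ hT (hcop _ F fun i => hgen _ _) s.prop, fun k => ?_⟩, t, hp'.symm, fun k => ?_⟩
  · have := s.epi k
    have e : (H k).map t ≫ (H k).map p' = (H k).map s.p := by rw [← Functor.map_comp, ← hp']
    exact epi_of_epi_fac e
  refine eq_zero_of_gen _ fun U g => ?_
  refine (SiteDer.isLocGen_freeMod (ModSite.ringSh O)).sep _ ?_
  let g' := g ≫ kernel.ι ((H k).map s.p)
  obtain ⟨S, hS, hS'⟩ := (SiteDer.isLocGen_freeMod (ModSite.ringSh O)).exists_theta g'
  refine SiteDer.Locally.trans (fun V W a b hab => by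
    rw [Functor.map_comp, Category.assoc, hab, comp_zero]) hS fun V a ha => ?_
  obtain ⟨φ, hφ⟩ := hS' a ha
  have h0 : SiteDer.theta (φ ≫ s.p) = 0 := by
    rw [SiteDer.theta_comp, hφ]
    simp [g', H]
  refine ((SiteDer.isLocGen_freeMod (ModSite.ringSh O)).eq_zero_of_theta _ h0).mono fun W b hb => ?_
  let i : ι := ⟨(W, ⟨k⟩), equivShrink _ ⟨(DerivedCategory.singleFunctor (ModSite.Mod O) k).map
    ((SiteDer.freeMod O).map b) ≫ φ, by rw [Category.assoc]; exact hb⟩⟩
  have h1 : (DerivedCategory.singleFunctor (ModSite.Mod O) k).map ((SiteDer.freeMod O).map b) ≫ φ ≫ t = 0 := by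
    have hi : Sigma.ι F i ≫ m = (DerivedCategory.singleFunctor (ModSite.Mod O) k).map
        ((SiteDer.freeMod O).map b) ≫ φ := by
      simp [m, i]
    rw [← Category.assoc, ← hi, Category.assoc]
    exact (congrArg _ (comp_distTriang_mor_zero₁₂ _ hT)).trans comp_zero
  change (SiteDer.freeMod O).map (b ≫ a) ≫ g ≫ kernel.ι ((H k).map s.p) ≫ (H k).map t = 0
  rw [Functor.map_comp, Category.assoc, ← Category.assoc g]
  change (SiteDer.freeMod O).map b ≫ (SiteDer.freeMod O).map a ≫ g' ≫ (H k).map t = 0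
  rw [← Category.assoc ((SiteDer.freeMod O).map a), ← hφ, ← SiteDer.theta_comp, ← SiteDer.theta_map_comp, h1,
    SiteDer.theta_zero]

include hiso hcop hcone hgen in
/-- Induction from the generators through coproducts and cones. -/
theorem generate (E : DerivedCategory (ModSite.Mod O)) : P E := by
  choose next t ht hk using fun s : Stage P E => exists_next P hcop hcone hgen s
  let s : ℕ → Stage P E := fun n => Nat.rec (nonempty_stage P hcop hgen E).some (fun _ x => next x) n
  let F := fun n => (s n).F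
  let τ : ∀ n, F n ⟶ F (n + 1) := fun n => t (s n)
  let m := 𝟙 (∐ F) - DerLim.shiftMap F τ
  obtain ⟨hF, q, d, hT⟩ := distinguished_cocone_triangle m
  obtain ⟨π, hπ⟩ := Triangle.yoneda_exact₂ _ hT (Sigma.desc fun n => (s n).p) (Sigma.hom_ext _ _ fun n => by
    change Sigma.ι F n ≫ m ≫ _ = _
    simp only [m, Preadditive.sub_comp, Preadditive.comp_sub, Category.id_comp, DerLim.shiftMap,
      Sigma.ι_desc_assoc, Category.assoc, Sigma.ι_desc, comp_zero, sub_eq_zero]
    exact (sub_eq_zero.2 (ht (s n)).symm).trans comp_zero.symm)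
  change Sigma.desc (fun n => (s n).p) = q ≫ π at hπ
  have hP : P hF := by
    have hsum : P (∐ F) := hiso _ _ (hcop (ULift.{u} ℕ) (fun n => F n.down) fun n => (s n.down).prop)
      (Sigma.whiskerEquiv Equiv.ulift fun _ => Iso.refl _)
    exact hcone _ hT hsum hsum
  suffices h : IsIso π from hiso _ _ hP (@asIso _ _ _ _ π h)
  rw [DerivedCategory.isIso_iff]
  intro k
  let H := fun k => DerivedCategory.homologyFunctor (ModSite.Mod O) k
  have hconj : ∀ j, (𝟙 _ - DerLim.shiftMap (fun n => (H j).obj (F n)) fun n => (H j).map (τ n)) ≫ hSigma F j =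
      hSigma F j ≫ (H j).map m := fun j => Sigma.hom_ext _ _ fun n => by
    simp only [m, H, Functor.map_sub, CategoryTheory.Functor.map_id, Preadditive.sub_comp, Preadditive.comp_sub,
      Category.id_comp, Category.comp_id, DerLim.shiftMap, Sigma.ι_desc_assoc, Category.assoc, Sigma.ι_desc,
      ← Functor.map_comp]
  have hmono : ∀ j, Mono ((H j).map m) := fun j => by
    have := isIso_hSigma F j
    have := DerCat.mono_one_sub_shiftMap (fun n => (H j).obj (F n)) (fun n => (H j).map (τ n))
    rw [show (H j).map m = inv (hSigma F j) ≫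
        (𝟙 _ - DerLim.shiftMap (fun n => (H j).obj (F n)) fun n => (H j).map (τ n)) ≫ hSigma F j by
      rw [hconj, IsIso.inv_hom_id_assoc]]
    infer_instance
  have hepi : Epi ((H k).map q) := by
    have hex : (ShortComplex.mk ((H k).map q) ((H k).map d) (by
        rw [← Functor.map_comp]
        exact (congrArg (H k).map (comp_distTriang_mor_zero₂₃ _ hT)).trans ((H k).map_zero _ _))).Exact :=
      (H k).map_distinguished_exact _ (rot_of_distTriang _ hT)
    refine hex.epi_f ?_
    let w : ∀ X, (H k).obj (X⟦(1 : ℤ)⟧) ≅ (H (k + 1)).obj X := fun X =>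
      ((DerivedCategory.homologyFunctor (ModSite.Mod O) 0).shiftIso 1 k (k + 1) (show 1 + k = k + 1 by omega)).app X
    have hw : (H k).map (m⟦(1 : ℤ)⟧') ≫ (w (∐ F)).hom = (w (∐ F)).hom ≫ (H (k + 1)).map m :=
      ((DerivedCategory.homologyFunctor (ModSite.Mod O) 0).shiftIso 1 k (k + 1)
        (show 1 + k = k + 1 by omega)).hom.naturality m
    have := hmono (k + 1)
    change (H k).map d = 0
    refine (cancel_mono (w (∐ F)).hom).1 ((cancel_mono ((H (k + 1)).map m)).1 ?_)
    rw [Category.assoc, ← hw, ← Category.assoc, ← Functor.map_comp, zero_comp, zero_comp]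
    exact (congrArg (fun x => x ≫ (w (∐ F)).hom) ((congrArg (H k).map
      (comp_distTriang_mor_zero₃₁ _ hT)).trans ((H k).map_zero _ _))).trans zero_comp
  have := fun n => (s n).epi k
  have hh := isIso_hSigma F k
  refine isIso_of_telescope (fun n => (H k).obj (F n)) (fun n => (H k).map (τ n))
    (fun n => (H k).map (s n).p) (fun n => ?_) (fun n => hk (s n) k) (hSigma F k ≫ (H k).map q) ?_ _ fun n => ?_
  · rw [← Functor.map_comp]
    exact congrArg (H k).map (ht (s n))
  · rw [← Category.assoc, hconj, Category.assoc, ← Functor.map_comp]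
    exact (congrArg (hSigma F k ≫ ·) ((congrArg (H k).map (comp_distTriang_mor_zero₁₂ _ hT)).trans
      ((H k).map_zero _ _))).trans comp_zero
  · rw [Category.assoc, Sigma.ι_desc_assoc]
    refine (congrArg (_ ≫ ·) ((H k).map_comp q π).symm).trans (((H k).map_comp _ _).symm.trans ?_)
    exact congrArg (H k).map ((congrArg (Sigma.ι F n ≫ ·) hπ.symm).trans (Sigma.ι_desc _ n))

end GrothLib.DerComp
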