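import Groth.Agent.Lib.DerComp.Kos
import Groth.Agent.Lib.DCxRing.DComplete.Telescope
import Mathlib.CategoryTheory.Triangulated.TriangleShift

/-! # Vanishing of complete morphism modules into Koszul-acyclic objects -/

set_option autoImplicit false
universe t v u

open CategoryTheory CategoryTheory.Limits Pretriangulated

namespace GrothLib.DerComp

variable {R : Type t} [CommRing R] {D : Type u} [Category.{v} D] [Preadditive D] [Linear R D]
  [HasZeroObject D] [HasShift D ℤ] [∀ n : ℤ, (shiftFunctor D n).Additive] [Pretriangulated D]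

/-- Derived completeness of morphism modules passes to the third vertex of a triangle. -/
theorem dcMod_hom_obj₃ (T : Triangle D) (hT : T ∈ distTriang D) (F : D) {s : R}
    (h1 : DCpl.DCMod s (F ⟶ T.obj₁)) (h2 : DCpl.DCMod s (F ⟶ T.obj₂))
    (h1' : DCpl.DCMod s (F ⟶ T.obj₁⟦(1 : ℤ)⟧)) (h2' : DCpl.DCMod s (F ⟶ T.obj₂⟦(1 : ℤ)⟧)) :
    DCpl.DCMod s (F ⟶ T.obj₃) := by
  let f := Linear.rightComp R F T.mor₁
  let g := Linear.rightComp R F T.mor₂
  let h := Linear.rightComp R F T.mor₃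
  let f' := Linear.rightComp R F (T.mor₁⟦(1 : ℤ)⟧')
  have e1 : LinearMap.range f = LinearMap.ker g := by
    ext x
    refine ⟨?_, fun hx => ?_⟩
    · rintro ⟨y, rfl⟩
      change (y ≫ T.mor₁) ≫ T.mor₂ = 0
      rw [Category.assoc, comp_distTriang_mor_zero₁₂ _ hT, comp_zero]
    · obtain ⟨y, hy⟩ := T.coyoneda_exact₂ hT x hx
      exact ⟨y, hy.symm⟩
  have e2 : LinearMap.range g = LinearMap.ker h := by
    ext x
    refine ⟨?_, fun hx => ?_⟩
    · rintro ⟨y, rfl⟩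
      change (y ≫ T.mor₂) ≫ T.mor₃ = 0
      rw [Category.assoc, comp_distTriang_mor_zero₂₃ _ hT, comp_zero]
    · obtain ⟨y, hy⟩ := T.coyoneda_exact₃ hT x hx
      exact ⟨y, hy.symm⟩
  have e3 : LinearMap.range h = LinearMap.ker f' := by
    ext x
    refine ⟨?_, fun hx => ?_⟩
    · rintro ⟨y, rfl⟩
      change (y ≫ T.mor₃) ≫ T.mor₁⟦(1 : ℤ)⟧' = 0
      rw [Category.assoc, comp_distTriang_mor_zero₃₁ _ hT, comp_zero]
    · have hx' : x ≫ T.rotate.rotate.mor₂ = 0 := by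
        change x ≫ (-T.mor₁⟦(1 : ℤ)⟧') = 0
        rw [Preadditive.comp_neg, show x ≫ T.mor₁⟦(1 : ℤ)⟧' = 0 from hx, neg_zero]
      obtain ⟨y, hy⟩ := T.rotate.rotate.coyoneda_exact₂ (rot_of_distTriang _ (rot_of_distTriang _ hT)) x hx'
      exact ⟨y, hy.symm⟩
  have hA : DCpl.DCMod s (LinearMap.range g) :=
    DCpl.dcMod_of_equiv ((Submodule.quotEquivOfEq _ _ e1).trans g.quotKerEquivRange) (DCpl.dcMod_coker f h1 h2)
  have hB : DCpl.DCMod s (LinearMap.range h) :=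
    DCpl.dcMod_of_equiv (LinearEquiv.ofEq _ _ e3.symm) (DCpl.dcMod_ker f' h1' h2')
  refine DCpl.dcMod_of_exact (u := (LinearMap.range g).subtype) (v := h.rangeRestrict) Subtype.val_injective
    h.surjective_rangeRestrict (LinearMap.exact_iff.2 ?_) hA hB
  rw [LinearMap.ker_rangeRestrict, Submodule.range_subtype, e2]

variable [∀ n : ℤ, (shiftFunctor D n).Linear R]

lemma dcMod_hom_iso {s : R} (F : D) {X Y : D} (e : X ≅ Y) (h : DCpl.DCMod s (F ⟶ X)) : DCpl.DCMod s (F ⟶ Y) :=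
  DCpl.dcMod_of_equiv (Linear.homCongr R (Iso.refl F) e) h

/-- Derived completeness of all morphism modules passes to cones. -/
theorem dcMod_hom_obj₃_shift (T : Triangle D) (hT : T ∈ distTriang D) (F : D) {s : R}
    (h1 : ∀ n : ℤ, DCpl.DCMod s (F ⟶ T.obj₁⟦n⟧)) (h2 : ∀ n : ℤ, DCpl.DCMod s (F ⟶ T.obj₂⟦n⟧)) (n : ℤ) :
    DCpl.DCMod s (F ⟶ T.obj₃⟦n⟧) :=
  dcMod_hom_obj₃ _ (Triangle.shift_distinguished _ hT n) F (h1 n) (h2 n)
    (dcMod_hom_iso F ((shiftFunctorAdd' D n 1 (n + 1) rfl).app T.obj₁) (h1 (n + 1)))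
    (dcMod_hom_iso F ((shiftFunctorAdd' D n 1 (n + 1) rfl).app T.obj₂) (h2 (n + 1)))

theorem dcMod_hom_kos (l : List R) (F Q : D) {s : R} (h : ∀ n : ℤ, DCpl.DCMod s (F ⟶ Q⟦n⟧)) (n : ℤ) :
    DCpl.DCMod s (F ⟶ (kos l Q)⟦n⟧) := by
  induction l generalizing n with
  | nil => exact h n
  | cons a l ih =>
    obtain ⟨g, d, hT⟩ := exists_coneOf_triangle (a • 𝟙 (kos l Q))
    exact dcMod_hom_obj₃_shift _ hT F ih ih n

/-- **Derived Nakayama**: complete morphism modules into a Koszul-acyclic object vanish. -/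
theorem subsingleton_hom_of_kos (F Q : D) (l : List R)
    (hdc : ∀ s ∈ l, ∀ n : ℤ, DCpl.DCMod s (F ⟶ Q⟦n⟧))
    (h : ∀ n : ℤ, Subsingleton (F ⟶ (kos l Q)⟦n⟧)) : ∀ n : ℤ, Subsingleton (F ⟶ Q⟦n⟧) := by
  induction l with
  | nil => exact h
  | cons a l ih =>
    refine ih (fun s hs => hdc s (List.mem_cons_of_mem _ hs)) fun n => ?_
    obtain ⟨g, d, hT⟩ := exists_coneOf_triangle (a • 𝟙 (kos l Q))
    have hsurj : ∀ x : F ⟶ (kos l Q)⟦n⟧, ∃ y, a • y = x := fun x => by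
      obtain ⟨y, hy⟩ : ∃ y : F ⟶ (kos l Q)⟦n⟧, x = y ≫ (n.negOnePow • (a • 𝟙 (kos l Q))⟦n⟧') :=
        Triangle.coyoneda_exact₂ _ (Triangle.shift_distinguished _ hT n) x ((h n).elim _ _)
      refine ⟨n.negOnePow • y, ?_⟩
      rw [hy, Linear.comp_units_smul, map_shift_smul_id, Linear.comp_smul, Category.comp_id, smul_comm]
    suffices ∀ φ : F ⟶ (kos l Q)⟦n⟧, φ = 0 from ⟨fun x y => (this x).trans (this y).symm⟩
    intro φ
    choose r hr using hsurj
    let x : ℕ → (F ⟶ (kos l Q)⟦n⟧) := fun j => Nat.rec φ (fun _ p => r p) j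
    exact (dcMod_hom_kos l F Q (hdc a List.mem_cons_self) n).eq_zero x (fun j => (hr (x j)).symm) 0

end GrothLib.DerComp
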