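import Groth.Prelude.Def_DerComp
import Groth.Agent.Lib.KInj.SiteMod
import Groth.Agent.Lib.ModExtZero.Basic
import Groth.Agent.Lib.ModSupp25.Restr
import Groth.Agent.Lib.HoCat.DerivedCoproduct
import Groth.Agent.Lib.HoCat.Product

/-! # Instances for the derived category of a ringed site -/

set_option autoImplicit false
universe u

open CategoryTheory CategoryTheory.Limits

attribute [local instance] HasDerivedCategory.standard

namespace GrothLib.DerComp

variable {C : Type u} [SmallCategory C] {J : GrothendieckTopology C} (O : Sheaf J CommRingCat.{u}) (U : C)

instance additive_restr : (ModSite.restr O U).Additive :=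
  haveI := _root_.DerComp.additive_extZero (O := O) U
  (ModSite.extZeroAdj O U).right_adjoint_additive

instance exact_restr_left : PreservesFiniteLimits (ModSite.restr O U) :=
  ModSupp25.preservesFiniteLimits_restr O U

instance exact_restr_right : PreservesFiniteColimits (ModSite.restr O U) :=
  ModSupp25.preservesFiniteColimits_restr O U

instance exact_extZero_left : PreservesFiniteLimits (ModSite.extZero O U) :=
  ModExtZero.preservesFiniteLimits_extZero O U

instance exact_extZero_right : PreservesFiniteColimits (ModSite.extZero O U) :=
  ModExtZero.preservesFiniteColimits_extZero O U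

instance exactColimits_nat : HasExactColimitsOfShape (Discrete ℕ) (ModSite.Mod O) :=
  have : HasExactColimitsOfShape (Discrete (ULift.{u} ℕ)) (ModSite.Mod O) := AB4OfSize.ofShape _
  HasExactColimitsOfShape.of_domain_equivalence _ (Discrete.equivalence Equiv.ulift)

instance exactColimits_small (ι : Type u) : HasExactColimitsOfShape (Discrete ι) (ModSite.Mod O) :=
  AB4OfSize.ofShape _

instance coproducts_small (ι : Type u) : HasColimitsOfShape (Discrete ι) (DerivedCategory (ModSite.Mod O)) :=
  HoCat.derivedCategory_hasColimitsOfShape

instance coproducts_nat : HasColimitsOfShape (Discrete ℕ) (DerivedCategory (ModSite.Mod O)) :=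
  HoCat.derivedCategory_hasColimitsOfShape

instance products_small (ι : Type u) : HasLimitsOfShape (Discrete ι) (DerivedCategory (ModSite.Mod O)) :=
  HoCat.derivedCategory_hasLimitsOfShape ι

instance products_nat : HasLimitsOfShape (Discrete ℕ) (DerivedCategory (ModSite.Mod O)) :=
  HoCat.derivedCategory_hasLimitsOfShape ℕ

instance preservesCoproducts_single_nat (k : ℤ) :
    PreservesColimitsOfShape (Discrete ℕ) (DerivedCategory.singleFunctor (ModSite.Mod O) k) :=
  haveI : PreservesColimitsOfShape (Discrete ℕ) (CochainComplex.singleFunctor (ModSite.Mod O) k) :=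
    inferInstanceAs (PreservesColimitsOfShape (Discrete ℕ) (HomologicalComplex.single _ _ k))
  preservesColimitsOfShape_of_natIso (DerivedCategory.singleFunctorIsoCompQ (ModSite.Mod O) k).symm

end GrothLib.DerComp
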