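import Groth.Agent.Lib.DerComp.CorepTri
import Groth.Agent.Lib.DerComp.Generate
import Groth.Agent.Lib.DerComp.Completion
import Groth.Agent.Lib.SiteDer.RlimMap

/-! # The left adjoint of the derived direct image on complete objects -/

set_option autoImplicit false
universe u

open CategoryTheory CategoryTheory.Limits Opposite

attribute [local instance] HasDerivedCategory.standard

namespace GrothLib.DerComp

variable {C D : Type u} [SmallCategory C] [SmallCategory D] {J : GrothendieckTopology C} {K : GrothendieckTopology D}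
  {O_C : Sheaf J CommRingCat.{u}} {O_D : Sheaf K CommRingCat.{u}} (f : ModSite.RMor O_C O_D)

/-- The derived direct image has a left adjoint. -/
theorem hasVal_Rres (E : DerivedCategory (ModSite.Mod O_D)) : HasVal (SiteDer.Rres f) E := by
  have : IsGrothendieckAbelian.{u} (ModSite.Mod O_C) := KInj.isGrothendieckAbelian_sheafOfModules _
  have : (SiteDer.Rres f).IsTriangulated := SiteDer.isTriangulated_res_map f.push
  have : (SiteDer.Rres f).Additive := inferInstance
  refine generate _ (fun _ _ h e => h.of_iso e) (fun ι F h => HasVal.coprod F h)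
    (fun T hT h₁ h₂ => HasVal.cone T hT h₁ h₂) (fun V k => ?_) E
  let X := (DerivedCategory.singleFunctor (ModSite.Mod O_C) k).obj ((SiteDer.freeMod O_C).obj (f.fn.obj V))
  refine ⟨X, (SiteDer.pushHomEquiv f V k X).symm (𝟙 X), fun M => ?_⟩
  have : (fun a : X ⟶ M => (SiteDer.pushHomEquiv f V k X).symm (𝟙 X) ≫ (SiteDer.Rres f).map a) =
      (SiteDer.pushHomEquiv f V k M).symm := funext fun a => by
    apply (SiteDer.pushHomEquiv f V k M).injective
    rw [SiteDer.pushHomEquiv_comp, Equiv.apply_symm_apply, Equiv.apply_symm_apply, Category.id_comp]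
  rw [this]
  exact Equiv.bijective _

/-- The induced functor on complete objects has a left adjoint. -/
theorem isRightAdjoint_lift [SiteCmp.HasRpushD f] (I : _root_.DerComp.IdealSh O_D) (I' : _root_.DerComp.IdealSh O_C)
    (h : ∀ M : DerivedCategory (ModSite.Mod O_C), _root_.DerComp.IsDerComp O_C I' M →
      _root_.DerComp.IsDerComp O_D I ((SiteCmp.RpushD f).obj M)) :
    ((_root_.DerComp.IsDerComp O_D I).lift ((_root_.DerComp.IsDerComp O_C I').ι ⋙ SiteCmp.RpushD f)
      (fun M => h M.obj M.property)).IsRightAdjoint := by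
  let L := (_root_.DerComp.IsDerComp O_D I).lift ((_root_.DerComp.IsDerComp O_C I').ι ⋙ SiteCmp.RpushD f)
    (fun M => h M.obj M.property)
  have := hasDerCompletion I'
  rw [isRightAdjoint_iff_hasInitial_structuredArrow]
  intro E
  obtain ⟨X, θ₀, hθ₀⟩ := hasVal_Rres f E.obj
  let e := SiteDer.rpushDIso f
  let θ : E.obj ⟶ (SiteCmp.RpushD f).obj X := θ₀ ≫ e.inv.app X
  have hθ : IsVal (SiteCmp.RpushD f) θ := fun M => by
    have : (fun a : X ⟶ M => θ ≫ (SiteCmp.RpushD f).map a) =
        (e.app M).symm.homToEquiv ∘ fun a => θ₀ ≫ (SiteDer.Rres f).map a := funext fun a => by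
      exact (Category.assoc _ _ _).trans ((congrArg (θ₀ ≫ ·) (e.inv.naturality a).symm).trans (Category.assoc _ _ _).symm)
    rw [this]
    exact (Equiv.bijective _).comp (hθ₀ M)
  let adj := _root_.DerComp.derCompletionAdj O_C I'
  let X' := (_root_.DerComp.derCompletion O_C I').obj X
  let η : E ⟶ L.obj X' := ObjectProperty.homMk (θ ≫ (SiteCmp.RpushD f).map (adj.unit.app X))
  have key : ∀ (M : _root_.DerComp.DComp O_C I') (ψ : X' ⟶ M),
      (η ≫ L.map ψ).hom = θ ≫ (SiteCmp.RpushD f).map (adj.homEquiv X M ψ) := fun M ψ => by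
    rw [Adjunction.homEquiv_unit, Functor.map_comp]
    exact Category.assoc _ _ _
  have hU : ∀ M : _root_.DerComp.DComp O_C I', Function.Bijective fun ψ : X' ⟶ M => η ≫ L.map ψ := fun M => by
    refine (Function.Bijective.of_comp_iff' (_root_.DerComp.IsDerComp O_D I).fullyFaithfulι.homEquiv.bijective _).1 ?_
    have : (_root_.DerComp.IsDerComp O_D I).fullyFaithfulι.homEquiv ∘ (fun ψ : X' ⟶ M => η ≫ L.map ψ) =
        (fun a : X ⟶ M.obj => θ ≫ (SiteCmp.RpushD f).map a) ∘ adj.homEquiv X M := funext fun ψ => key M ψ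
    rw [this]
    exact (hθ M.obj).comp (adj.homEquiv X M).bijective
  refine Limits.IsInitial.hasInitial (X := StructuredArrow.mk (Y := X') η) ?_
  refine Limits.IsInitial.ofUniqueHom (fun Y => StructuredArrow.homMk ((hU Y.right).2 Y.hom).choose
    ((hU Y.right).2 Y.hom).choose_spec) fun Y m => ?_
  exact StructuredArrow.ext _ _ ((hU Y.right).1 ((StructuredArrow.w m).trans ((hU Y.right).2 Y.hom).choose_spec.symm))

end GrothLib.DerComp
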