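import Groth.Agent.Lib.DCxRing.DComplete.Ideal
import Groth.Agent.Lib.DCxRing.DComplete.Basic
import Mathlib.CategoryTheory.Shift.Linear
import Mathlib.CategoryTheory.Triangulated.Functor

/-! # Completeness with respect to scalars in a linear triangulated category

An object `L` is `s`-complete when it receives no nonzero map from an object on which `s` is
invertible.  With countable coproducts this is derived completeness of all `Hom(X, L)`; with
countable products it can be tested on a detecting family.  Koszul objects are iterated cones of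
scalars.
-/

universe w t v u

open CategoryTheory CategoryTheory.Limits Pretriangulated

namespace GrothLib.DerComp

variable {R : Type t} [CommRing R] {D : Type u} [Category.{v} D] [Preadditive D] [Linear R D]

section Linear

lemma isIso_smul_of_exists {X : D} (s : R) (g : X ⟶ X) (hg : s • g = 𝟙 X) : IsIso (s • 𝟙 X) :=
  ⟨g, by rw [Linear.smul_comp, Category.id_comp, hg], by rw [Linear.comp_smul, Category.comp_id, hg]⟩

/-- If `s` acts bijectively on all `Hom(X, -)` then it is invertible on `X`. -/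
lemma isIso_smul_of_bijective {X : D} (s : R) (h : Function.Bijective (fun φ : X ⟶ X => s • φ)) :
    IsIso (s • 𝟙 X) :=
  let ⟨g, hg⟩ := h.2 (𝟙 X)
  isIso_smul_of_exists s g hg

lemma bijective_smul_of_isIso {X Y : D} (s : R) [IsIso (s • 𝟙 X)] :
    Function.Bijective (fun φ : X ⟶ Y => s • φ) := by
  have : (fun φ : X ⟶ Y => s • φ) = fun φ => (s • 𝟙 X) ≫ φ := funext fun φ => by
    rw [Linear.smul_comp, Category.id_comp]
  rw [this]
  exact (asIso (s • 𝟙 X)).symm.homFromEquiv.bijective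

/-- An invertible and nilpotent scalar forces a zero object. -/
lemma subsingleton_hom_of_bijective_of_nilpotent {M : Type*} [AddCommGroup M] [Module R M] (s : R)
    (h : Function.Injective (fun x : M => s • x)) {k : ℕ} (hk : ∀ x : M, s ^ k • x = 0) :
    Subsingleton M := by
  suffices ∀ x : M, x = 0 from ⟨fun a b => (this a).trans (this b).symm⟩
  induction k with
  | zero => exact fun x => by simpa using hk x
  | succ k ih =>
    refine ih fun x => h ?_
    simpa [smul_smul, ← pow_succ'] using hk x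

/-- `L` receives no nonzero maps from objects on which `s` is invertible. -/
def SCpl (s : R) (L : D) : Prop := ∀ X : D, IsIso (s • 𝟙 X) → ∀ φ : X ⟶ L, φ = 0

lemma SCpl.of_iso {s : R} {L L' : D} (h : SCpl s L) (e : L ≅ L') : SCpl s L' := fun X hX φ => by
  rw [← cancel_mono e.inv, zero_comp]
  exact h X hX _

lemma sCpl_of_isZero (s : R) {L : D} (h : IsZero L) : SCpl s L := fun _ _ _ => h.eq_of_tgt _ _

lemma sCpl_zero (L : D) : SCpl (0 : R) L := fun X hX φ => by
  rw [zero_smul] at hX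
  have hid : 𝟙 X = 0 := by rw [← IsIso.hom_inv_id (0 : X ⟶ X), zero_comp]
  rw [← Category.id_comp φ, hid, zero_comp]

lemma sCpl_pi (s : R) {ι : Type w} {L : ι → D} [HasProduct L] (h : ∀ i, SCpl s (L i)) :
    SCpl s (∏ᶜ L) := fun X hX φ =>
  Pi.hom_ext _ _ fun i => by rw [zero_comp]; exact h i X hX _

/-- Multiplication by a scalar is natural. -/
lemma smul_id_comp {X Y : D} (s : R) (φ : X ⟶ Y) : (s • 𝟙 X) ≫ φ = φ ≫ (s • 𝟙 Y) := by
  rw [Linear.smul_comp, Linear.comp_smul, Category.id_comp, Category.comp_id]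

end Linear

section Shift

variable [HasShift D ℤ] [∀ n : ℤ, (shiftFunctor D n).Additive] [∀ n : ℤ, (shiftFunctor D n).Linear R]

lemma map_shift_smul_id (n : ℤ) (s : R) (X : D) :
    (shiftFunctor D n).map (s • 𝟙 X) = s • 𝟙 ((shiftFunctor D n).obj X) := by
  rw [Functor.map_smul, CategoryTheory.Functor.map_id]

lemma isIso_smul_shift {X : D} (s : R) [IsIso (s • 𝟙 X)] (n : ℤ) : IsIso (s • 𝟙 (X⟦n⟧)) := by
  rw [← map_shift_smul_id]
  infer_instance

lemma SCpl.shift {s : R} {L : D} (h : SCpl s L) (n : ℤ) : SCpl s (L⟦n⟧) := fun X hX φ => by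
  apply (shiftFunctor D (-n)).map_injective
  have := isIso_smul_shift (X := X) s (-n)
  rw [Functor.map_zero, ← cancel_mono ((shiftFunctorCompIsoId D n (-n) (add_neg_cancel n)).hom.app L), zero_comp]
  exact h _ this _

end Shift

section Triangulated

variable [HasZeroObject D] [HasShift D ℤ] [∀ n : ℤ, (shiftFunctor D n).Additive] [Pretriangulated D]

lemma SCpl.of_triangle₂ {s : R} (T : Triangle D) (hT : T ∈ distTriang D) (h₁ : SCpl s T.obj₁)
    (h₃ : SCpl s T.obj₃) : SCpl s T.obj₂ := fun X hX φ => by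
  obtain ⟨ψ, rfl⟩ := T.coyoneda_exact₂ hT φ (h₃ X hX _)
  rw [h₁ X hX ψ, zero_comp]

/-- An endomorphism of the third vertex that dies on both sides has square zero. -/
lemma comp_self_eq_zero_of_triangle (T : Triangle D) (hT : T ∈ distTriang D) (u : T.obj₃ ⟶ T.obj₃)
    (h₁ : T.mor₂ ≫ u = 0) (h₂ : u ≫ T.mor₃ = 0) : u ≫ u = 0 := by
  obtain ⟨a, ha⟩ := T.yoneda_exact₃ hT u h₁
  obtain ⟨b, hb⟩ := T.coyoneda_exact₃ hT u h₂
  calc u ≫ u = (b ≫ T.mor₂) ≫ T.mor₃ ≫ a := by rw [← ha, ← hb]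
    _ = 0 := by
      rw [Category.assoc, ← Category.assoc T.mor₂, comp_distTriang_mor_zero₂₃ _ hT, zero_comp, comp_zero]

/-- A chosen cone. -/
noncomputable def coneOf {X Y : D} (f : X ⟶ Y) : D := (distinguished_cocone_triangle f).choose

lemma exists_coneOf_triangle {X Y : D} (f : X ⟶ Y) :
    ∃ (g : Y ⟶ coneOf f) (h : coneOf f ⟶ X⟦(1 : ℤ)⟧), Triangle.mk f g h ∈ distTriang D :=
  (distinguished_cocone_triangle f).choose_spec

lemma nonempty_iso_coneOf (T : Triangle D) (hT : T ∈ distTriang D) : Nonempty (T.obj₃ ≅ coneOf T.mor₁) := by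
  obtain ⟨g, h, hC⟩ := exists_coneOf_triangle T.mor₁
  exact ⟨Triangle.π₃.mapIso (isoTriangleOfIso₁₂ T _ hT hC (Iso.refl _) (Iso.refl _)
    ((Category.comp_id _).trans (Category.id_comp _).symm))⟩

/-- No maps from the cone of a scalar iff the scalar is bijective on maps. -/
lemma subsingleton_coneOf_smul_iff (s : R) (X L : D) :
    (∀ n : ℤ, Subsingleton (coneOf (s • 𝟙 X) ⟶ L⟦n⟧)) ↔
      ∀ n : ℤ, Function.Bijective (fun φ : X ⟶ L⟦n⟧ => s • φ) := by
  obtain ⟨g, h, hT⟩ := exists_coneOf_triangle (s • 𝟙 X)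
  refine (DCpl.subsingleton_iff_precomp_bijective _ hT L).trans (forall_congr' fun n => ?_)
  refine iff_of_eq (congrArg _ (funext fun φ => ?_))
  exact (Linear.smul_comp _ _ _ _ _ _).trans (congrArg (s • ·) (Category.id_comp φ))

/-- Multiplication by `s` is invertible on the cone of `1 - s σ`. -/
lemma isIso_smul_cone_of_eq [∀ n : ℤ, (shiftFunctor D n).Linear R] (s : R) {Y : D} (σ ψ : Y ⟶ Y)
    (hS : s • σ = 𝟙 Y - ψ) : IsIso (s • 𝟙 (coneOf ψ)) := by
  obtain ⟨g, h, hT⟩ := exists_coneOf_triangle ψ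
  have hψ : ψ = 𝟙 Y - s • σ := by rw [hS]; abel
  have hcomm : ψ ≫ σ = σ ≫ ψ := by rw [hψ]; simp
  obtain ⟨t, ht₁, ht₂⟩ : ∃ t : coneOf ψ ⟶ coneOf ψ,
      g ≫ t = σ ≫ g ∧ h ≫ (shiftFunctor D 1).map σ = t ≫ h :=
    complete_distinguished_triangle_morphism _ _ hT hT σ σ hcomm
  have e₁ : g ≫ (s • t - 𝟙 _) = 0 := by
    rw [Preadditive.comp_sub, Linear.comp_smul, ht₁, ← Linear.smul_comp, hS, Preadditive.sub_comp,
      Category.id_comp, Category.comp_id, sub_sub, add_comm, ← sub_sub, sub_self, zero_sub, neg_eq_zero]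
    exact comp_distTriang_mor_zero₁₂ _ hT
  have e₂ : (s • t - 𝟙 _) ≫ h = 0 := by
    rw [Preadditive.sub_comp, Linear.smul_comp, ← ht₂, ← Linear.comp_smul, ← Functor.map_smul, hS,
      Functor.map_sub, Preadditive.comp_sub, CategoryTheory.Functor.map_id, Category.id_comp,
      Category.comp_id, sub_sub, add_comm, ← sub_sub, sub_self, zero_sub, neg_eq_zero]
    exact comp_distTriang_mor_zero₃₁ _ hT
  have hu := comp_self_eq_zero_of_triangle _ hT (s • t - 𝟙 _) e₁ e₂
  refine isIso_smul_of_exists s (t ≫ (𝟙 _ - (s • t - 𝟙 _))) ?_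
  rw [← Linear.smul_comp]
  have : s • t = 𝟙 _ + (s • t - 𝟙 (coneOf ψ)) := (add_sub_cancel _ _).symm
  nth_rw 1 [this]
  generalize hgen : s • t - 𝟙 (coneOf ψ) = u at hu ⊢
  change u ≫ u = 0 at hu
  simp only [Preadditive.add_comp, Preadditive.comp_sub, Category.id_comp, Category.comp_id, hu]
  simp

lemma isIso_smul_cone_one_sub [∀ n : ℤ, (shiftFunctor D n).Linear R] (s : R) {Y : D} (σ : Y ⟶ Y) :
    IsIso (s • 𝟙 (coneOf (𝟙 Y - s • σ))) :=
  isIso_smul_cone_of_eq s σ _ (sub_sub_cancel _ _).symm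

section Telescope

variable [∀ n : ℤ, (shiftFunctor D n).Linear R] (s : R) (X : D) [HasCoproduct fun _ : ℕ => X]

/-- The shift of summands. -/
noncomputable abbrev sumShift : (∐ fun _ : ℕ => X) ⟶ ∐ fun _ : ℕ => X :=
  Sigma.desc fun n => Sigma.ι (fun _ : ℕ => X) (n + 1)

/-- The telescope endomorphism. -/
noncomputable abbrev telEnd : (∐ fun _ : ℕ => X) ⟶ ∐ fun _ : ℕ => X :=
  𝟙 _ - s • sumShift X

lemma ι_telEnd_comp (Y : D) (x : ℕ → (X ⟶ Y)) (n : ℕ) :
    Sigma.ι (fun _ : ℕ => X) n ≫ telEnd s X ≫ Sigma.desc x = DCpl.telMap s (X ⟶ Y) x n := by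
  simp [telEnd, sumShift]

/-- Multiplication by `s` is invertible on the cone of the telescope. -/
lemma isIso_smul_coneTel : IsIso (s • 𝟙 (coneOf (telEnd s X))) :=
  isIso_smul_cone_one_sub s (sumShift X)

variable {s} in
/-- Complete objects have derived complete morphism modules. -/
theorem SCpl.dcMod {L : D} (hL : SCpl s L) : DCpl.DCMod s (X ⟶ L) := by
  obtain ⟨g, h, hT⟩ := exists_coneOf_triangle (telEnd s X)
  have hZ := isIso_smul_coneTel s X
  have hsub : ∀ n : ℤ, Subsingleton (coneOf (telEnd s X) ⟶ L⟦n⟧) := fun n =>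
    ⟨fun a b => ((hL.shift n) _ hZ a).trans ((hL.shift n) _ hZ b).symm⟩
  have hb := (DCpl.subsingleton_iff_precomp_bijective _ hT L).1 hsub (0 : ℤ)
  let e := ((shiftFunctorZero D ℤ).app L)
  let d : (ℕ → (X ⟶ L)) ≃ ((∐ fun _ : ℕ => X) ⟶ L) :=
    { toFun := Sigma.desc
      invFun := fun φ n => Sigma.ι (fun _ : ℕ => X) n ≫ φ
      left_inv := fun x => funext fun n => by simp
      right_inv := fun φ => Sigma.hom_ext _ _ fun n => by simp }
  have key : d ∘ DCpl.telMap s (X ⟶ L) =
      e.homToEquiv ∘ (fun ψ => telEnd s X ≫ ψ) ∘ e.symm.homToEquiv ∘ d := funext fun x => by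
    refine Sigma.hom_ext _ _ fun n => ?_
    simp only [Function.comp_apply, Iso.homToEquiv_apply, d, Equiv.coe_fn_mk, Iso.symm_hom,
      Category.assoc, Iso.inv_hom_id, Category.comp_id, Sigma.ι_desc]
    exact (ι_telEnd_comp s X L x n).symm
  refine (Function.Bijective.of_comp_iff' d.bijective _).1 ?_
  rw [key]
  exact e.homToEquiv.bijective.comp (hb.comp ((e.symm.homToEquiv).bijective.comp d.bijective))

end Telescope

/-- Derived complete morphism modules give completeness. -/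
theorem sCpl_of_forall_dcMod {s : R} {L : D} (h : ∀ X : D, DCpl.DCMod s (X ⟶ L)) : SCpl s L := by
  intro X hX φ
  let t := inv (s • 𝟙 X)
  have ht : s • t = 𝟙 X := by
    rw [← IsIso.hom_inv_id (s • 𝟙 X), Linear.smul_comp, Category.id_comp]
  let P : ℕ → (X ⟶ X) := fun n => Nat.rec (𝟙 X) (fun _ p => p ≫ t) n
  exact (by simpa [P] using (h X).eq_zero (fun n => P n ≫ φ) (fun n => by
    rw [← Linear.smul_comp, ← show P n ≫ (s • t) = s • P (n + 1) from Linear.comp_smul _ _ _ _ _ _,
      ht, Category.comp_id]) 0)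

/-- Completeness can be tested on a detecting family. -/
theorem sCpl_of_detecting {ι : Type w} (G : ι → D)
    (hdet : ∀ {A B : D} (f : A ⟶ B), (∀ i, Function.Bijective fun φ : G i ⟶ A => φ ≫ f) → IsIso f)
    {s : R} {L : D} [HasProduct fun _ : ℕ => L] (h : ∀ i, DCpl.DCMod s (G i ⟶ L)) : SCpl s L := by
  let φ : (∏ᶜ fun _ : ℕ => L) ⟶ ∏ᶜ fun _ : ℕ => L :=
    Pi.lift fun n => Pi.π (fun _ : ℕ => L) n - s • Pi.π (fun _ : ℕ => L) (n + 1)
  let e : ∀ X : D, (ℕ → (X ⟶ L)) ≃ (X ⟶ ∏ᶜ fun _ : ℕ => L) := fun X =>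
    { toFun := Pi.lift
      invFun := fun a n => a ≫ Pi.π (fun _ : ℕ => L) n
      left_inv := fun x => funext fun n => by simp
      right_inv := fun a => Pi.hom_ext _ _ fun n => by simp }
  have key : ∀ X, e X ∘ DCpl.telMap s (X ⟶ L) = (fun a => a ≫ φ) ∘ e X := fun X => funext fun x =>
    Pi.hom_ext _ _ fun n => by simp [e, φ]
  have : IsIso φ := hdet φ fun i => by
    rw [← Function.Bijective.of_comp_iff _ (e (G i)).bijective, ← key]
    exact (e (G i)).bijective.comp (h i)
  refine sCpl_of_forall_dcMod fun X => (Function.Bijective.of_comp_iff' (e X).bijective _).1 ?_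
  rw [key]
  exact (asIso φ).homToEquiv.bijective.comp (e X).bijective

variable [∀ n : ℤ, (shiftFunctor D n).Linear R] [∀ X : D, HasCoproduct fun _ : ℕ => X]

variable (R) in
/-- The scalars with respect to which `L` is complete. -/
def cplIdeal (L : D) : Ideal R where
  carrier := {s | SCpl s L}
  add_mem' hs ht := sCpl_of_forall_dcMod fun X => (hs.dcMod X).add (ht.dcMod X)
  zero_mem' := sCpl_zero L
  smul_mem' a _ h := sCpl_of_forall_dcMod fun X => (h.dcMod X).mul_left a

lemma mem_cplIdeal {s : R} {L : D} : s ∈ cplIdeal R L ↔ SCpl s L := Iff.rfl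

end Triangulated

end GrothLib.DerComp
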