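import Groth.Agent.Lib.DerComp.SiteTensor
import Groth.Agent.Lib.DerCat.SeqColimit

/-! # Tensoring with `O_s` -/

set_option autoImplicit false
universe u

open CategoryTheory CategoryTheory.Limits Opposite MonoidalCategory GrothLib.SheafCoh

attribute [local instance] HasDerivedCategory.standard

namespace GrothLib.DerComp

variable {C : Type u} [SmallCategory C] {J : GrothendieckTopology C} {O : Sheaf J CommRingCat.{u}}

attribute [local instance] ModFlat.additive_T

/-- `M ⊗ O = M`. -/
noncomputable def tensorUnitNatIso : ModFlat.T (ModSite.unit O) ≅ 𝟭 (ModSite.Mod O) :=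
  haveI := isIso_counit_shfAdj O
  tensorBiIso O _ ≪≫ Functor.isoWhiskerLeft (forgetP O)
    (Functor.isoWhiskerRight (rightUnitorNatIso (PMod' O)) (shf O) ≪≫ Functor.leftUnitor _) ≪≫
    asIso (shfAdj O).counit

/-- The unit is flat. -/
theorem isFlat_unit : ModSite.IsFlat (ModSite.unit O) := by
  rw [ModFlat.isFlat_iff]
  exact Functor.PreservesMonomorphisms.of_iso tensorUnitNatIso.symm

variable (s : _root_.DerComp.GSec O)

/-- The sequence defining `M_s`. -/
noncomputable abbrev awaySeq (M : ModSite.Mod O) : ℕ ⥤ ModSite.Mod O :=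
  Functor.ofSequence (X := fun _ => M) fun _ => _root_.DerComp.smulEnd s M

/-- `M_s` is a sequential colimit. -/
noncomputable def locAwayIso (M : ModSite.Mod O) : _root_.DerComp.locAway s M ≅ colimit (awaySeq s M) :=
  have h : _root_.DerComp.awayMap s M =
      𝟙 (∐ (awaySeq s M).obj) - DerLim.shiftMap (awaySeq s M).obj (fun n => (awaySeq s M).map (homOfLE (Nat.le_succ n))) :=
    Sigma.hom_ext _ _ fun n => by
      rw [_root_.DerComp.awayMap, Sigma.ι_desc]
      erw [Preadditive.comp_sub, Category.comp_id, DerLim.shiftMap, Sigma.ι_desc, Functor.ofSequence_map_homOfLE_succ]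
      rfl
  cokernelIsoOfEq h ≪≫ (cokernelIsCokernel _).coconePointUniqueUpToIso
    (DerCat.telescope_shortExact (awaySeq s M)).gIsCokernel

/-- `O_s` is flat. -/
theorem isFlat_locAway : ModSite.IsFlat (_root_.DerComp.locAway s (ModSite.unit O)) :=
  ModFlat.isFlat_of_iso (locAwayIso s _).symm
    (ModFlat.flat_colimit_nat (colimit.isColimit _) fun _ => isFlat_unit)

/-- Invertibility of `s` on a module is invariant under isomorphism. -/
lemma isIso_smulEnd_of_iso {M N : ModSite.Mod O} (e : M ≅ N) [IsIso (_root_.DerComp.smulEnd s M)] :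
    IsIso (_root_.DerComp.smulEnd s N) := by
  rw [show _root_.DerComp.smulEnd s N = e.inv ≫ _root_.DerComp.smulEnd s M ≫ e.hom by
    rw [_root_.DerComp.smulEnd_comm, Iso.inv_hom_id_assoc]]
  infer_instance

lemma isIso_smulEnd_tensor_right (M : ModSite.Mod O) :
    IsIso (_root_.DerComp.smulEnd s ((ModFlat.T (_root_.DerComp.locAway s (ModSite.unit O))).obj M)) :=
  have := isIso_smulEnd_locAway s (ModSite.unit O)
  have := isIso_smulEnd_tensor s (_root_.DerComp.locAway s (ModSite.unit O)) M
  isIso_smulEnd_of_iso s (((ModFlat.tensorSymm O).app _).app M)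

/-- An additive functor which preserves the telescope sends `M ⟶ M_s` to an isomorphism when it
inverts `s`. -/
theorem isIso_map_toLocAway {B : Type*} [Category B] [Preadditive B] (P : ModSite.Mod O ⥤ B) [P.Additive]
    [PreservesColimitsOfShape (Discrete ℕ) P] [PreservesColimitsOfShape WalkingParallelPair P] (M : ModSite.Mod O)
    [IsIso (P.map (_root_.DerComp.smulEnd s M))] : IsIso (P.map (_root_.DerComp.toLocAway s M)) := by
  let a := P.map (_root_.DerComp.smulEnd s M)
  let g : ℕ → (P.obj M ⟶ P.obj M) := fun n => Nat.rec (𝟙 _) (fun _ p => inv a ≫ p) n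
  have hg : ∀ n, a ≫ g (n + 1) = g n := fun n => IsIso.hom_inv_id_assoc a (g n)
  let hc := isColimitCofanMkObjOfIsColimit P (fun _ : ℕ => M) _ (coproductIsCoproduct fun _ : ℕ => M)
  let d₀ := Cofan.IsColimit.desc hc g
  have hd₀ : ∀ n, P.map (Sigma.ι (fun _ : ℕ => M) n) ≫ d₀ = g n := Cofan.IsColimit.fac hc g
  have hz : P.map (_root_.DerComp.awayMap s M) ≫ d₀ = 0 := Cofan.IsColimit.hom_ext hc _ _ fun n => by
    change P.map (Sigma.ι (fun _ : ℕ => M) n) ≫ _ = P.map (Sigma.ι (fun _ : ℕ => M) n) ≫ 0
    rw [comp_zero, ← Category.assoc, ← P.map_comp, _root_.DerComp.awayMap, Sigma.ι_desc, P.map_sub, P.map_comp,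
      Preadditive.sub_comp, Category.assoc, hd₀, hd₀, hg, sub_self]
  let hk := CokernelCofork.mapIsColimit _ (cokernelIsCokernel (_root_.DerComp.awayMap s M)) P
  obtain ⟨d, hd⟩ := CokernelCofork.IsColimit.desc' hk d₀ hz
  change P.map (cokernel.π (_root_.DerComp.awayMap s M)) ≫ d = d₀ at hd
  let b : ℕ → (P.obj M ⟶ P.obj (_root_.DerComp.locAway s M)) := fun n =>
    P.map (Sigma.ι (fun _ : ℕ => M) n) ≫ P.map (cokernel.π (_root_.DerComp.awayMap s M))
  have hb : ∀ n, b n = g n ≫ b 0 := by
    intro n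
    induction n with
    | zero => exact (Category.id_comp _).symm
    | succ n ih =>
      have h : b n = a ≫ b (n + 1) := by
        have e : (Sigma.ι (fun _ : ℕ => M) n - _root_.DerComp.smulEnd s M ≫ Sigma.ι (fun _ : ℕ => M) (n + 1)) ≫
            cokernel.π (_root_.DerComp.awayMap s M) = 0 :=
          (congrArg (· ≫ cokernel.π (_root_.DerComp.awayMap s M))
              (show Sigma.ι (fun _ : ℕ => M) n ≫ _root_.DerComp.awayMap s M = _ from Sigma.ι_desc _ n)).symm.trans
            ((Category.assoc _ _ _).trans ((congrArg (_ ≫ ·) (cokernel.condition _)).trans comp_zero))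
        rw [Preadditive.sub_comp, sub_eq_zero, Category.assoc] at e
        exact (P.map_comp _ _).symm.trans ((congrArg P.map e).trans ((P.map_comp _ _).trans
          (congrArg (a ≫ ·) (P.map_comp _ _))))
      rw [← cancel_epi a, ← h, ih]
      exact (congrArg (· ≫ b 0) (hg n)).symm.trans (Category.assoc _ _ _)
  refine ⟨d, ?_, ?_⟩
  · rw [P.map_comp, Category.assoc, hd, hd₀]
    rfl
  · refine Cofork.IsColimit.hom_ext hk (Cofan.IsColimit.hom_ext hc _ _ fun n => ?_)
    change P.map (Sigma.ι (fun _ : ℕ => M) n) ≫ P.map (cokernel.π _) ≫ d ≫ P.map (_root_.DerComp.toLocAway s M) =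
      P.map (Sigma.ι (fun _ : ℕ => M) n) ≫ P.map (cokernel.π _) ≫ 𝟙 _
    rw [Category.comp_id, ← Category.assoc (P.map (cokernel.π _)), hd, ← Category.assoc, hd₀, P.map_comp]
    exact (hb n).symm

variable (O) in
/-- `O_s`. -/
noncomputable abbrev Os : ModSite.Mod O := _root_.DerComp.locAway s (ModSite.unit O)

/-- `M ⟶ M ⊗ O_s`. -/
noncomputable def toTensorLoc : 𝟭 (ModSite.Mod O) ⟶ ModFlat.T (Os O s) :=
  tensorUnitNatIso.inv ≫ (ModSite.tensorBi O).flip.map (_root_.DerComp.toLocAway s (ModSite.unit O))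

theorem isIso_toTensorLoc (M : ModSite.Mod O) [IsIso (_root_.DerComp.smulEnd s M)] :
    IsIso ((toTensorLoc s).app M) := by
  let P := (ModSite.tensorBi O).obj M
  have : P.IsLeftAdjoint :=
    haveI := ModFlat.isLeftAdjoint_T (O := O) M
    Functor.isLeftAdjoint_of_iso ((ModFlat.tensorSymm O).app M).symm
  have : IsIso (P.map (_root_.DerComp.smulEnd s (ModSite.unit O))) := by
    have h := ((ModFlat.tensorSymm O).app M).hom.naturality (_root_.DerComp.smulEnd s (ModSite.unit O))
    have e : IsIso (((ModFlat.T M)).map (_root_.DerComp.smulEnd s (ModSite.unit O))) := by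
      change IsIso (((ModSite.tensorBi O).map (_root_.DerComp.smulEnd s (ModSite.unit O))).app M)
      rw [tensor_smulEnd_left]
      exact isIso_smulEnd_of_iso s (M := M) ((tensorUnitNatIso.app M).symm ≪≫
        (((ModFlat.tensorSymm O).app M).app (ModSite.unit O) : _ ≅ ((ModSite.tensorBi O).obj (ModSite.unit O)).obj M))
    exact (NatIso.isIso_map_iff ((ModFlat.tensorSymm O).app M) _).2 e
  have := isIso_map_toLocAway s P (ModSite.unit O)
  have h1 : IsIso (((ModSite.tensorBi O).flip.map (_root_.DerComp.toLocAway s (ModSite.unit O))).app M) := this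
  simp only [toTensorLoc, NatTrans.comp_app]
  infer_instance

end GrothLib.DerComp
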