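import Groth.Agent.Lib.DerComp.FiniteHom
import Groth.Agent.Lib.DerComp.GammaAction
import Groth.Agent.Lib.DerComp.GlobalGen
import Groth.Prelude.Def_DCoh2

/-! # Derived completion on morphisms with finite extension modules over a complete base -/

set_option autoImplicit false
universe u

open CategoryTheory CategoryTheory.Limits Opposite AlgebraicGeometry

attribute [local instance] HasDerivedCategory.standard

namespace GrothLib.DerComp

/-- Derived completion along an ideal of the base is bijective on morphisms with finite extension modules. -/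
theorem derCompletion_map_bijective {A : Type u} [CommRing A] [IsNoetherianRing A] (I : Ideal A) [IsAdicComplete I A]
    {X : Scheme.{u}} [X.Over (Spec (CommRingCat.of A))] (𝓙 : _root_.DerComp.IdealSh X.sheaf)
    (h1 : ∀ a ∈ I, ∀ U : X.Opens, (baseSec A X a).1 U ∈ 𝓙.ideal U)
    (h2 : ∀ 𝓙' : _root_.DerComp.IdealSh X.sheaf, (∀ a ∈ I, ∀ U : X.Opens, (baseSec A X a).1 U ∈ 𝓙'.ideal U) → 𝓙 ≤ 𝓙')
    [_root_.DerComp.HasDerCompletion X.sheaf 𝓙] (F G : DerivedCategory (ModSite.Mod X.sheaf))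
    (hfin : ∀ n : ℤ, Module.Finite A ((show DCoh.D X from F) ⟶ (show DCoh.D X from G)⟦n⟧)) :
    Function.Bijective (fun ψ : F ⟶ G => (_root_.DerComp.derCompletion X.sheaf 𝓙).map ψ) := by
  let σ := baseSec A X
  obtain ⟨s, hs⟩ := I.fg_of_isNoetherianRing
  let l : List (_root_.DerComp.GSec X.sheaf) := s.toList.map σ
  have hl : ∀ t ∈ l, ∃ a ∈ I, σ a = t := fun t ht => by
    obtain ⟨a, ha, rfl⟩ := List.mem_map.1 ht
    exact ⟨a, hs ▸ Ideal.subset_span (Finset.mem_toList.1 ha), rfl⟩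
  obtain ⟨Q, g, d, hT, hQ⟩ := exists_cone_toDerCompletion (I := 𝓙) G
  have hL : CplAll l ((_root_.DerComp.derCompletion X.sheaf 𝓙).obj G).obj := fun t ht => by
    obtain ⟨a, ha, rfl⟩ := hl t ht
    exact (sCpl_global_iff_van _ _).2 fun U =>
      (isDerComp_iff_le_vanIdeal _ _).1 ((_root_.DerComp.derCompletion X.sheaf 𝓙).obj G).property U (h1 a ha U)
  have hQ' : IsZero (kos l Q) := (isZero_kos_iff_left _ _).2 fun L' hL' => by
    refine hQ L' ((isDerComp_iff_le_vanIdeal _ _).2 (h2 _ fun a ha U => ?_))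
    have hle : I ≤ (cplIdeal (_root_.DerComp.GSec X.sheaf) L').comap σ := hs ▸ Ideal.span_le.2 fun b hb =>
      hL' _ (List.mem_map.2 ⟨b, Finset.mem_toList.2 hb, rfl⟩)
    exact (sCpl_global_iff_van _ _).1 (hle ha) U
  have hG : ∀ t ∈ l, ∀ n : ℤ, DCpl.DCMod t (F ⟶ G⟦n⟧) := fun t ht n => by
    obtain ⟨a, ha, rfl⟩ := hl t ht
    haveI := hfin n
    have h := dcMod_of_finite I ((show DCoh.D X from F) ⟶ (show DCoh.D X from G)⟦n⟧) ha
    have e : ⇑(DCpl.telMap (σ a) (F ⟶ G⟦n⟧)) =
        ⇑(DCpl.telMap a ((show DCoh.D X from F) ⟶ (show DCoh.D X from G)⟦n⟧)) :=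
      funext fun x => funext fun j => congrArg (x j - ·) (smul_eq_baseSec A X a (x (j + 1))).symm
    change Function.Bijective ⇑(DCpl.telMap (σ a) (F ⟶ G⟦n⟧))
    rw [e]
    exact h
  have hb := comp_bijective_of_kos l hT hL hQ' hG
  let adj := _root_.DerComp.derCompletionAdj X.sheaf 𝓙
  refine (Function.Bijective.of_comp_iff' (adj.homEquiv F ((_root_.DerComp.derCompletion X.sheaf 𝓙).obj G)).bijective _).1 ?_
  have e : (adj.homEquiv F ((_root_.DerComp.derCompletion X.sheaf 𝓙).obj G)) ∘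
      (fun ψ : F ⟶ G => (_root_.DerComp.derCompletion X.sheaf 𝓙).map ψ) =
      fun ψ => ψ ≫ _root_.DerComp.toDerCompletion 𝓙 G := funext fun ψ => by
    simp only [Function.comp_apply]
    rw [Adjunction.homEquiv_unit]
    exact (adj.unit.naturality ψ).symm
  rw [e]
  exact hb

end GrothLib.DerComp
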