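import Groth.Agent.Lib.DerComp.SiteIdeal
import Groth.Agent.Lib.SiteDer.RlimMap

/-! # Derived completeness and derived direct images -/

set_option autoImplicit false
universe u

open CategoryTheory CategoryTheory.Limits Opposite

attribute [local instance] HasDerivedCategory.standard

namespace GrothLib.DerComp

variable {C D : Type u} [SmallCategory C] [SmallCategory D] {J : GrothendieckTopology C} {K : GrothendieckTopology D}
  {O_C : Sheaf J CommRingCat.{u}} {O_D : Sheaf K CommRingCat.{u}} (f : ModSite.RMor O_C O_D)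

/-- The image of a section under `f♯`. -/
abbrev sharpSec {V : D} (r : O_D.obj.obj (op V)) : O_C.obj.obj (op (f.fn.obj V)) :=
  (f.sharp.hom.app (op V)).hom r

/-- Inverse images of objects corepresenting sections. -/
noncomputable def pullRep {V : D} {P : ModSite.Mod O_D} (e : SecRep P V) :
    SecRep (f.pull.obj P) (f.fn.obj V) where
  eqv G := (f.adj.homEquiv P G).trans (e.eqv (f.push.obj G))
  comp {G G'} a b := by
    simp only [Equiv.trans_apply, Adjunction.homEquiv_naturality_right]
    exact e.comp _ _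

lemma pull_mulEnd {V : D} {P : ModSite.Mod O_D} (e : SecRep P V) (r : O_D.obj.obj (op V)) :
    f.pull.map (e.mulEnd r) = (pullRep f e).mulEnd (sharpSec f r) := by
  refine (pullRep f e).eq_mulEnd ?_
  simp only [pullRep, Equiv.trans_apply]
  rw [← Category.comp_id (f.pull.map (e.mulEnd r)), Adjunction.homEquiv_naturality_left]
  exact e.eqv_mulEnd_comp r _

lemma pullFreeIso_mulEnd (V : D) (r : O_D.obj.obj (op V)) :
    f.pull.map ((freeModRep O_D V).mulEnd r) ≫ (SiteDer.pullFreeIso f V).hom =
      (SiteDer.pullFreeIso f V).hom ≫ (freeModRep O_C (f.fn.obj V)).mulEnd (sharpSec f r) := by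
  rw [pull_mulEnd]
  exact (pullRep f (freeModRep O_D V)).iso_mulEnd (freeModRep O_C (f.fn.obj V)) (sharpSec f r)

lemma pullGenIso_mulEnd (V : D) (r : O_D.obj.obj (op V)) (k : ℤ) :
    (f.pull.mapHomotopyCategory (ComplexShape.up ℤ)).map
        (((HomotopyCategory.singleFunctors (ModSite.Mod O_D)).functor k).map ((freeModRep O_D V).mulEnd r)) ≫
      (SiteDer.pullGenIso f V k).hom =
    (SiteDer.pullGenIso f V k).hom ≫ ((HomotopyCategory.singleFunctors (ModSite.Mod O_C)).functor k).map
      ((freeModRep O_C (f.fn.obj V)).mulEnd (sharpSec f r)) := by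
  change (HomotopyCategory.quotient _ _).map _ ≫ (HomotopyCategory.quotient _ _).map _ =
    (HomotopyCategory.quotient _ _).map _ ≫ (HomotopyCategory.quotient _ _).map _
  rw [← Functor.map_comp, ← Functor.map_comp]
  congr 1
  have h := (HomologicalComplex.singleMapHomologicalComplex f.pull (ComplexShape.up ℤ) k).hom.naturality
    ((freeModRep O_D V).mulEnd r)
  simp only [Functor.comp_map] at h
  simp only [Iso.trans_hom, Iso.app_hom, Functor.mapIso_hom, Category.assoc]
  refine (Category.assoc _ _ _).symm.trans ((congrArg (· ≫ _) h).trans ?_)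
  rw [Category.assoc]
  exact congrArg (fun t => (HomologicalComplex.singleMapHomologicalComplex f.pull (ComplexShape.up ℤ) k).hom.app
      ((SiteDer.freeMod O_D).obj V) ≫ t)
    ((Functor.map_comp _ _ _).symm.trans ((congrArg _ (pullFreeIso_mulEnd f V r)).trans (Functor.map_comp _ _ _)))

/-- `pushHomEquiv` intertwines multiplication by a section and by its image. -/
lemma pushHomEquiv_mulEnd (V : D) (r : O_D.obj.obj (op V)) (k : ℤ)
    (E : DerivedCategory (ModSite.Mod O_C))
    (φ : (DerivedCategory.singleFunctor (ModSite.Mod O_D) k).obj ((SiteDer.freeMod O_D).obj V) ⟶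
      (SiteDer.Rres f).obj E) :
    SiteDer.pushHomEquiv f V k E ((DerivedCategory.singleFunctor (ModSite.Mod O_D) k).map
        ((freeModRep O_D V).mulEnd r) ≫ φ) =
      (DerivedCategory.singleFunctor (ModSite.Mod O_C) k).map
        ((freeModRep O_C (f.fn.obj V)).mulEnd (sharpSec f r)) ≫ SiteDer.pushHomEquiv f V k E φ := by
  obtain ⟨ψ, rfl⟩ := (SiteDer.bijective_Qh_pushK f (KInj.rightOrthogonal_res E) V k).2 φ
  let a := ((HomotopyCategory.singleFunctors (ModSite.Mod O_D)).functor k).map ((freeModRep O_D V).mulEnd r)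
  let b := ((HomotopyCategory.singleFunctors (ModSite.Mod O_C)).functor k).map
    ((freeModRep O_C (f.fn.obj V)).mulEnd (sharpSec f r))
  refine (congrArg (SiteDer.pushHomEquiv f V k E) (DerivedCategory.Qh.map_comp a ψ).symm).trans ?_
  rw [SiteDer.pushHomEquiv_Qh, SiteDer.pushHomEquiv_Qh]
  refine Eq.trans (congrArg _ ?_) ((KInj.resAdj (ModSite.Mod O_C)).homEquiv_naturality_left_symm b _)
  rw [Adjunction.homEquiv_naturality_left_symm, ← Category.assoc, ← Category.assoc]
  congr 1
  rw [Iso.inv_comp_eq, ← Category.assoc, Iso.eq_comp_inv]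
  exact pullGenIso_mulEnd f V r k

/-- Completeness of a derived direct image along a section. -/
theorem seqBij_Rres_iff (V : D) (r : O_D.obj.obj (op V)) (n : ℤ) (M : DerivedCategory (ModSite.Mod O_C)) :
    SeqBij ((inDF O_D).map ((freeRep O_D V).mulEnd r)) (((SiteDer.Rres f).obj M)⟦n⟧) ↔
      SeqBij ((inDF O_C).map ((freeRep O_C (f.fn.obj V)).mulEnd (sharpSec f r))) (M⟦n⟧) := by
  rw [seqBij_rep_iff (freeRep O_D V) (freeModRep O_D V), seqBij_rep_iff (freeRep O_C _) (freeModRep O_C _)]
  refine (seqBij_iff_of_iso_right (((SiteDer.Rres f).commShiftIso n).app M).symm).trans ?_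
  refine seqBij_congr (SiteDer.pushHomEquiv f V 0 (M⟦n⟧)) (Equiv.bijective _) (fun a b => ?_)
    (pushHomEquiv_mulEnd f V r 0 _)
  obtain ⟨a, rfl⟩ := (SiteDer.bijective_Qh_pushK f (KInj.rightOrthogonal_res (M⟦n⟧)) V 0).2 a
  obtain ⟨b, rfl⟩ := (SiteDer.bijective_Qh_pushK f (KInj.rightOrthogonal_res (M⟦n⟧)) V 0).2 b
  refine (congrArg _ (DerivedCategory.Qh.map_add).symm).trans ?_
  rw [SiteDer.pushHomEquiv_Qh, SiteDer.pushHomEquiv_Qh, SiteDer.pushHomEquiv_Qh]
  simp only [Adjunction.homEquiv_counit, Functor.map_add, Preadditive.comp_add,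
    Preadditive.add_comp]
  rfl

variable [SiteCmp.HasRpushD f]

/-- Sections acting completely on a derived direct image. -/
theorem van_RpushD_iff (M : DerivedCategory (ModSite.Mod O_C)) (U : D) (g : O_D.obj.obj (op U)) :
    Van ((SiteCmp.RpushD f).obj M) U g ↔ ∀ (V : D) (k : V ⟶ U) (n : ℤ),
      SeqBij ((inDF O_C).map ((freeRep O_C (f.fn.obj V)).mulEnd (sharpSec f ((O_D.obj.map k.op).hom g)))) (M⟦n⟧) :=
  forall₃_congr fun V k n =>
    (seqBij_iff_of_iso_right ((shiftFunctor _ n).mapIso ((SiteDer.rpushDIso f).app M))).trans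
      (seqBij_Rres_iff f V _ n M)

/-- Derived direct images of complete objects are complete. -/
theorem isDerComp_RpushD (I : _root_.DerComp.IdealSh O_D) (I' : _root_.DerComp.IdealSh O_C)
    (hf : _root_.DerComp.RMapsIdealInto f I I') (M : DerivedCategory (ModSite.Mod O_C))
    (hM : _root_.DerComp.IsDerComp O_C I' M) :
    _root_.DerComp.IsDerComp O_D I ((SiteCmp.RpushD f).obj M) := by
  refine (isDerComp_iff I _).2 fun U g hg => (van_RpushD_iff f M U g).2 fun V k n => ?_
  have := (isDerComp_iff I' M).1 hM _ _ (hf V _ (I.map_mem k hg)) _ (𝟙 _) n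
  simpa using this

end GrothLib.DerComp
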