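import Mathlib.CategoryTheory.Sites.Subsheaf
import Mathlib.CategoryTheory.Sites.LocallyBijective
import Mathlib.CategoryTheory.Sites.CoverPreserving
import Mathlib.CategoryTheory.Sites.Over
import Mathlib.CategoryTheory.Sites.Pullback
import Mathlib.CategoryTheory.Sites.Limits
import Mathlib.CategoryTheory.Limits.Preserves.Shapes.BinaryProducts
import Mathlib.CategoryTheory.Limits.Preserves.Shapes.Equalizers

/-! # Local flatness of a continuous functor with exact inverse image on sheaves of sets -/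

set_option autoImplicit false
universe u

open CategoryTheory CategoryTheory.Limits Opposite

namespace GrothLib.DerComp.SiteFlat

variable {C D : Type u} [SmallCategory C] [SmallCategory D] {K : GrothendieckTopology D}
  (F : D ⥤ C) (J : GrothendieckTopology C) [F.IsContinuous K J]

/-- The inverse image of sheaves of sets. -/
noncomputable abbrev fP : Sheaf K (Type u) ⥤ Sheaf J (Type u) := F.sheafPullback (Type u) K J

/-- Its adjunction. -/
noncomputable abbrev fA : fP (K := K) F J ⊣ F.sheafPushforwardContinuous (Type u) K J :=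
  F.sheafAdjunctionContinuous (Type u) K J

/-- The unit on sections. -/
noncomputable abbrev η (P : Sheaf K (Type u)) (Z : D) (y : P.obj.obj (op Z)) : ((fP F J).obj P).obj.obj (op (F.obj Z)) :=
  ((fA F J).unit.app P).hom.app (op Z) y

lemma η_map (P : Sheaf K (Type u)) {Z Z' : D} (g : Z' ⟶ Z) (y : P.obj.obj (op Z)) :
    η F J P Z' (P.obj.map g.op y) = ((fP F J).obj P).obj.map (F.map g).op (η F J P Z y) :=
  NatTrans.naturality_apply ((fA F J).unit.app P).hom g.op y

lemma pullback_map_η {P Q : Sheaf K (Type u)} (f : P ⟶ Q) (Z : D) (y : P.obj.obj (op Z)) :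
    ((fP F J).map f).hom.app (op (F.obj Z)) (η F J P Z y) = η F J Q Z (f.hom.app (op Z) y) :=
  (ConcreteCategory.congr_hom
    (congrArg (fun k : P ⟶ (F.sheafPushforwardContinuous (Type u) K J).obj ((fP F J).obj Q) => k.hom.app (op Z))
      ((fA F J).unit.naturality f)) y).symm

/-- Sections coming from `P`. -/
def gen (P : Sheaf K (Type u)) : Subfunctor ((fP F J).obj P).obj where
  obj T := {x | ∃ (Z : D) (r : T.unop ⟶ F.obj Z) (y : P.obj.obj (op Z)),
    ((fP F J).obj P).obj.map r.op (η F J P Z y) = x}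
  map := by
    rintro T T' i _ ⟨Z, r, y, rfl⟩
    exact ⟨Z, i.unop ≫ r, y, by simp⟩

/-- The sections coming from `P` generate the inverse image. -/
theorem mem_sheafify_gen (P : Sheaf K (Type u)) (T : Cᵒᵖ) (x : ((fP F J).obj P).obj.obj T) :
    x ∈ ((gen F J P).sheafify J).obj T := by
  let G := (fP F J).obj P
  let S := (gen F J P).sheafify J
  have hG : Presieve.IsSheaf J G.obj := (isSheaf_iff_isSheaf_of_type _ _).1 G.property
  let S' : Sheaf J (Type u) := ⟨S.toFunctor, (isSheaf_iff_isSheaf_of_type _ _).2 ((gen F J P).sheafify_isSheaf hG)⟩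
  let ι : S' ⟶ G := ⟨S.ι⟩
  let s : P ⟶ (F.sheafPushforwardContinuous (Type u) K J).obj S' :=
    ⟨{ app := fun Z => ↾fun y => ⟨η F J P Z.unop y, (gen F J P).le_sheafify J _ ⟨Z.unop, 𝟙 _, y, by simp⟩⟩
       naturality := fun Z Z' g => by
         ext y
         exact Subtype.ext (η_map F J P g.unop y) }⟩
  have h : ((fA F J).homEquiv P S').symm s ≫ ι = 𝟙 G := by
    apply ((fA F J).homEquiv P G).injective
    rw [Adjunction.homEquiv_naturality_right, Equiv.apply_symm_apply, Adjunction.homEquiv_id]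
    rfl
  have hx : ((((fA F J).homEquiv P S').symm s).hom.app T x).1 = x := by
    have := ConcreteCategory.congr_hom (congrArg (fun k : G ⟶ G => k.hom.app T) h) x
    exact this
  have h2 := ((((fA F J).homEquiv P S').symm s).hom.app T x).2
  rw [hx] at h2
  exact h2

/-- Every section of an inverse image comes locally from the sheaf. -/
theorem exists_gen (P : Sheaf K (Type u)) {T : C} (x : ((fP F J).obj P).obj.obj (op T)) :
    ∃ S ∈ J T, ∀ ⦃T' : C⦄ (k : T' ⟶ T), S k → ∃ (Z : D) (r : T' ⟶ F.obj Z) (y : P.obj.obj (op Z)),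
      ((fP F J).obj P).obj.map r.op (η F J P Z y) = ((fP F J).obj P).obj.map k.op x :=
  ⟨_, mem_sheafify_gen F J P (op T) x, fun _ _ hk => hk⟩

/-- The representable sheaf. -/
noncomputable abbrev y {E : Type u} [SmallCategory E] (L : GrothendieckTopology E) (V : E) : Sheaf L (Type u) :=
  (presheafToSheaf L (Type u)).obj (yoneda.obj V)

/-- A map as a section of the representable sheaf. -/
noncomputable abbrev u0 {E : Type u} [SmallCategory E] (L : GrothendieckTopology E) {Z V : E} (h : Z ⟶ V) :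
    (y L V).obj.obj (op Z) :=
  (toSheafify L (yoneda.obj V)).app (op Z) h

lemma u0_map {E : Type u} [SmallCategory E] (L : GrothendieckTopology E) {Z Z' V : E} (g : Z' ⟶ Z) (h : Z ⟶ V) :
    (y L V).obj.map g.op (u0 L h) = u0 L (g ≫ h) :=
  (NatTrans.naturality_apply (toSheafify L (yoneda.obj V)) g.op h).symm

lemma exists_u0 {E : Type u} [SmallCategory E] (L : GrothendieckTopology E) {Z V : E} (x : (y L V).obj.obj (op Z)) :
    ∃ S ∈ L Z, ∀ ⦃Z' : E⦄ (g : Z' ⟶ Z), S g → ∃ h : Z' ⟶ V, u0 L h = (y L V).obj.map g.op x :=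
  ⟨_, Presheaf.imageSieve_mem L (toSheafify L (yoneda.obj V)) (U := op Z) x, fun _ _ ⟨h, hh⟩ => ⟨h, hh⟩⟩

lemma exists_eq_of_u0_eq {E : Type u} [SmallCategory E] (L : GrothendieckTopology E) {Z V : E} (a b : Z ⟶ V)
    (h : u0 L a = u0 L b) : ∃ S ∈ L Z, ∀ ⦃Z' : E⦄ (g : Z' ⟶ Z), S g → g ≫ a = g ≫ b :=
  ⟨_, Presheaf.equalizerSieve_mem L (toSheafify L (yoneda.obj V)) (X := op Z) a b h, fun _ g hg => by simpa using hg⟩

/-- The inverse image of a representable sheaf maps to the representable sheaf. -/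
noncomputable def φ (V : D) : (fP F J).obj (y K V) ⟶ y J (F.obj V) :=
  ((fA F J).homEquiv _ _).symm (((sheafificationAdjunction K (Type u)).homEquiv _ _).symm
    (yonedaEquiv.symm (u0 J (𝟙 (F.obj V)))))

lemma φ_η {V Z : D} (h : Z ⟶ V) : (φ F J V).hom.app (op (F.obj Z)) (η F J (y K V) Z (u0 K h)) = u0 J (F.map h) := by
  let t : yoneda.obj V ⟶ ((F.sheafPushforwardContinuous (Type u) K J).obj (y J (F.obj V))).obj :=
    yonedaEquiv.symm (u0 J (𝟙 (F.obj V)))
  let s : y K V ⟶ (F.sheafPushforwardContinuous (Type u) K J).obj (y J (F.obj V)) :=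
    ((sheafificationAdjunction K (Type u)).homEquiv _ ((F.sheafPushforwardContinuous (Type u) K J).obj (y J (F.obj V)))).symm t
  have h1 : (φ F J V).hom.app (op (F.obj Z)) (η F J (y K V) Z (u0 K h)) = s.hom.app (op Z) (u0 K h) := by
    refine (ConcreteCategory.congr_hom (congrArg
      (fun k : y K V ⟶ (F.sheafPushforwardContinuous (Type u) K J).obj (y J (F.obj V)) => k.hom.app (op Z))
      ((((fA F J).homEquiv_unit _ _ (φ F J V)).symm.trans (Equiv.apply_symm_apply _ s)))) (u0 K h) :)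
  have h2 : s.hom.app (op Z) (u0 K h) = t.app (op Z) h := by
    refine (ConcreteCategory.congr_hom (congrArg (fun k : yoneda.obj V ⟶
      ((F.sheafPushforwardContinuous (Type u) K J).obj (y J (F.obj V))).obj => k.app (op Z))
      (((sheafificationAdjunction K (Type u)).homEquiv_unit _ _ s).symm.trans (Equiv.apply_symm_apply _ t))) h :)
  rw [h1, h2]
  refine (u0_map J (F.map h) (𝟙 (F.obj V))).trans ?_
  rw [Category.comp_id]

/-- The universal section. -/
noncomputable abbrev e (V : D) : ((fP F J).obj (y K V)).obj.obj (op (F.obj V)) := η F J (y K V) V (u0 K (𝟙 V))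

lemma map_e {V Z : D} (h : Z ⟶ V) :
    ((fP F J).obj (y K V)).obj.map (F.map h).op (e F J V) = η F J (y K V) Z (u0 K h) := by
  rw [← η_map, u0_map, Category.comp_id]

/-- A section as a map from a representable sheaf. -/
noncomputable def el {E : Type u} [SmallCategory E] {L : GrothendieckTopology E} {T : E} {G : Sheaf L (Type u)}
    (x : G.obj.obj (op T)) : y L T ⟶ G :=
  ((sheafificationAdjunction L (Type u)).homEquiv _ _).symm (yonedaEquiv.symm x)

lemma el_spec {E : Type u} [SmallCategory E] {L : GrothendieckTopology E} {T : E} {G : Sheaf L (Type u)}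
    (x : G.obj.obj (op T)) : (el x).hom.app (op T) (u0 L (𝟙 T)) = x := by
  refine (ConcreteCategory.congr_hom (congrArg (fun k => k.app (op T))
    (((sheafificationAdjunction L (Type u)).homEquiv_unit _ _ (el x)).symm.trans
      (Equiv.apply_symm_apply _ (yonedaEquiv.symm x)))) (𝟙 T) :).trans ?_
  exact (FunctorToTypes.map_id_apply G.obj x :)

lemma el_comp {E : Type u} [SmallCategory E] {L : GrothendieckTopology E} {T : E} {G G' : Sheaf L (Type u)}
    (x : G.obj.obj (op T)) (f : G ⟶ G') : el x ≫ f = el (f.hom.app (op T) x) := by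
  apply ((sheafificationAdjunction L (Type u)).homEquiv _ _).injective
  rw [el, el, Adjunction.homEquiv_naturality_right, Equiv.apply_symm_apply, Equiv.apply_symm_apply]
  exact yonedaEquiv.injective (by
    rw [yonedaEquiv_comp, Equiv.apply_symm_apply, Equiv.apply_symm_apply]
    rfl)

variable [hfp : PreservesFiniteLimits (fP (K := K) F J)]
include hfp

theorem exists_factor_pair {T : C} {V W : D} (p : T ⟶ F.obj V) (q : T ⟶ F.obj W) :
    ∃ S ∈ J T, ∀ ⦃T' : C⦄ (k : T' ⟶ T), S k → ∃ (Z : D) (r : T' ⟶ F.obj Z) (a : Z ⟶ V) (b : Z ⟶ W),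
      r ≫ F.map a = k ≫ p ∧ r ≫ F.map b = k ≫ q := by
  let P := y K V ⨯ y K W
  let p' := ((fP F J).obj (y K V)).obj.map p.op (e F J V)
  let q' := ((fP F J).obj (y K W)).obj.map q.op (e F J W)
  let i := PreservesLimitPair.iso (fP F J) (y K V) (y K W)
  let z := prod.lift (el p') (el q') ≫ i.inv
  let x := z.hom.app (op T) (u0 J (𝟙 T))
  have hx₁ : ((fP F J).map prod.fst).hom.app (op T) x = p' := by
    refine Eq.trans ?_ (el_spec p')
    refine (ConcreteCategory.congr_hom (congrArg (fun k : y J T ⟶ (fP F J).obj (y K V) => k.hom.app (op T))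
      (show z ≫ (fP F J).map prod.fst = el p' by simp [z, i]; exact prod.lift_fst _ _)) (u0 J (𝟙 T)) :)
  have hx₂ : ((fP F J).map prod.snd).hom.app (op T) x = q' := by
    refine Eq.trans ?_ (el_spec q')
    refine (ConcreteCategory.congr_hom (congrArg (fun k : y J T ⟶ (fP F J).obj (y K W) => k.hom.app (op T))
      (show z ≫ (fP F J).map prod.snd = el q' by simp [z, i]; exact prod.lift_snd _ _)) (u0 J (𝟙 T)) :)
  obtain ⟨S, hS, hS'⟩ := exists_gen F J P x
  let R : Sieve T := ⟨fun T' k => ∃ (Z : D) (r : T' ⟶ F.obj Z) (a : Z ⟶ V) (b : Z ⟶ W),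
      r ≫ F.map a = k ≫ p ∧ r ≫ F.map b = k ≫ q, fun {T' T''} k ⟨Z, r, a, b, ha, hb⟩ l =>
    ⟨Z, l ≫ r, a, b, by simp [ha], by simp [hb]⟩⟩
  refine ⟨R, J.transitive hS R fun T' k hk => ?_, fun _ _ h => h⟩
  obtain ⟨Z, r, t, ht⟩ := hS' k hk
  obtain ⟨S₁, hS₁, h₁⟩ := exists_u0 K ((prod.fst : P ⟶ _).hom.app (op Z) t)
  obtain ⟨S₂, hS₂, h₂⟩ := exists_u0 K ((prod.snd : P ⟶ _).hom.app (op Z) t)
  have hc := J.pullback_stable r ((CoverPreserving.of_isContinuous F K J).cover_preserve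
    (K.intersection_covering hS₁ hS₂))
  refine J.transitive hc _ fun T₁ k₁ hk₁ => ?_
  obtain ⟨Z', g, r', hg, hr'⟩ := hk₁
  obtain ⟨a, ha⟩ := h₁ g hg.1
  obtain ⟨b, hb⟩ := h₂ g hg.2
  have key : ∀ {U : D} (π : P ⟶ y K U) (s : T ⟶ F.obj U)
      (hs : ((fP F J).map π).hom.app (op T) x = ((fP F J).obj (y K U)).obj.map s.op (e F J U)) (c : Z' ⟶ U)
      (hc : u0 K c = (y K U).obj.map g.op (π.hom.app (op Z) t)),
      u0 J (r' ≫ F.map c) = u0 J ((k₁ ≫ k) ≫ s) := by
    intro U π s hs c hc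
    have e0 : ((fP F J).obj P).obj.map r'.op (η F J P Z' (P.obj.map g.op t)) =
        ((fP F J).obj P).obj.map (k₁ ≫ k).op x := by
      rw [η_map, ← FunctorToTypes.map_comp_apply, ← op_comp, ← hr', op_comp, FunctorToTypes.map_comp_apply, ht,
        ← FunctorToTypes.map_comp_apply, ← op_comp]
    have e1 := congrArg (((fP F J).map π).hom.app (op T₁)) e0
    rw [NatTrans.naturality_apply, NatTrans.naturality_apply, hs, pullback_map_η, NatTrans.naturality_apply,
      ← hc, ← map_e, ← FunctorToTypes.map_comp_apply, ← FunctorToTypes.map_comp_apply, ← op_comp, ← op_comp] at e1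
    have e2 := congrArg ((φ F J U).hom.app (op T₁)) e1
    rwa [NatTrans.naturality_apply, NatTrans.naturality_apply, φ_η, CategoryTheory.Functor.map_id, u0_map, u0_map,
      Category.comp_id, Category.comp_id] at e2
  obtain ⟨S₃, hS₃, h₃⟩ := exists_eq_of_u0_eq J _ _ (key prod.fst p hx₁ a ha)
  obtain ⟨S₄, hS₄, h₄⟩ := exists_eq_of_u0_eq J _ _ (key prod.snd q hx₂ b hb)
  refine J.superset_covering ?_ (J.intersection_covering hS₃ hS₄)
  intro T₂ k₂ hk₂
  exact ⟨Z', k₂ ≫ r', a, b, by simpa [Category.assoc] using h₃ k₂ hk₂.1,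
    by simpa [Category.assoc] using h₄ k₂ hk₂.2⟩

theorem exists_factor_equalizer {T : C} {Z V : D} (r : T ⟶ F.obj Z) (α β : Z ⟶ V)
    (h : r ≫ F.map α = r ≫ F.map β) :
    ∃ S ∈ J T, ∀ ⦃T' : C⦄ (k : T' ⟶ T), S k → ∃ (Z' : D) (r' : T' ⟶ F.obj Z') (c : Z' ⟶ Z),
      r' ≫ F.map c = k ≫ r ∧ c ≫ α = c ≫ β := by
  let A := (presheafToSheaf K (Type u)).map (yoneda.map α)
  let B := (presheafToSheaf K (Type u)).map (yoneda.map β)
  have hmap : ∀ (γ : Z ⟶ V) {Z' : D} (c : Z' ⟶ Z),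
      ((presheafToSheaf K (Type u)).map (yoneda.map γ)).hom.app (op Z') (u0 K c) = u0 K (c ≫ γ) := fun γ Z' c =>
    ConcreteCategory.congr_hom (congrArg (fun k : yoneda.obj Z ⟶ sheafify K (yoneda.obj V) => k.app (op Z'))
      (toSheafify_naturality K (yoneda.map γ)).symm) c
  let r₀ := ((fP F J).obj (y K Z)).obj.map r.op (e F J Z)
  have he : el r₀ ≫ (fP F J).map A = el r₀ ≫ (fP F J).map B := by
    rw [el_comp, el_comp]
    congr 1
    rw [NatTrans.naturality_apply, NatTrans.naturality_apply, pullback_map_η, pullback_map_η, hmap, hmap,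
      Category.id_comp, Category.id_comp, ← map_e, ← map_e, ← FunctorToTypes.map_comp_apply,
      ← FunctorToTypes.map_comp_apply, ← op_comp, ← op_comp, h]
  let i := PreservesEqualizer.iso (fP F J) A B
  let z := equalizer.lift (el r₀) he ≫ i.inv
  let x := z.hom.app (op T) (u0 J (𝟙 T))
  have hx : ((fP F J).map (equalizer.ι A B)).hom.app (op T) x = r₀ := by
    refine Eq.trans ?_ (el_spec r₀)
    refine (ConcreteCategory.congr_hom (congrArg (fun k : y J T ⟶ (fP F J).obj (y K Z) => k.hom.app (op T))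
      (show z ≫ (fP F J).map (equalizer.ι A B) = el r₀ by simp [z, i])) (u0 J (𝟙 T)) :)
  obtain ⟨S, hS, hS'⟩ := exists_gen F J (equalizer A B) x
  let R : Sieve T := ⟨fun T' k => ∃ (Z' : D) (r' : T' ⟶ F.obj Z') (c : Z' ⟶ Z),
      r' ≫ F.map c = k ≫ r ∧ c ≫ α = c ≫ β, fun {T' T''} k ⟨Z', r', c, hc, hc'⟩ l =>
    ⟨Z', l ≫ r', c, by simp [hc], hc'⟩⟩
  refine ⟨R, J.transitive hS R fun T' k hk => ?_, fun _ _ h => h⟩
  obtain ⟨Z₁, r₁, t, ht⟩ := hS' k hk
  obtain ⟨S₁, hS₁, h₁⟩ := exists_u0 K ((equalizer.ι A B).hom.app (op Z₁) t)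
  let R₁ : Sieve Z₁ := ⟨fun Z₂ g => ∃ c : Z₂ ⟶ Z,
      u0 K c = (y K Z).obj.map g.op ((equalizer.ι A B).hom.app (op Z₁) t) ∧ c ≫ α = c ≫ β,
    fun {Z₂ Z₃} g ⟨c, hc, hc'⟩ l => ⟨l ≫ c, by
      rw [← u0_map, hc, ← FunctorToTypes.map_comp_apply, ← op_comp], by simp [hc']⟩⟩
  have hR₁ : R₁ ∈ K Z₁ := K.transitive hS₁ _ fun Z₂ g hg => by
    obtain ⟨c, hc⟩ := h₁ g hg
    have hαβ : u0 K (c ≫ α) = u0 K (c ≫ β) := by
      rw [← hmap, ← hmap, hc, NatTrans.naturality_apply, NatTrans.naturality_apply]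
      exact congrArg _ (ConcreteCategory.congr_hom (congrArg (fun k : equalizer A B ⟶ y K V => k.hom.app (op Z₁)) (equalizer.condition A B)) t)
    obtain ⟨S₂, hS₂, h₂⟩ := exists_eq_of_u0_eq K _ _ hαβ
    refine K.superset_covering ?_ hS₂
    intro Z₃ l hl
    exact ⟨l ≫ c, by rw [← u0_map, hc, ← FunctorToTypes.map_comp_apply, ← op_comp], by
      simpa [Category.assoc] using h₂ l hl⟩
  refine J.transitive (J.pullback_stable r₁ ((CoverPreserving.of_isContinuous F K J).cover_preserve hR₁)) _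
    fun T₁ k₁ hk₁ => ?_
  obtain ⟨Z₂, g, r', ⟨c, hc, hc'⟩, hr'⟩ := hk₁
  have key : u0 J (r' ≫ F.map c) = u0 J ((k₁ ≫ k) ≫ r) := by
    have e0 : ((fP F J).obj (equalizer A B)).obj.map r'.op (η F J _ Z₂ ((equalizer A B).obj.map g.op t)) =
        ((fP F J).obj (equalizer A B)).obj.map (k₁ ≫ k).op x := by
      rw [η_map, ← FunctorToTypes.map_comp_apply, ← op_comp, ← hr', op_comp, FunctorToTypes.map_comp_apply, ht,
        ← FunctorToTypes.map_comp_apply, ← op_comp]
    have e1 := congrArg (((fP F J).map (equalizer.ι A B)).hom.app (op T₁)) e0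
    rw [NatTrans.naturality_apply, NatTrans.naturality_apply, hx, pullback_map_η, NatTrans.naturality_apply,
      ← hc, ← map_e, ← FunctorToTypes.map_comp_apply, ← FunctorToTypes.map_comp_apply, ← op_comp, ← op_comp] at e1
    have e2 := congrArg ((φ F J Z).hom.app (op T₁)) e1
    rwa [NatTrans.naturality_apply, NatTrans.naturality_apply, φ_η, CategoryTheory.Functor.map_id, u0_map, u0_map,
      Category.comp_id, Category.comp_id] at e2
  obtain ⟨S₃, hS₃, h₃⟩ := exists_eq_of_u0_eq J _ _ key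
  refine J.superset_covering ?_ hS₃
  intro T₂ k₂ hk₂
  exact ⟨Z₂, k₂ ≫ r', c, by simpa [Category.assoc] using h₃ k₂ hk₂, hc'⟩

theorem exists_factor_pullback {T : C} {V W E : D} (p : T ⟶ F.obj V) (q : T ⟶ F.obj W) (a : V ⟶ E) (b : W ⟶ E)
    (h : p ≫ F.map a = q ≫ F.map b) :
    ∃ S ∈ J T, ∀ ⦃T' : C⦄ (k : T' ⟶ T), S k → ∃ (Z : D) (r : T' ⟶ F.obj Z) (c : Z ⟶ V) (d : Z ⟶ W),
      r ≫ F.map c = k ≫ p ∧ r ≫ F.map d = k ≫ q ∧ c ≫ a = d ≫ b := by
  obtain ⟨S, hS, hS'⟩ := exists_factor_pair (K := K) F J p q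
  let R : Sieve T := ⟨fun T' k => ∃ (Z : D) (r : T' ⟶ F.obj Z) (c : Z ⟶ V) (d : Z ⟶ W),
      r ≫ F.map c = k ≫ p ∧ r ≫ F.map d = k ≫ q ∧ c ≫ a = d ≫ b,
    fun {T' T''} k ⟨Z, r, c, d, h₁, h₂, h₃⟩ l => ⟨Z, l ≫ r, c, d, by simp [h₁], by simp [h₂], h₃⟩⟩
  refine ⟨R, J.transitive hS R fun T' k hk => ?_, fun _ _ h => h⟩
  obtain ⟨Z, r, c, d, h₁, h₂⟩ := hS' k hk
  obtain ⟨S₁, hS₁, hS₁'⟩ := exists_factor_equalizer (K := K) F J r (c ≫ a) (d ≫ b) (by
    rw [F.map_comp, F.map_comp, reassoc_of% h₁, reassoc_of% h₂, h])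
  refine J.superset_covering ?_ hS₁
  intro T₁ k₁ hk₁
  obtain ⟨Z', r', l, hl, hl'⟩ := hS₁' k₁ hk₁
  exact ⟨Z', r', l ≫ c, l ≫ d, by simp [reassoc_of% hl, h₁], by simp [reassoc_of% hl, h₂],
    by simpa [Category.assoc] using hl'⟩

theorem compatiblePreserving_overPost (U : D) :
    CompatiblePreserving.{u} (J.over (F.obj U)) (Over.post (X := U) F) := by
  constructor
  intro G Z T x hx Y₁ Y₂ X f₁ f₂ g₁ g₂ hg₁ hg₂ e
  obtain ⟨S, hS, hS'⟩ := exists_factor_pullback F J (K := K) f₁.left f₂.left g₁.left g₂.left congr($(e).left)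
  apply (((isSheaf_iff_isSheaf_of_type _ _).1 G.property).isSeparated _
    (J.overEquiv_symm_mem_over X S hS)).ext
  intro X' k hk
  obtain ⟨W, r, c, d, h₁, h₂, h₃⟩ := hS' k.left ((Sieve.overEquiv_symm_iff _ k).1 hk)
  let W' : Over U := Over.mk (c ≫ Y₁.hom)
  let c' : W' ⟶ Y₁ := Over.homMk c rfl
  let d' : W' ⟶ Y₂ := Over.homMk d (by
    change d ≫ Y₂.hom = c ≫ Y₁.hom
    rw [← Over.w g₁, ← Over.w g₂, reassoc_of% h₃])
  let r' : X' ⟶ (Over.post (X := U) F).obj W' := Over.homMk r (by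
    have w1 : f₁.left ≫ F.map Y₁.hom = X.hom := Over.w f₁
    change r ≫ F.map (c ≫ Y₁.hom) = X'.hom
    rw [F.map_comp, reassoc_of% h₁]
    exact (congrArg (k.left ≫ ·) w1).trans (Over.w k))
  have hcd := hx c' d' hg₁ hg₂ (Over.OverMorphism.ext h₃)
  have e₁ : r' ≫ (Over.post (X := U) F).map c' = k ≫ f₁ := Over.OverMorphism.ext h₁
  have e₂ : r' ≫ (Over.post (X := U) F).map d' = k ≫ f₂ := Over.OverMorphism.ext h₂
  calc G.obj.map k.op (G.obj.map f₁.op (x g₁ hg₁))
      = G.obj.map (k ≫ f₁).op (x g₁ hg₁) := (FunctorToTypes.map_comp_apply G.obj f₁.op k.op _).symm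
    _ = G.obj.map (r' ≫ (Over.post (X := U) F).map c').op (x g₁ hg₁) := by rw [e₁]
    _ = G.obj.map r'.op (G.obj.map ((Over.post (X := U) F).map c').op (x g₁ hg₁)) :=
      FunctorToTypes.map_comp_apply G.obj _ r'.op _
    _ = G.obj.map r'.op (G.obj.map ((Over.post (X := U) F).map d').op (x g₂ hg₂)) := congrArg (G.obj.map r'.op) hcd
    _ = G.obj.map (r' ≫ (Over.post (X := U) F).map d').op (x g₂ hg₂) :=
      (FunctorToTypes.map_comp_apply G.obj _ r'.op _).symm
    _ = G.obj.map (k ≫ f₂).op (x g₂ hg₂) := by rw [e₂]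
    _ = G.obj.map k.op (G.obj.map f₂.op (x g₂ hg₂)) := FunctorToTypes.map_comp_apply G.obj f₂.op k.op _

theorem isContinuous_overPost (U : D) : (Over.post (X := U) F).IsContinuous (K.over U) (J.over (F.obj U)) :=
  Functor.isContinuous_of_coverPreserving (compatiblePreserving_overPost (K := K) F J U)
    ((CoverPreserving.of_isContinuous F K J).overPost U)

end GrothLib.DerComp.SiteFlat
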