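import Groth.Agent.Lib.DerComp.Crit
import Groth.Agent.Lib.DerComp.Push
import Groth.Agent.Lib.DerComp.SiteFlat

/-! # Derived direct images preserve the left orthogonal of complete objects -/

set_option autoImplicit false
universe u

open CategoryTheory CategoryTheory.Limits Opposite Pretriangulated

attribute [local instance] HasDerivedCategory.standard

namespace GrothLib.DerComp

variable {C D : Type u} [SmallCategory C] [SmallCategory D] {J : GrothendieckTopology C} {K : GrothendieckTopology D}
  {O_C : Sheaf J CommRingCat.{u}} {O_D : Sheaf K CommRingCat.{u}} (f : ModSite.RMor O_C O_D)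

instance preservesFiniteLimits_fP : PreservesFiniteLimits (SiteFlat.fP (K := K) f.fn J) := f.exact

instance isContinuous_post (U : D) : (Over.post (X := U) f.fn).IsContinuous (K.over U) (J.over (f.fn.obj U)) :=
  SiteFlat.isContinuous_overPost f.fn J U

lemma map_sharpSec {V W : D} (g : W ⟶ V) (r : O_D.obj.obj (op V)) :
    (O_C.obj.map (f.fn.map g).op).hom (sharpSec f r) = sharpSec f ((O_D.obj.map g.op).hom r) :=
  (ConcreteCategory.congr_hom (f.sharp.hom.naturality g.op) r).symm

/-- The sections locally spanned wherever they make sense. -/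
def spanAll {V : C} {r : ℕ} (a : Fin r → O_C.obj.obj (op V)) : _root_.DerComp.IdealSh O_C where
  ideal T := ⨅ (T' : C) (g : T' ⟶ T) (k : T' ⟶ V), (locSpanIdeal a T' k).comap (O_C.obj.map g.op).hom
  map_mem {T T₁} g f hf := by
    simp only [Submodule.mem_iInf, Ideal.mem_comap] at hf ⊢
    intro T' h k
    have := hf T' (h ≫ g) k
    rwa [res_res]
  glue {T f} S hS h := by
    simp only [Submodule.mem_iInf, Ideal.mem_comap]
    intro T' g k
    refine SiteDer.Locally.trans (fun W W' b l hb => ?_) (J.pullback_stable g hS) fun W b hb => ?_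
    · have := Ideal.mem_map_of_mem (O_C.obj.map l.op).hom hb
      rw [Ideal.map_span, res_res] at this
      refine Ideal.span_mono ?_ this
      rintro _ ⟨_, ⟨i, rfl⟩, rfl⟩
      exact ⟨i, ((res_res _ l (a i)).trans (by rw [Category.assoc])).symm⟩
    · have h1 := h (b ≫ g) hb
      simp only [Submodule.mem_iInf, Ideal.mem_comap] at h1
      have h2 := h1 W (𝟙 W) (b ≫ k)
      rw [res_res, Category.id_comp] at h2
      refine SiteDer.Locally.mono h2 fun W' l hl => ?_
      change (O_C.obj.map l.op).hom ((O_C.obj.map (b ≫ g).op).hom f) ∈ _ at hl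
      change (O_C.obj.map (l ≫ b).op).hom ((O_C.obj.map g.op).hom f) ∈ _
      rw [res_res] at hl ⊢
      simp only [Category.assoc] at hl ⊢
      exact hl

/-- Spanning sections of an ideal map to spanning sections of the extended ideal. -/
theorem locSpan_sharp {I : _root_.DerComp.IdealSh O_D} {I' : _root_.DerComp.IdealSh O_C}
    (hI' : _root_.DerComp.RIsIdealExt f I I') {U : D} {r : ℕ} {b : Fin r → O_D.obj.obj (op U)}
    (hb : LocSpan I U b) : LocSpan I' (f.fn.obj U) fun i => sharpSec f (b i) := by
  refine ⟨fun i => hI'.1 U _ (hb.1 i), fun W k g hg => ?_⟩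
  have hle : I' ≤ spanAll (fun i => sharpSec f (b i)) := hI'.2 _ fun V x hx => by
    simp only [spanAll, Submodule.mem_iInf, Ideal.mem_comap]
    intro T p q
    obtain ⟨S, hS, hS'⟩ := SiteFlat.exists_factor_pair (K := K) f.fn J p q
    refine SiteDer.Locally.trans (fun W W' c l hc => ?_) hS fun T₁ c hc => ?_
    · have := Ideal.mem_map_of_mem (O_C.obj.map l.op).hom hc
      rw [Ideal.map_span, res_res] at this
      refine Ideal.span_mono ?_ this
      rintro _ ⟨_, ⟨i, rfl⟩, rfl⟩
      exact ⟨i, ((res_res _ l _).trans (by rw [Category.assoc])).symm⟩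
    obtain ⟨Z, s, u, v, hu, hv⟩ := hS' c hc
    obtain ⟨R, hR, hR'⟩ := hb.2 Z v _ (I.map_mem u hx)
    refine ⟨_, J.pullback_stable s ((CoverPreserving.of_isContinuous f.fn K J).cover_preserve hR), ?_⟩
    rintro T₂ l ⟨Z', w, t, hw, ht⟩
    have h1 := Ideal.mem_map_of_mem
      ((O_C.obj.map t.op).hom.comp (f.sharp.hom.app (op Z')).hom) (hR' w hw)
    rw [Ideal.map_span] at h1
    have e : ∀ {X : D} (a : Z' ⟶ X) (y : O_D.obj.obj (op X)),
        (O_C.obj.map t.op).hom ((f.sharp.hom.app (op Z')).hom ((O_D.obj.map a.op).hom y)) =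
          (O_C.obj.map (t ≫ f.fn.map a).op).hom (sharpSec f y) := fun a y => by
      rw [← res_res, map_sharpSec]
    change (O_C.obj.map (l ≫ c).op).hom ((O_C.obj.map p.op).hom (sharpSec f x)) ∈ _
    rw [res_res, show (l ≫ c) ≫ p = t ≫ f.fn.map (w ≫ u) by
      rw [Category.assoc, ← hu, ← Category.assoc, ht, Category.assoc, f.fn.map_comp], ← e]
    refine Ideal.span_mono ?_ (by rwa [RingHom.comp_apply, res_res] at h1)
    rintro _ ⟨_, ⟨i, rfl⟩, rfl⟩
    refine ⟨i, ((e _ _).trans ?_).symm⟩
    have e2 : t ≫ f.fn.map (w ≫ v) = (l ≫ c) ≫ q := by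
      rw [Category.assoc l, ← hv, ← Category.assoc l, ht, Category.assoc, ← f.fn.map_comp]
    exact congrArg (fun z => (O_C.obj.map z.op).hom (sharpSec f (b i))) e2
  have := hle W hg
  simp only [spanAll, Submodule.mem_iInf, Ideal.mem_comap] at this
  have h2 := this W (𝟙 W) k
  rwa [op_id, CategoryTheory.Functor.map_id] at h2

/-- The structure map over `U`. -/
noncomputable def sharpOver (U : D) : ModSite.ringSh (O_D.over U) ⟶
    ((Over.post (X := U) f.fn).sheafPushforwardContinuous RingCat.{u} (K.over U) (J.over (f.fn.obj U))).obj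
      (ModSite.ringSh (O_C.over (f.fn.obj U))) :=
  ⟨Functor.whiskerLeft (Over.forget U).op f.sharpR.hom⟩

/-- Direct image over `U`. -/
noncomputable abbrev pushOver (U : D) : ModSite.Mod (O_C.over (f.fn.obj U)) ⥤ ModSite.Mod (O_D.over U) :=
  SheafOfModules.pushforward.{u} (sharpOver f U)

instance additive_pushOver (U : D) : (pushOver f U).Additive where
  map_add := rfl

/-- Direct image commutes with restriction. -/
noncomputable def pushSqIso (U : D) :
    ModSite.restr O_C (f.fn.obj U) ⋙ pushOver f U ≅ f.push ⋙ ModSite.restr O_D U := Iso.refl _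

/-- The scalar corresponding to a scalar downstairs. -/
def scalOver (U : D) (s : _root_.DerComp.GSec (O_D.over U)) : _root_.DerComp.GSec (O_C.over (f.fn.obj U)) :=
  _root_.DerComp.GSec.ofSect O_C (f.fn.obj U) (sharpSec f (s.1 (Over.mk (𝟙 U))))

lemma scalOver_ofSect (U : D) (b : O_D.obj.obj (op U)) :
    scalOver f U (_root_.DerComp.GSec.ofSect O_D U b) =
      _root_.DerComp.GSec.ofSect O_C (f.fn.obj U) (sharpSec f b) :=
  congrArg (fun t => _root_.DerComp.GSec.ofSect O_C (f.fn.obj U) (sharpSec f t)) (ofSect_val_id U b)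

lemma sharp_scalOver (U : D) (s : _root_.DerComp.GSec (O_D.over U)) (W : Over U) :
    (scalOver f U s).1 ((Over.post (X := U) f.fn).obj W) = sharpSec f (s.1 W) := by
  refine (map_sharpSec f W.hom _).trans (congrArg (sharpSec f) ?_)
  exact s.2 (Over.homMk W.hom : W ⟶ Over.mk (𝟙 U))

lemma pushOver_map_smulEnd (U : D) (s : _root_.DerComp.GSec (O_D.over U))
    (X : ModSite.Mod (O_C.over (f.fn.obj U))) :
    (pushOver f U).map (_root_.DerComp.smulEnd (scalOver f U s) X) =
      _root_.DerComp.smulEnd s ((pushOver f U).obj X) := by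
  refine SheafOfModules.hom_ext (PresheafOfModules.hom_ext fun W => ModuleCat.hom_ext (LinearMap.ext fun x => ?_))
  let y : X.val.obj (op ((Over.post (X := U) f.fn).obj W.unop)) := x
  exact congrArg (fun t : (ModSite.ringSh (O_C.over (f.fn.obj U))).obj.obj
    (op ((Over.post (X := U) f.fn).obj W.unop)) => t • y) (sharp_scalOver f U s W.unop)

/-- Derived direct image over `U`. -/
noncomputable abbrev RresOver (U : D) :
    DerivedCategory (ModSite.Mod (O_C.over (f.fn.obj U))) ⥤ DerivedCategory (ModSite.Mod (O_D.over U)) :=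
  KInj.res _ ⋙ (pushOver f U).mapHomotopyCategory (ComplexShape.up ℤ) ⋙ DerivedCategory.Qh

lemma res_map_smul_id {R : Type*} [CommRing R] {A : Type*} [Category A] [Abelian A] [IsGrothendieckAbelian.{u} A]
    [HasDerivedCategory A] [Linear R A] (r : R) (X : DerivedCategory A) :
    (KInj.res A).map (r • 𝟙 X) = r • 𝟙 ((KInj.res A).obj X) := by
  apply ((KInj.resAdj A).homEquiv _ _).symm.injective
  rw [Adjunction.homEquiv_counit, Adjunction.homEquiv_counit]
  refine ((KInj.resAdj A).counit.naturality (r • 𝟙 X)).trans ?_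
  rw [Functor.map_smul, CategoryTheory.Functor.map_id]
  simp

lemma RresOver_map_smul (U : D) (s : _root_.DerComp.GSec (O_D.over U))
    (X : DerivedCategory (ModSite.Mod (O_C.over (f.fn.obj U)))) :
    (RresOver f U).map (scalOver f U s • 𝟙 X) = s • 𝟙 ((RresOver f U).obj X) := by
  let Z := (KInj.res (ModSite.Mod (O_C.over (f.fn.obj U)))).obj X
  have h : ((pushOver f U).mapHomotopyCategory (ComplexShape.up ℤ)).map (scalOver f U s • 𝟙 Z) =
      s • 𝟙 (((pushOver f U).mapHomotopyCategory (ComplexShape.up ℤ)).obj Z) := by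
    obtain ⟨K₀⟩ := Z
    change ((pushOver f U).mapHomotopyCategory (ComplexShape.up ℤ)).map
        (scalOver f U s • 𝟙 ((HomotopyCategory.quotient _ _).obj K₀)) =
      s • 𝟙 ((HomotopyCategory.quotient _ _).obj (((pushOver f U).mapHomologicalComplex _).obj K₀))
    rw [← CategoryTheory.Functor.map_id, ← Functor.map_smul, ← CategoryTheory.Functor.map_id, ← Functor.map_smul]
    change (HomotopyCategory.quotient _ _).map (((pushOver f U).mapHomologicalComplex _).map _) = _
    congr 1
    refine HomologicalComplex.hom_ext _ _ fun i => ?_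
    change (pushOver f U).map ((scalOver f U s • 𝟙 K₀).f i) = (s • 𝟙 (((pushOver f U).mapHomologicalComplex _).obj K₀)).f i
    rw [HomologicalComplex.smul_f_apply, HomologicalComplex.smul_f_apply, HomologicalComplex.id_f,
      HomologicalComplex.id_f, ← smulEnd_eq_smul, ← smulEnd_eq_smul]
    exact pushOver_map_smulEnd f U s _
  change DerivedCategory.Qh.map (((pushOver f U).mapHomotopyCategory (ComplexShape.up ℤ)).map
    ((KInj.res _).map (scalOver f U s • 𝟙 X))) = _
  rw [res_map_smul_id, h, Functor.map_smul, CategoryTheory.Functor.map_id]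
  rfl

/-- Derived direct image commutes with restriction. -/
theorem nonempty_RresOver_iso (U : D) (M : DerivedCategory (ModSite.Mod O_C)) :
    Nonempty ((RresOver f U).obj ((rD O_C (f.fn.obj U)).obj M) ≅ (rD O_D U).obj ((SiteDer.Rres f).obj M)) := by
  have : IsGrothendieckAbelian.{u} (ModSite.Mod O_C) := KInj.isGrothendieckAbelian_sheafOfModules _
  have : IsGrothendieckAbelian.{u} (ModSite.Mod (O_C.over (f.fn.obj U))) := KInj.isGrothendieckAbelian_sheafOfModules _
  let I := (KInj.res (ModSite.Mod O_C)).obj M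
  let r := (ModSite.restr O_C (f.fn.obj U)).mapHomotopyCategory (ComplexShape.up ℤ)
  have hI := KInj.rightOrthogonal_map (ModSite.extZeroAdj O_C (f.fn.obj U)) (KInj.rightOrthogonal_res M)
  have := KInj.isIso_unit_of_rightOrthogonal hI
  let e₁ : r.obj I ≅ (KInj.res _).obj ((rD O_C (f.fn.obj U)).obj M) :=
    asIso ((KInj.resAdj (ModSite.Mod (O_C.over (f.fn.obj U)))).unit.app (r.obj I)) ≪≫ (KInj.res _).mapIso
      (((ModSite.restr O_C (f.fn.obj U)).mapDerivedCategoryFactorsh.app I).symm ≪≫
        (rD O_C (f.fn.obj U)).mapIso (asIso ((KInj.resAdj (ModSite.Mod O_C)).counit.app M)))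
  let e₂ : ((pushOver f U).mapHomotopyCategory (ComplexShape.up ℤ)).obj (r.obj I) ≅
      ((ModSite.restr O_D U).mapHomotopyCategory (ComplexShape.up ℤ)).obj
        ((f.push.mapHomotopyCategory (ComplexShape.up ℤ)).obj I) :=
    Iso.refl _
  exact ⟨(DerivedCategory.Qh.mapIso (((pushOver f U).mapHomotopyCategory _).mapIso e₁)).symm ≪≫
    DerivedCategory.Qh.mapIso e₂ ≪≫ ((ModSite.restr O_D U).mapDerivedCategoryFactorsh.app _).symm⟩

/-- Derived direct images preserve the left orthogonal of complete objects. -/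
theorem lOrth_Rres {I : _root_.DerComp.IdealSh O_D} {I' : _root_.DerComp.IdealSh O_C} (hI : LocFT I)
    (hI' : _root_.DerComp.RIsIdealExt f I I') {Q : DerivedCategory (ModSite.Mod O_C)} (hQ : LOrth I' Q) :
    LOrth I ((SiteDer.Rres f).obj Q) := by
  refine lOrth_of_isZero_kos hI fun U r b hb => ?_
  have : IsGrothendieckAbelian.{u} (ModSite.Mod (O_C.over (f.fn.obj U))) := KInj.isGrothendieckAbelian_sheafOfModules _
  have : (RresOver f U).IsTriangulated := SiteDer.isTriangulated_res_map (pushOver f U)
  have h0 := hQ.isZero_kos (locSpan_sharp f hI' hb)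
  have hl : sectList (fun i => sharpSec f (b i)) = (sectList b).map (scalOver f U) := by
    simp [sectList, List.map_ofFn, Function.comp_def, scalOver_ofSect]
  rw [hl] at h0
  obtain ⟨e⟩ := nonempty_kos_map (RresOver f U) (scalOver f U) (sectList b) (fun s _ X => RresOver_map_smul f U s X)
    ((rD O_C (f.fn.obj U)).obj Q)
  have h1 := ((RresOver f U).map_isZero h0).of_iso e.symm
  obtain ⟨i⟩ := nonempty_RresOver_iso f U Q
  refine (isZero_kos_iff_left _ _).2 fun L hL => ?_
  have := (isZero_kos_iff_left _ _).1 h1 L hL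
  exact i.homFromEquiv.symm.subsingleton

/-- Derived direct images commute with completion. -/
theorem isIso_completion_RpushD [SiteCmp.HasRpushD f] {I : _root_.DerComp.IdealSh O_D} {I' : _root_.DerComp.IdealSh O_C}
    (hI : LocFT I) (hI' : _root_.DerComp.RIsIdealExt f I I') [_root_.DerComp.HasDerCompletion O_D I]
    [_root_.DerComp.HasDerCompletion O_C I'] (M : DerivedCategory (ModSite.Mod O_C))
    (h : _root_.DerComp.IsDerComp O_D I ((SiteCmp.RpushD f).obj ((_root_.DerComp.derCompletion O_C I').obj M).obj)) :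
    IsIso (((_root_.DerComp.derCompletionAdj O_D I).homEquiv ((SiteCmp.RpushD f).obj M)
      ⟨(SiteCmp.RpushD f).obj ((_root_.DerComp.derCompletion O_C I').obj M).obj, h⟩).symm
        ((SiteCmp.RpushD f).map (_root_.DerComp.toDerCompletion I' M))) := by
  obtain ⟨Q, g, d, hT, hQ⟩ := exists_cone_toDerCompletion (I := I') M
  let e := SiteDer.rpushDIso f
  haveI : IsGrothendieckAbelian.{u} (ModSite.Mod O_C) := KInj.isGrothendieckAbelian_sheafOfModules _
  haveI : (SiteDer.Rres f).IsTriangulated := SiteDer.isTriangulated_res_map f.push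
  letI := Functor.CommShift.ofIso e.symm ℤ
  haveI := Functor.CommShift.ofIso_compatibility e.symm ℤ
  haveI := Functor.isTriangulated_of_iso e.symm
  exact isIso_completion_map h ((SiteCmp.RpushD f).map_distinguished _ hT)
    ((lOrth_Rres f hI hI' hQ).of_iso (e.app Q).symm)

end GrothLib.DerComp
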