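import Groth.Agent.Lib.DerComp.EigKos
import Groth.Agent.Lib.ModFlat.TensorSymm
import Groth.Agent.Lib.ModExtZero.Basic

/-! # A map to a flat module which is bijective modulo finitely many scalars -/

set_option autoImplicit false
universe u

open CategoryTheory CategoryTheory.Limits Opposite MonoidalCategory GrothLib.SheafCoh GrothLib.ModSupp25

attribute [local instance] GrothLib.ModFlat.additive_T

namespace GrothLib.DerComp

variable {C : Type u} [SmallCategory C] {J : GrothendieckTopology C} {O : Sheaf J CommRingCat.{u}}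

/-- `x` is a combination of multiples of the scalars of the list. -/
def InL : List (_root_.DerComp.GSec O) → ∀ (X : ModSite.Mod O) {W : C}, sec O X W → Prop
  | [], _, _, x => x = 0
  | s :: l, X, W, x => ∃ y, InL l X (x - smSec X (s.1 W) y)

lemma InL.restrict : ∀ {l : List (_root_.DerComp.GSec O)} {X : ModSite.Mod O} {W W' : C} (k : W' ⟶ W)
    {x : sec O X W}, InL l X x → InL l X (res O X k x)
  | [], X, _, _, k, x, h => by
    change x = 0 at h
    change res O X k x = 0
    rw [h, map_zero]
  | s :: l, X, W, W', k, x, ⟨y, hy⟩ => ⟨res O X k y, by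
    have h := InL.restrict k hy
    rw [map_sub, res_smSec] at h
    rwa [show (O.obj.map k.op).hom (s.1 W) = s.1 W' from s.2 k] at h⟩

/-- The quotient by the scalars of the list. -/
noncomputable def quObj : List (_root_.DerComp.GSec O) → ModSite.Mod O → ModSite.Mod O
  | [], X => X
  | s :: l, X => cokernel (_root_.DerComp.smulEnd s (quObj l X))

/-- The quotient map. -/
noncomputable def quπ : ∀ (l : List (_root_.DerComp.GSec O)) (X : ModSite.Mod O), X ⟶ quObj l X
  | [], X => 𝟙 X
  | s :: l, X => quπ l X ≫ cokernel.π (_root_.DerComp.smulEnd s (quObj l X))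

instance epi_quπ : ∀ (l : List (_root_.DerComp.GSec O)) (X : ModSite.Mod O), Epi (quπ l X)
  | [], X => inferInstanceAs (Epi (𝟙 X))
  | _ :: l, X => by
    have := epi_quπ l X
    exact @epi_comp _ _ _ _ _ _ this _ coequalizer.π_epi

/-- Quotients are functorial. -/
noncomputable def quMap : ∀ (l : List (_root_.DerComp.GSec O)) {X Y : ModSite.Mod O}, (X ⟶ Y) → (quObj l X ⟶ quObj l Y)
  | [], _, _, f => f
  | s :: l, _, _, f => cokernel.map _ _ (quMap l f) (quMap l f) (_root_.DerComp.smulEnd_comm s (quMap l f))

lemma quπ_quMap : ∀ (l : List (_root_.DerComp.GSec O)) {X Y : ModSite.Mod O} (f : X ⟶ Y),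
    quπ l X ≫ quMap l f = f ≫ quπ l Y
  | [], X, Y, f => (Category.id_comp f).trans (Category.comp_id f).symm
  | s :: l, X, Y, f => by
    change (quπ l X ≫ cokernel.π _) ≫ quMap (s :: l) f = f ≫ quπ l Y ≫ cokernel.π _
    have hc : cokernel.π (_root_.DerComp.smulEnd s (quObj l X)) ≫ quMap (s :: l) f = quMap l f ≫ cokernel.π _ :=
      cokernel.π_desc _ _ _
    refine (Category.assoc _ _ _).trans ((congrArg (quπ l X ≫ ·) hc).trans ?_)
    exact (Category.assoc _ _ _).symm.trans ((congrArg (· ≫ _) (quπ_quMap l f)).trans (Category.assoc _ _ _))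

lemma app_quπ_eq_zero : ∀ {l : List (_root_.DerComp.GSec O)} {X : ModSite.Mod O} {W : C} {x : sec O X W},
    InL l X x → app O (quπ l X) W x = 0
  | [], X, W, x, h => h
  | s :: l, X, W, x, ⟨y, hy⟩ => by
    have h := app_quπ_eq_zero hy
    rw [map_sub, app_smSec, sub_eq_zero] at h
    change app O (quπ l X ≫ cokernel.π _) W x = 0
    rw [app_comp, h]
    change app O (cokernel.π _) W (app O (_root_.DerComp.smulEnd s (quObj l X)) W (app O (quπ l X) W y)) = 0
    rw [← app_comp, cokernel.condition]
    rfl

lemma locally_inL_of_app_quπ : ∀ {l : List (_root_.DerComp.GSec O)} {X : ModSite.Mod O} {W : C} {x : sec O X W},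
    app O (quπ l X) W x = 0 → SiteDer.Locally J W fun _ h => InL l X (res O X h x)
  | [], X, W, x, h => SiteDer.Locally.of_forall fun W' k => by
    change x = 0 at h
    change res O X k x = 0
    rw [h, map_zero]
  | s :: l, X, W, x, h => by
    change app O (quπ l X ≫ cokernel.π _) W x = 0 at h
    rw [app_comp] at h
    obtain ⟨T, hT, hw⟩ := exists_cover_of_exact O _
      (ShortComplex.exact_cokernel (_root_.DerComp.smulEnd s (quObj l X))) (app O (quπ l X) W x) h
    refine SiteDer.Locally.trans (fun V V' a b hab => ?_) hT fun V a ha => ?_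
    · rw [← ModSupp25.res_res O X a b x]
      exact hab.restrict b
    obtain ⟨w, hw⟩ := hw a ha
    obtain ⟨T', hT', hy⟩ := exists_cover_lift O (quπ l X) w
    refine SiteDer.Locally.trans (fun V' V'' b c hbc => ?_) hT' fun V' b hb => ?_
    · rw [Category.assoc, ← ModSupp25.res_res O X (b ≫ a) c x]
      exact hbc.restrict c
    obtain ⟨y, hy⟩ := hy b hb
    have h0 : app O (quπ l X) V' (res O X (b ≫ a) x - smSec X (s.1 V') y) = 0 := by
      rw [map_sub, app_smSec, sub_eq_zero, ← res_app, ← ModSupp25.res_res, ← hw, hy, res_app]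
      rfl
    refine (locally_inL_of_app_quπ h0).mono fun V'' c hc => ?_
    rw [map_sub, res_smSec, ModSupp25.res_res] at hc
    rw [show (O.obj.map c.op).hom (s.1 V') = s.1 V'' from s.2 c] at hc
    rw [Category.assoc]
    exact ⟨_, hc⟩

section

variable {l : List (_root_.DerComp.GSec O)} {X Y : ModSite.Mod O} (e : X ⟶ Y)
  (hinj : ∀ (W : C) (x : sec O X W), InL l Y (app O e W x) →
    SiteDer.Locally J W fun _ h => InL l X (res O X h x))
  (hsurj : ∀ (W : C) (y : sec O Y W), SiteDer.Locally J W fun W' h =>
    ∃ a : sec O X W', InL l Y (res O Y h y - app O e W' a))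

include hinj in
theorem mono_quMap : Mono (quMap l e) := by
  refine Preadditive.mono_of_cancel_zero _ fun {Z} f hf => ?_
  refine SheafOfModules.hom_ext (PresheafOfModules.hom_ext fun W => ModuleCat.hom_ext (LinearMap.ext fun z => ?_))
  let z' : sec O Z W.unop := z
  suffices h : app O f W.unop z' = 0 from h
  let q := app O f W.unop z'
  have hq : app O (quMap l e) W.unop q = 0 := by
    rw [← app_comp, hf]
    rfl
  obtain ⟨T, hT, hx⟩ := exists_cover_lift O (quπ l X) q
  refine eq_zero_of_cover O _ q T hT fun V a ha => ?_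
  obtain ⟨x, hx⟩ := hx a ha
  have h1 : app O (quπ l Y) V (app O e V x) = 0 := by
    rw [← app_comp, ← quπ_quMap, app_comp, hx, ← res_app, hq, map_zero]
  obtain ⟨T', hT', h2⟩ := locally_inL_of_app_quπ h1
  rw [← hx]
  refine eq_zero_of_cover O _ _ T' hT' fun V' b hb => ?_
  have h3 := h2 b hb
  dsimp only at h3
  rw [res_app] at h3
  obtain ⟨T'', hT'', h4⟩ := hinj V' _ h3
  refine eq_zero_of_cover O _ _ T'' hT'' fun V'' c hc => ?_
  rw [res_app, res_app]
  exact app_quπ_eq_zero (h4 c hc)

include hsurj in
theorem epi_quMap : Epi (quMap l e) := by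
  apply Functor.epi_of_epi_map (tS O)
  rw [← Sheaf.isLocallySurjective_iff_epi' AddCommGrpCat.{u}]
  refine ⟨fun {W} q => ?_⟩
  let q' : sec O (quObj l Y) W := q
  obtain ⟨T, hT, hy⟩ := exists_cover_lift O (quπ l Y) q'
  obtain ⟨T', hT', h⟩ : SiteDer.Locally J W fun W' h => ∃ p, app O (quMap l e) W' p = res O (quObj l Y) h q' := by
    refine SiteDer.Locally.trans (fun V V' a b ⟨p, hp⟩ => ⟨res O _ b p, ?_⟩) hT fun V a ha => ?_
    · rw [← res_app, hp, ModSupp25.res_res]
    obtain ⟨y, hy⟩ := hy a ha
    refine (hsurj V y).mono fun V' b ⟨p, hp⟩ => ⟨app O (quπ l X) V' p, ?_⟩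
    have h0 := app_quπ_eq_zero hp
    rw [map_sub, sub_eq_zero] at h0
    rw [← app_comp, quπ_quMap, app_comp, ← h0, ← res_app, hy, ModSupp25.res_res]
  exact J.superset_covering (fun V g hg => h g hg) hT'

include hinj hsurj in
theorem isIso_quMap : IsIso (quMap l e) := by
  have := mono_quMap e hinj
  have := epi_quMap e hsurj
  exact isIso_of_mono_of_epi _

end

/-! ### The natural map into the tensor product -/

variable (O) in
/-- Tensoring with the structure sheaf does nothing. -/
noncomputable def tensorRUnit : ModFlat.T (ModSite.unit O) ≅ 𝟭 (ModSite.Mod O) :=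
  haveI := isIso_counit_shfAdj O
  NatIso.ofComponents (fun M => (shf O).mapIso (ρ_ ((forgetP O).obj M)) ≪≫ (asIso (shfAdj O).counit).app M)
    fun {M M'} f => by
      change (shf O).map ((forgetP O).map f ▷ _) ≫ (shf O).map _ ≫ _ = ((shf O).map _ ≫ _) ≫ f
      refine ((shf O).map_comp_assoc _ _ _).symm.trans ((congrArg (fun t => (shf O).map t ≫ _)
        (rightUnitor_naturality ((forgetP O).map f))).trans (((shf O).map_comp_assoc _ _ _).trans ?_))
      refine Eq.trans ?_ (Category.assoc _ _ _).symm
      exact congrArg ((shf O).map (ρ_ ((forgetP O).obj M)).hom ≫ ·) ((shfAdj O).counit.naturality f)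

/-- The structure sheaf tensored with a module is the module. -/
noncomputable def tensorLUnit (N : ModSite.Mod O) : (ModFlat.T N).obj (ModSite.unit O) ≅ N :=
  haveI := isIso_counit_shfAdj O
  (shf O).mapIso (λ_ ((forgetP O).obj N)) ≪≫ (asIso (shfAdj O).counit).app N

variable {N : ModSite.Mod O} (e : ModSite.unit O ⟶ N)

/-- `x ↦ x ⊗ e(1)`. -/
noncomputable def tensorUnitMap : 𝟭 (ModSite.Mod O) ⟶ ModFlat.T N :=
  (tensorRUnit O).inv ≫ (ModSite.tensorBi O).flip.map e

lemma tensorUnitMap_unit :
    (tensorUnitMap e).app (ModSite.unit O) ≫ (tensorLUnit N).hom = e := by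
  have h : ((ModSite.tensorBi O).flip.map e).app (ModSite.unit O) ≫ (tensorLUnit N).hom =
      (tensorLUnit (ModSite.unit O)).hom ≫ e := by
    change (shf O).map (_ ◁ (forgetP O).map e) ≫ (shf O).map _ ≫ _ = ((shf O).map _ ≫ _) ≫ e
    refine ((shf O).map_comp_assoc _ _ _).symm.trans ((congrArg (fun t => (shf O).map t ≫ _)
      (leftUnitor_naturality ((forgetP O).map e))).trans (((shf O).map_comp_assoc _ _ _).trans ?_))
    refine Eq.trans ?_ (Category.assoc _ _ _).symm
    exact congrArg ((shf O).map (λ_ ((forgetP O).obj (ModSite.unit O))).hom ≫ ·) ((shfAdj O).counit.naturality e)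
  have hu : (tensorLUnit (ModSite.unit O)).hom = (tensorRUnit O).hom.app (ModSite.unit O) :=
    congrArg (fun t => (shf O).map t ≫ (shfAdj O).counit.app (ModSite.unit O))
      (MonoidalCategory.unitors_equal (C := PMod' O))
  rw [tensorUnitMap, NatTrans.comp_app, Category.assoc, h, hu, ← Category.assoc, Iso.inv_hom_id_app]
  exact Category.id_comp e

lemma T_map_smulEnd (s : _root_.DerComp.GSec O) (M : ModSite.Mod O) :
    (ModFlat.T N).map (_root_.DerComp.smulEnd s M) = _root_.DerComp.smulEnd s ((ModFlat.T N).obj M) :=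
  tensor_smulEnd_left s M N

lemma cokernel.π_of_eq_zero {A B : ModSite.Mod O} {f : A ⟶ B} (h : f = 0) : IsIso (cokernel.π f) := by
  subst h
  infer_instance

/-- Tensoring with a module killed by the scalars ignores them. -/
theorem isIso_tensor_quπ {M : ModSite.Mod O} : ∀ (l : List (_root_.DerComp.GSec O)),
    (∀ s ∈ l, _root_.DerComp.smulEnd s M = 0) → ∀ X, IsIso ((ModFlat.T M).map (quπ l X))
  | [], _, X => by
    change IsIso ((ModFlat.T M).map (𝟙 X))
    infer_instance
  | s :: l, hM, X => by
    have := isIso_tensor_quπ l (fun t ht => hM t (List.mem_cons_of_mem _ ht)) X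
    have := ModFlat.preservesColimits_T M
    have h0 : (ModFlat.T M).map (_root_.DerComp.smulEnd s (quObj l X)) = 0 := by
      let S := ((ModFlat.tensorSymm O).app (quObj l X)).app M
      rw [← cancel_mono S.hom, zero_comp, T_map_smulEnd]
      refine (_root_.DerComp.smulEnd_comm s S.hom).trans ?_
      change S.hom ≫ _root_.DerComp.smulEnd s ((ModFlat.T (quObj l X)).obj M) = 0
      rw [← T_map_smulEnd, hM s List.mem_cons_self]
      exact (congrArg (S.hom ≫ ·) ((ModFlat.T (quObj l X)).map_zero M M)).trans comp_zero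
    have : IsIso ((ModFlat.T M).map (cokernel.π (_root_.DerComp.smulEnd s (quObj l X)))) := by
      have : IsIso (cokernel.π ((ModFlat.T M).map (_root_.DerComp.smulEnd s (quObj l X)))) :=
        cokernel.π_of_eq_zero h0
      have h := PreservesCokernel.π_iso_hom (ModFlat.T M) (_root_.DerComp.smulEnd s (quObj l X))
      exact IsIso.of_isIso_fac_right h
    change IsIso ((ModFlat.T M).map (quπ l X ≫ cokernel.π _))
    rw [Functor.map_comp]
    exact IsIso.comp_isIso' ‹_› ‹_›

variable [(ModFlat.T N).Additive] {l : List (_root_.DerComp.GSec O)}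

/-- On modules killed by the scalars `x ↦ x ⊗ e(1)` is invertible. -/
theorem isIso_tensorUnitMap_of_killed (hiso : IsIso (quMap l e)) {M : ModSite.Mod O}
    (hM : ∀ s ∈ l, _root_.DerComp.smulEnd s M = 0) : IsIso ((tensorUnitMap e).app M) := by
  have h1 := isIso_tensor_quπ l hM
  let F := (ModSite.tensorBi O).obj M
  let S := (ModFlat.tensorSymm O).app M
  have h2 : ∀ X, IsIso (F.map (quπ l X)) := fun X => by
    have := h1 X
    exact (NatIso.isIso_map_iff S (quπ l X)).2 this
  have := h2 (ModSite.unit O)
  have := h2 N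
  have : IsIso (F.map e) := by
    have h : F.map (quπ l (ModSite.unit O)) ≫ F.map (quMap l e) = F.map e ≫ F.map (quπ l N) := by
      rw [← Functor.map_comp, ← Functor.map_comp, quπ_quMap]
    have : IsIso (F.map e ≫ F.map (quπ l N)) := h ▸ inferInstance
    exact IsIso.of_isIso_comp_right _ (F.map (quπ l N))
  change IsIso ((tensorRUnit O).inv.app M ≫ F.map e)
  infer_instance

/-- On modules on which the scalars act nilpotently it is invertible too, for flat `N`. -/
theorem isIso_tensorUnitMap_of_nil (hN : ModSite.IsFlat N) (hiso : IsIso (quMap l e)) :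
    ∀ (rest : List (_root_.DerComp.GSec O)) (M : ModSite.Mod O),
      (∀ s ∈ l, s ∉ rest → _root_.DerComp.smulEnd s M = 0) →
      (∀ s ∈ rest, ∃ k : ℕ, _root_.DerComp.smulEnd (s ^ k) M = 0) → IsIso ((tensorUnitMap e).app M)
  | [], M, h, _ => isIso_tensorUnitMap_of_killed e hiso fun s hs => h s hs List.not_mem_nil
  | s :: rest, M, h, hr => by
    obtain ⟨k, hk⟩ := hr s List.mem_cons_self
    replace hr : ∀ t ∈ rest, ∃ k : ℕ, _root_.DerComp.smulEnd (t ^ k) M = 0 := fun t ht => hr t (List.mem_cons_of_mem _ ht)
    induction k generalizing M with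
    | zero =>
      rw [pow_zero, _root_.DerComp.smulEnd_one] at hk
      exact isIso_tensorUnitMap_of_killed e hiso fun t _ => by
        rw [← Category.id_comp (_root_.DerComp.smulEnd t M), hk, zero_comp]
    | succ k ih =>
      let f := _root_.DerComp.smulEnd s M
      let S := ShortComplex.mk (kernel.ι f) (cokernel.π (kernel.ι f)) (cokernel.condition _)
      have hS : S.ShortExact :=
        { exact := ShortComplex.exact_cokernel _
          mono_f := inferInstanceAs (Mono (kernel.ι f))
          epi_g := inferInstanceAs (Epi (cokernel.π (kernel.ι f))) }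
      let m := Abelian.factorThruCoimage f
      have hm : cokernel.π (kernel.ι f) ≫ m = f := Abelian.coimage.fac f
      have kill₁ : ∀ t, _root_.DerComp.smulEnd t M = 0 → _root_.DerComp.smulEnd t S.X₁ = 0 := fun t ht => by
        rw [← cancel_mono (kernel.ι f), zero_comp]
        exact (_root_.DerComp.smulEnd_comm t (kernel.ι f)).trans (by rw [ht, comp_zero])
      have kill₃ : ∀ t, _root_.DerComp.smulEnd t M = 0 → _root_.DerComp.smulEnd t S.X₃ = 0 := fun t ht => by
        have := hS.epi_g
        rw [← cancel_epi S.g, ← _root_.DerComp.smulEnd_comm t S.g]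
        change _root_.DerComp.smulEnd t M ≫ _ = _
        rw [ht, zero_comp, comp_zero]
      have h1 : IsIso ((tensorUnitMap e).app S.X₁) := by
        refine isIso_tensorUnitMap_of_nil hN hiso rest _ (fun t ht htr => ?_) fun t ht => ?_
        · by_cases hts : t = s
          · subst hts
            rw [← cancel_mono (kernel.ι f), zero_comp, _root_.DerComp.smulEnd_comm t (kernel.ι f)]
            exact kernel.condition f
          · exact kill₁ t (h t ht fun hm => (List.mem_cons.1 hm).elim hts htr)
        · obtain ⟨j, hj⟩ := hr t ht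
          exact ⟨j, kill₁ _ hj⟩
      have h3 : IsIso ((tensorUnitMap e).app S.X₃) := by
        refine ih S.X₃ (fun t ht htr => kill₃ t (h t ht htr)) ?_ fun t ht => ?_
        · rw [← cancel_epi (cokernel.π (kernel.ι f)), ← _root_.DerComp.smulEnd_comm (s ^ k), comp_zero]
          rw [← cancel_mono m, Category.assoc, hm, zero_comp, _root_.DerComp.smulEnd_comp, ← pow_succ]
          exact hk
        · obtain ⟨j, hj⟩ := hr t ht
          exact ⟨j, kill₃ _ hj⟩
      have : PreservesFiniteLimits (ModFlat.T N) := hN.1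
      have : PreservesFiniteColimits (ModFlat.T N) := hN.2
      have hS' : (S.map (ModFlat.T N)).ShortExact := hS.map_of_exact (ModFlat.T N)
      let τ : S ⟶ S.map (ModFlat.T N) :=
        { τ₁ := (tensorUnitMap e).app S.X₁
          τ₂ := (tensorUnitMap e).app S.X₂
          τ₃ := (tensorUnitMap e).app S.X₃
          comm₁₂ := ((tensorUnitMap e).naturality S.f).symm
          comm₂₃ := ((tensorUnitMap e).naturality S.g).symm }
      have : IsIso τ.τ₁ := h1
      have : IsIso τ.τ₃ := h3
      exact ShortComplex.isIso₂_of_shortExact_of_isIso₁₃ τ hS hS'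

end GrothLib.DerComp
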