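import Groth.Agent.Lib.DerComp.LinTri

/-! # Derived completeness along an endomorphism -/

universe t v u v' u'

open CategoryTheory CategoryTheory.Limits

namespace GrothLib.DerComp

variable {D : Type u} [Category.{v} D] [Preadditive D]

/-- Maps from `X` to `Y` are derived complete along the endomorphism `u` of `X`. -/
def SeqBij {X : D} (u : X ⟶ X) (Y : D) : Prop :=
  Function.Bijective (fun (x : ℕ → (X ⟶ Y)) (m : ℕ) => x m - u ≫ x (m + 1))

lemma seqBij_iff_dcMod {R : Type t} [CommRing R] [Linear R D] (s : R) (X Y : D) :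
    SeqBij (s • 𝟙 X) Y ↔ DCpl.DCMod s (X ⟶ Y) := by
  refine iff_of_eq (congrArg _ (funext fun x => funext fun m => ?_))
  rw [DCpl.telMap_apply, Linear.smul_comp, Category.id_comp]

/-- Transport along an additive bijection intertwining the endomorphisms. -/
lemma seqBij_congr {D' : Type u'} [Category.{v'} D'] [Preadditive D'] {X Y : D} {X' Y' : D'} {u : X ⟶ X}
    {u' : X' ⟶ X'} (e : (X ⟶ Y) → (X' ⟶ Y')) (he : Function.Bijective e)
    (hadd : ∀ a b, e (a + b) = e a + e b) (hu : ∀ a, e (u ≫ a) = u' ≫ e a) :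
    SeqBij u Y ↔ SeqBij u' Y' := by
  let E := AddMonoidHom.mk' e hadd
  have hsub : ∀ a b, e (a - b) = e a - e b := map_sub E
  have hpi : Function.Bijective (fun (x : ℕ → (X ⟶ Y)) (m : ℕ) => e (x m)) :=
    ⟨fun a b h => funext fun m => he.1 (congrFun h m), fun y =>
      ⟨fun m => (he.2 (y m)).choose, funext fun m => (he.2 (y m)).choose_spec⟩⟩
  have key : (fun (x : ℕ → (X' ⟶ Y')) (m : ℕ) => x m - u' ≫ x (m + 1)) ∘ (fun (x : ℕ → (X ⟶ Y)) (m : ℕ) => e (x m)) =
      (fun (x : ℕ → (X ⟶ Y)) (m : ℕ) => e (x m)) ∘ fun (x : ℕ → (X ⟶ Y)) (m : ℕ) => x m - u ≫ x (m + 1) := by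
    funext x m
    simp only [Function.comp_apply, hsub, hu]
  unfold SeqBij
  rw [← Function.Bijective.of_comp_iff _ hpi, ← Function.Bijective.of_comp_iff' hpi, key]

lemma seqBij_iff_of_iso_right {X Y Y' : D} {u : X ⟶ X} (e : Y ≅ Y') : SeqBij u Y ↔ SeqBij u Y' :=
  seqBij_congr (fun a => a ≫ e.hom) e.homToEquiv.bijective (fun _ _ => Preadditive.add_comp ..)
    fun _ => Category.assoc ..

lemma seqBij_iff_of_iso_left {X X' Y : D} {u : X ⟶ X} {u' : X' ⟶ X'} (e : X' ≅ X)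
    (h : e.hom ≫ u = u' ≫ e.hom) : SeqBij u Y ↔ SeqBij u' Y :=
  seqBij_congr (fun a => e.hom ≫ a) e.symm.homFromEquiv.bijective
    (fun _ _ => Preadditive.comp_add ..) fun a => by rw [← Category.assoc, h, Category.assoc]

variable [HasShift D ℤ] [∀ n : ℤ, (shiftFunctor D n).Additive]

lemma seqBij_shift_iff {X Y : D} (u : X ⟶ X) (n : ℤ) : SeqBij (u⟦n⟧') (Y⟦n⟧) ↔ SeqBij u Y :=
  (seqBij_congr (fun a => a⟦n⟧') ⟨(shiftFunctor D n).map_injective, (shiftFunctor D n).map_surjective⟩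
    (fun _ _ => Functor.map_add _) fun _ => Functor.map_comp _ _ _).symm

end GrothLib.DerComp
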