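import Groth.Agent.Lib.DerComp.Inst
import Groth.Agent.Lib.DerComp.Rep
import Groth.Agent.Lib.DerComp.Seq
import Groth.Agent.Lib.DerCat.MapAdj
import Groth.Agent.Lib.DerCat.SeqColimit
import Mathlib.Algebra.Homology.DerivedCategory.SingleTriangle

/-! # Derived completeness on a ringed site in terms of multiplication on sections -/

set_option autoImplicit false
universe u

open CategoryTheory CategoryTheory.Limits Opposite Pretriangulated

attribute [local instance] HasDerivedCategory.standard

namespace GrothLib.DerComp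

variable {C : Type u} [SmallCategory C] {J : GrothendieckTopology C} {O : Sheaf J CommRingCat.{u}}

variable (O) in
/-- A sheaf of modules in degree zero, as a functor. -/
noncomputable abbrev inDF : ModSite.Mod O ⥤ DerivedCategory (ModSite.Mod O) :=
  DerivedCategory.singleFunctor (ModSite.Mod O) 0

variable (O) in
/-- Restriction to `C/U` on derived categories. -/
noncomputable abbrev rD (U : C) : DerivedCategory (ModSite.Mod O) ⥤ DerivedCategory (ModSite.Mod (O.over U)) :=
  (ModSite.restr O U).mapDerivedCategory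

variable (O) in
/-- Extension by zero from `C/U` on derived categories. -/
noncomputable abbrev eD (U : C) : DerivedCategory (ModSite.Mod (O.over U)) ⥤ DerivedCategory (ModSite.Mod O) :=
  (ModSite.extZero O U).mapDerivedCategory

variable (O) in
/-- The derived adjunction. -/
noncomputable abbrev derAdj (U : C) : eD O U ⊣ rD O U :=
  DerCat.mapDerivedAdj (ModSite.extZeroAdj O U)

lemma smulEnd_eq_smul (s : _root_.DerComp.GSec O) (M : ModSite.Mod O) :
    _root_.DerComp.smulEnd s M = s • 𝟙 M := by
  rw [_root_.DerComp.smul_def, Category.comp_id]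

lemma inDF_map_smulEnd (s : _root_.DerComp.GSec O) (M : ModSite.Mod O) :
    (inDF O).map (_root_.DerComp.smulEnd s M) = s • 𝟙 ((inDF O).obj M) := by
  rw [smulEnd_eq_smul, Functor.map_smul, CategoryTheory.Functor.map_id]

/-- Maps out of an extension by zero. -/
noncomputable def extHom (U : C) (P : ModSite.Mod (O.over U)) (K : DerivedCategory (ModSite.Mod O)) (n : ℤ)
    (φ : (inDF (O.over U)).obj P ⟶ ((rD O U).obj K)⟦n⟧) : (inDF O).obj ((ModSite.extZero O U).obj P) ⟶ K⟦n⟧ :=
  ((ModSite.extZero O U).mapDerivedCategorySingleFunctor 0).inv.app P ≫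
    ((derAdj O U).homEquiv _ _).symm (φ ≫ ((rD O U).commShiftIso n).inv.app K)

lemma extHom_bijective (U : C) (P : ModSite.Mod (O.over U)) (K : DerivedCategory (ModSite.Mod O)) (n : ℤ) :
    Function.Bijective (extHom U P K n) :=
  (((ModSite.extZero O U).mapDerivedCategorySingleFunctor 0).app P).homFromEquiv.bijective.comp
    (((derAdj O U).homEquiv _ _).symm.bijective.comp
      (((rD O U).commShiftIso n).app K).symm.homToEquiv.bijective)

lemma extHom_add (U : C) (P : ModSite.Mod (O.over U)) (K : DerivedCategory (ModSite.Mod O)) (n : ℤ)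
    (a b : (inDF (O.over U)).obj P ⟶ ((rD O U).obj K)⟦n⟧) :
    extHom U P K n (a + b) = extHom U P K n a + extHom U P K n b := by
  simp only [extHom, Adjunction.homEquiv_counit, Preadditive.add_comp, Functor.map_add, Preadditive.comp_add]

lemma extHom_map {U : C} {P Q : ModSite.Mod (O.over U)} (h : P ⟶ Q) (K : DerivedCategory (ModSite.Mod O))
    (n : ℤ) (a : (inDF (O.over U)).obj Q ⟶ ((rD O U).obj K)⟦n⟧) :
    extHom U P K n ((inDF (O.over U)).map h ≫ a) =
      (inDF O).map ((ModSite.extZero O U).map h) ≫ extHom U Q K n a := by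
  simp only [extHom]
  rw [Category.assoc, Adjunction.homEquiv_naturality_left_symm, ← Category.assoc, ← Category.assoc]
  congr 1
  exact (((ModSite.extZero O U).mapDerivedCategorySingleFunctor 0).inv.naturality h).symm

/-- Completeness along an endomorphism upstairs and downstairs. -/
lemma seqBij_rD_iff (U : C) {P : ModSite.Mod (O.over U)} (h : P ⟶ P) (K : DerivedCategory (ModSite.Mod O))
    (n : ℤ) : SeqBij ((inDF (O.over U)).map h) (((rD O U).obj K)⟦n⟧) ↔
      SeqBij ((inDF O).map ((ModSite.extZero O U).map h)) (K⟦n⟧) :=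
  seqBij_congr (extHom U P K n) (extHom_bijective U P K n) (extHom_add U P K n) fun a => extHom_map h K n a

/-- Two objects corepresenting the same sections give the same completeness. -/
lemma seqBij_rep_iff {P Q : ModSite.Mod O} {V : C} (e : SecRep P V) (e' : SecRep Q V) (r : O.obj.obj (op V))
    (Y : DerivedCategory (ModSite.Mod O)) :
    SeqBij ((inDF O).map (e.mulEnd r)) Y ↔ SeqBij ((inDF O).map (e'.mulEnd r)) Y :=
  (seqBij_iff_of_iso_left ((inDF O).mapIso (e.iso e')) (by
    rw [Functor.mapIso_hom, ← Functor.map_comp, ← e.iso_mulEnd e', Functor.map_comp])).symm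

/-- `K` is derived complete along multiplication by `f` on sections over every object over `U`. -/
def Van (K : DerivedCategory (ModSite.Mod O)) (U : C) (f : O.obj.obj (op U)) : Prop :=
  ∀ (V : C) (g : V ⟶ U) (n : ℤ),
    SeqBij ((inDF O).map ((freeRep O V).mulEnd ((O.obj.map g.op).hom f))) (K⟦n⟧)

lemma seqBij_slice_iff {U : C} {W : Over U} {P : ModSite.Mod (O.over U)} (e : SecRep P W)
    (r : O.obj.obj (op W.left)) (K : DerivedCategory (ModSite.Mod O)) (n : ℤ) :
    SeqBij ((inDF (O.over U)).map (e.mulEnd r)) (((rD O U).obj K)⟦n⟧) ↔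
      SeqBij ((inDF O).map ((freeRep O W.left).mulEnd r)) (K⟦n⟧) := by
  rw [seqBij_rD_iff, extRep_mulEnd e r]
  exact seqBij_rep_iff (extRep O e) (freeRep O W.left) r _

/-- Multiplication on sections over an object of the slice, as a scalar. -/
lemma dcMod_slice_iff {U : C} {W : Over U} {P : ModSite.Mod (O.over U)} (e : SecRep P W)
    (s : _root_.DerComp.GSec (O.over U)) (K : DerivedCategory (ModSite.Mod O)) (n : ℤ) :
    DCpl.DCMod s ((inDF (O.over U)).obj P ⟶ ((rD O U).obj K)⟦n⟧) ↔
      SeqBij ((inDF O).map ((freeRep O W.left).mulEnd (s.1 W))) (K⟦n⟧) := by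
  rw [← seqBij_iff_dcMod, ← inDF_map_smulEnd, e.smulEnd_eq s]
  exact seqBij_slice_iff e (s.1 W) K n

/-- The telescope of a global section. -/
theorem subsingleton_hom_locAway_iff (s : _root_.DerComp.GSec O) (M : ModSite.Mod O)
    (L : DerivedCategory (ModSite.Mod O)) :
    (∀ n : ℤ, Subsingleton ((inDF O).obj (_root_.DerComp.locAway s M) ⟶ L⟦n⟧)) ↔
      ∀ n : ℤ, DCpl.DCMod s ((inDF O).obj M ⟶ L⟦n⟧) := by
  have hmono : Mono (_root_.DerComp.awayMap s M) := by
    have : _root_.DerComp.awayMap s M =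
        𝟙 _ - DerLim.shiftMap (fun _ : ℕ => M) (fun _ => _root_.DerComp.smulEnd s M) :=
      Sigma.hom_ext _ _ fun n => by simp [_root_.DerComp.awayMap, DerLim.shiftMap]
    rw [this]
    exact DerCat.mono_one_sub_shiftMap _ _
  have hS : (ShortComplex.mk (_root_.DerComp.awayMap s M) (cokernel.π _)
      (cokernel.condition _)).ShortExact :=
    { exact := ShortComplex.exact_cokernel _
      mono_f := hmono
      epi_g := inferInstance }
  refine (DCpl.subsingleton_iff_precomp_bijective _ hS.singleTriangle_distinguished L).trans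
    (forall_congr' fun n => ?_)
  let hc := isColimitCofanMkObjOfIsColimit (inDF O) (fun _ : ℕ => M) _ (coproductIsCoproduct fun _ : ℕ => M)
  let Φ : (ℕ → ((inDF O).obj M ⟶ L⟦n⟧)) → ((inDF O).obj (∐ fun _ : ℕ => M) ⟶ L⟦n⟧) :=
    Cofan.IsColimit.desc hc
  have hΦ : ∀ x m, (inDF O).map (Sigma.ι (fun _ : ℕ => M) m) ≫ Φ x = x m := fun x m =>
    Cofan.IsColimit.fac hc x m
  have hΦb : Function.Bijective Φ := ⟨fun a b h => funext fun m => by rw [← hΦ a m, h, hΦ],
    fun φ => ⟨fun m => (inDF O).map (Sigma.ι (fun _ : ℕ => M) m) ≫ φ,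
      Cofan.IsColimit.hom_ext hc _ _ fun m => hΦ _ m⟩⟩
  have key : (fun ψ => (inDF O).map (_root_.DerComp.awayMap s M) ≫ ψ) ∘ Φ =
      Φ ∘ DCpl.telMap s ((inDF O).obj M ⟶ L⟦n⟧) := funext fun x => by
    refine Cofan.IsColimit.hom_ext hc _ _ fun m => ?_
    change (inDF O).map (Sigma.ι (fun _ : ℕ => M) m) ≫ (inDF O).map (_root_.DerComp.awayMap s M) ≫ Φ x =
      (inDF O).map (Sigma.ι (fun _ : ℕ => M) m) ≫ Φ _
    rw [hΦ, DCpl.telMap_apply, ← Category.assoc, ← Functor.map_comp, _root_.DerComp.awayMap, Sigma.ι_desc,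
      Functor.map_sub, Functor.map_comp, Preadditive.sub_comp, Category.assoc, hΦ, hΦ, inDF_map_smulEnd,
      Linear.smul_comp, Category.id_comp]
  rw [DCpl.DCMod, ← Function.Bijective.of_comp_iff' hΦb, ← key, Function.Bijective.of_comp_iff _ hΦb]
  rfl

/-- The condition defining completeness, at one section. -/
theorem subsingleton_hom_awayOver_iff (K : DerivedCategory (ModSite.Mod O)) (U : C) (f : O.obj.obj (op U)) :
    (∀ n : ℤ, Subsingleton (SiteCmp.inD O ((ModSite.extZero O U).obj (_root_.DerComp.awayOver O U f)) ⟶ K⟦n⟧)) ↔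
      ∀ n : ℤ, SeqBij ((inDF O).map ((freeRep O U).mulEnd f)) (K⟦n⟧) := by
  calc (∀ n : ℤ, Subsingleton (SiteCmp.inD O ((ModSite.extZero O U).obj (_root_.DerComp.awayOver O U f)) ⟶ K⟦n⟧))
      ↔ ∀ n : ℤ, Subsingleton
          ((inDF (O.over U)).obj (_root_.DerComp.awayOver O U f) ⟶ ((rD O U).obj K)⟦n⟧) :=
        forall_congr' fun n => (Equiv.ofBijective _ (extHom_bijective U _ K n)).subsingleton_congr.symm
    _ ↔ ∀ n : ℤ, DCpl.DCMod (_root_.DerComp.GSec.ofSect O U f)
          ((inDF (O.over U)).obj (ModSite.unit (O.over U)) ⟶ ((rD O U).obj K)⟦n⟧) :=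
        subsingleton_hom_locAway_iff _ _ _
    _ ↔ _ := forall_congr' fun n => by
        rw [dcMod_slice_iff (unitRep O U), ofSect_val_id]
        exact Iff.rfl

/-- The condition of S13487 is `Van`. -/
theorem van_iff (K : DerivedCategory (ModSite.Mod O)) (U : C) (f : O.obj.obj (op U)) :
    Van K U f ↔ ∀ (V : C) (g : V ⟶ U) (n : ℤ), Subsingleton (SiteCmp.inD O
      ((ModSite.extZero O V).obj (_root_.DerComp.awayOver O V ((O.obj.map g.op).hom f))) ⟶ K⟦n⟧) :=
  forall₂_congr fun _ _ => (subsingleton_hom_awayOver_iff K _ _).symm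

/-- Derived completeness is `Van` on all sections of the ideal. -/
theorem isDerComp_iff (I : _root_.DerComp.IdealSh O) (K : DerivedCategory (ModSite.Mod O)) :
    _root_.DerComp.IsDerComp O I K ↔ ∀ (U : C) (f : O.obj.obj (op U)), f ∈ I.ideal U → Van K U f := by
  constructor
  · exact fun h U f hf V g => (subsingleton_hom_awayOver_iff K V _).1 (h V _ (I.map_mem g hf))
  · intro h U f hf
    refine (subsingleton_hom_awayOver_iff K U f).2 fun n => ?_
    have := h U f hf U (𝟙 U) n
    simpa using this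

end GrothLib.DerComp
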