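import Groth.Agent.Lib.DerComp.QuotIso
import Groth.Agent.Lib.DerComp.Site
import Groth.Agent.Lib.DerComp.Completion

/-! # A map bijective modulo finitely many scalars, on maps into complete objects -/

set_option autoImplicit false
universe u

open CategoryTheory CategoryTheory.Limits Opposite Pretriangulated
open CochainComplex (mappingCone)

attribute [local instance] HasDerivedCategory.standard GrothLib.ModFlat.additive_T

namespace GrothLib.DerComp

variable {C : Type u} [SmallCategory C] {J : GrothendieckTopology C} {O : Sheaf J CommRingCat.{u}}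

/-- The Koszul complex. -/
noncomputable def kosCx : List (_root_.DerComp.GSec O) → CochainComplex (ModSite.Mod O) ℤ → CochainComplex (ModSite.Mod O) ℤ
  | [], K => K
  | s :: l, K => mappingCone (s • 𝟙 (kosCx l K))

variable (O) in
/-- The localisation functor. -/
noncomputable abbrev qD : CochainComplex (ModSite.Mod O) ℤ ⥤ DerivedCategory (ModSite.Mod O) := DerivedCategory.Q

/-- The Koszul complex computes the Koszul object. -/
theorem nonempty_Q_kosCx : ∀ (l : List (_root_.DerComp.GSec O)) (K : CochainComplex (ModSite.Mod O) ℤ),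
    Nonempty ((qD O).obj (kosCx l K) ≅ kos l ((qD O).obj K))
  | [], _ => ⟨Iso.refl _⟩
  | s :: l, K => by
    obtain ⟨i⟩ := nonempty_Q_kosCx l K
    obtain ⟨g, d, hT⟩ := exists_coneOf_triangle (s • 𝟙 (kos l ((qD O).obj K)))
    refine ⟨Triangle.π₃.mapIso (isoTriangleOfIso₁₂ _ _
      (DerivedCategory.mappingCone_triangle_distinguished (s • 𝟙 (kosCx l K))) hT i i ?_)⟩
    change (qD O).map (s • 𝟙 (kosCx l K)) ≫ i.hom = i.hom ≫ (s • 𝟙 _)
    rw [Functor.map_smul, CategoryTheory.Functor.map_id, smul_id_comp]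

section Chase

variable {D : Type (u + 1)} [Category.{u + 1} D] [Preadditive D] [HasZeroObject D] [HasShift D ℤ]
  [∀ n : ℤ, (shiftFunctor D n).Additive] [Pretriangulated D] [Linear (_root_.DerComp.GSec O) D]

/-- A map killed by the connecting map is divisible by the scalar. -/
theorem exists_smul_of_mor₃ (T : Triangle D) (hT : T ∈ distTriang D) (a : _root_.DerComp.GSec O)
    (e : T.obj₂ ≅ T.obj₁) (hm : T.mor₁ ≫ e.hom = a • 𝟙 T.obj₁) {M : D} (x : T.obj₁ ⟶ M)
    (h : T.mor₃ ≫ x⟦(1 : ℤ)⟧' = 0) : ∃ z : T.obj₁ ⟶ M, a • z = x := by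
  obtain ⟨x₁, hx₁⟩ : ∃ x₁ : T.obj₂⟦(1 : ℤ)⟧ ⟶ M⟦(1 : ℤ)⟧, x⟦(1 : ℤ)⟧' = (-T.mor₁⟦(1 : ℤ)⟧') ≫ x₁ :=
    Triangle.yoneda_exact₃ _ (rot_of_distTriang _ hT) _ h
  obtain ⟨x₂, rfl⟩ := (shiftFunctor D (1 : ℤ)).map_surjective x₁
  refine ⟨e.inv ≫ (-x₂), (shiftFunctor D (1 : ℤ)).map_injective ?_⟩
  rw [hx₁, show a • (e.inv ≫ (-x₂)) = (a • 𝟙 T.obj₁) ≫ e.inv ≫ (-x₂) by rw [Linear.smul_comp, Category.id_comp],
    ← hm, Category.assoc, Iso.hom_inv_id_assoc, Functor.map_comp, Functor.map_neg, Preadditive.neg_comp,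
    Preadditive.comp_neg]

/-- Bijectivity on maps into nilpotent objects, from the cones of a scalar. -/
theorem bijective_precomp_of_cone (T T' : Triangle D) (hT : T ∈ distTriang D) (hT' : T' ∈ distTriang D)
    (φ : T ⟶ T') (a : _root_.DerComp.GSec O) (k : ℕ) (e : T.obj₂ ≅ T.obj₁) (e' : T'.obj₂ ≅ T'.obj₁)
    (he : φ.hom₂ ≫ e'.hom = e.hom ≫ φ.hom₁) (hm : T.mor₁ ≫ e.hom = a • 𝟙 T.obj₁)
    (hm' : T'.mor₁ ≫ e'.hom = a • 𝟙 T'.obj₁) (P : D → Prop) (hP : ∀ M, P M → P (M⟦(1 : ℤ)⟧))
    (ha : ∀ M, P M → a ^ k • 𝟙 M = 0)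
    (h₃ : ∀ M, P M → Function.Bijective fun y : T'.obj₃ ⟶ M => φ.hom₃ ≫ y) {M : D} (hM : P M) :
    Function.Bijective fun y : T'.obj₁ ⟶ M => φ.hom₁ ≫ y := by
  have hdiv : ∀ {M : D}, P M → ∀ x : T'.obj₁ ⟶ M, φ.hom₁ ≫ x = 0 → ∃ x', φ.hom₁ ≫ x' = 0 ∧ a • x' = x := by
    intro M hM x hx
    obtain ⟨z, hz⟩ := exists_smul_of_mor₃ T' hT' a e' hm' x ((h₃ _ (hP M hM)).1 (by
      change φ.hom₃ ≫ T'.mor₃ ≫ x⟦(1 : ℤ)⟧' = φ.hom₃ ≫ 0
      rw [← Category.assoc, ← φ.comm₃, Category.assoc, ← Functor.map_comp, hx, Functor.map_zero, comp_zero, comp_zero]))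
    have haz : a • (φ.hom₁ ≫ z) = 0 := by rw [← Linear.comp_smul, hz, hx]
    obtain ⟨w, hw⟩ : ∃ w : T.obj₃ ⟶ M, e.hom ≫ φ.hom₁ ≫ z = T.mor₂ ≫ w := by
      refine Triangle.yoneda_exact₂ _ hT _ ?_
      rw [← Category.assoc, hm, Linear.smul_comp, Category.id_comp, haz]
    obtain ⟨w', rfl⟩ := (h₃ M hM).2 w
    refine ⟨z - e'.inv ≫ T'.mor₂ ≫ w', ?_, ?_⟩
    · rw [Preadditive.comp_sub, sub_eq_zero, ← cancel_epi e.hom, hw, ← Category.assoc e.hom, ← he, Category.assoc,
        Iso.hom_inv_id_assoc, ← Category.assoc φ.hom₂, ← φ.comm₂, Category.assoc]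
    · have : (a • 𝟙 T'.obj₁) ≫ e'.inv = T'.mor₁ := by rw [← hm', Category.assoc, Iso.hom_inv_id, Category.comp_id]
      rw [smul_sub, hz, show a • (e'.inv ≫ T'.mor₂ ≫ w') = ((a • 𝟙 T'.obj₁) ≫ e'.inv) ≫ T'.mor₂ ≫ w' by
        rw [Category.assoc, Linear.smul_comp, Category.id_comp], this, ← Category.assoc,
        comp_distTriang_mor_zero₁₂ _ hT', zero_comp, sub_zero]
  have hinj : ∀ {M : D}, P M → ∀ x : T'.obj₁ ⟶ M, φ.hom₁ ≫ x = 0 → x = 0 := by
    intro M hM x hx
    have key : ∀ j : ℕ, ∃ x', φ.hom₁ ≫ x' = 0 ∧ a ^ j • x' = x := fun j => by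
      induction j with
      | zero => exact ⟨x, hx, by rw [pow_zero, one_smul]⟩
      | succ j ih =>
        obtain ⟨x', hx', rfl⟩ := ih
        obtain ⟨x'', h'', rfl⟩ := hdiv hM x' hx'
        exact ⟨x'', h'', by rw [pow_succ, mul_smul]⟩
    obtain ⟨x', -, rfl⟩ := key k
    exact smul_eq_zero_of_id' (ha M hM) x'
  refine ⟨fun x y hxy => sub_eq_zero.1 (hinj hM _ ((Preadditive.comp_sub _ _ _).trans (sub_eq_zero.2 hxy))),
    fun y => ?_⟩
  have step : ∀ y : T.obj₁ ⟶ M, ∃ x y', y = φ.hom₁ ≫ x + a • y' := by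
    intro y
    obtain ⟨w, hw⟩ := (h₃ _ (hP M hM)).2 (T.mor₃ ≫ y⟦(1 : ℤ)⟧')
    change φ.hom₃ ≫ w = _ at hw
    have h0 : T'.mor₂ ≫ w = 0 := by
      rw [← cancel_epi e'.inv, comp_zero]
      refine hinj (hP M hM) _ ?_
      have : φ.hom₁ ≫ e'.inv = e.inv ≫ φ.hom₂ := by
        rw [Iso.eq_inv_comp, ← Category.assoc, ← he, Category.assoc, Iso.hom_inv_id, Category.comp_id]
      rw [← Category.assoc, this, Category.assoc, ← Category.assoc φ.hom₂, ← φ.comm₂, Category.assoc, hw,
        ← Category.assoc T.mor₂, comp_distTriang_mor_zero₂₃ _ hT, zero_comp, comp_zero]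
    obtain ⟨v, rfl⟩ : ∃ v : T'.obj₁⟦(1 : ℤ)⟧ ⟶ M⟦(1 : ℤ)⟧, w = T'.mor₃ ≫ v := Triangle.yoneda_exact₃ _ hT' _ h0
    obtain ⟨x, rfl⟩ := (shiftFunctor D (1 : ℤ)).map_surjective v
    obtain ⟨z, hz⟩ := exists_smul_of_mor₃ T hT a e hm (y - φ.hom₁ ≫ x) (by
      rw [Functor.map_sub, Functor.map_comp, Preadditive.comp_sub, ← hw, ← Category.assoc, ← φ.comm₃,
        Category.assoc, sub_self])
    exact ⟨x, z, by rw [hz]; abel⟩
  have key : ∀ j : ℕ, ∃ x y', y = φ.hom₁ ≫ x + a ^ j • y' := fun j => by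
    induction j with
    | zero => exact ⟨0, y, by rw [comp_zero, zero_add, pow_zero, one_smul]⟩
    | succ j ih =>
      obtain ⟨x, y', rfl⟩ := ih
      obtain ⟨x', y'', rfl⟩ := step y'
      exact ⟨x + a ^ j • x', y'', by
        rw [smul_add, Preadditive.comp_add, Linear.comp_smul, pow_succ, mul_smul]
        abel⟩
  obtain ⟨x, y', hy⟩ := key k
  refine ⟨x, ?_⟩
  rw [hy, smul_eq_zero_of_id' (ha M hM) y', add_zero]

end Chase

variable {N : ModSite.Mod O} (e : ModSite.unit O ⟶ N)

/-- The natural map into the tensor product, on complexes. -/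
noncomputable def tensorUnitCx (K : CochainComplex (ModSite.Mod O) ℤ) :
    K ⟶ ((ModFlat.T N).mapHomologicalComplex (ComplexShape.up ℤ)).obj K where
  f n := (tensorUnitMap e).app (K.X n)
  comm' i j _ := ((tensorUnitMap e).naturality (K.d i j)).symm

lemma tensorUnitCx_naturality {K L : CochainComplex (ModSite.Mod O) ℤ} (f : K ⟶ L) :
    f ≫ tensorUnitCx e L =
      tensorUnitCx e K ≫ ((ModFlat.T N).mapHomologicalComplex (ComplexShape.up ℤ)).map f :=
  HomologicalComplex.hom_ext _ _ fun n => (tensorUnitMap e).naturality (f.f n)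

lemma T_map_smul_cx (s : _root_.DerComp.GSec O) (K : CochainComplex (ModSite.Mod O) ℤ) :
    ((ModFlat.T N).mapHomologicalComplex (ComplexShape.up ℤ)).map (s • 𝟙 K) =
      s • 𝟙 (((ModFlat.T N).mapHomologicalComplex (ComplexShape.up ℤ)).obj K) :=
  HomologicalComplex.hom_ext _ _ fun i => by
    change (ModFlat.T N).map ((s • 𝟙 K).f i) = (s • 𝟙 (((ModFlat.T N).mapHomologicalComplex _).obj K)).f i
    rw [HomologicalComplex.smul_f_apply, HomologicalComplex.smul_f_apply, HomologicalComplex.id_f,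
      HomologicalComplex.id_f, ← smulEnd_eq_smul, ← smulEnd_eq_smul]
    exact T_map_smulEnd s _

/-- It is a quasi-isomorphism on complexes with nilpotent homology. -/
theorem isIso_Q_tensorUnitCx (hN : ModSite.IsFlat N) {l : List (_root_.DerComp.GSec O)} (hiso : IsIso (quMap l e))
    (K : CochainComplex (ModSite.Mod O) ℤ) (hK : Nil l ((qD O).obj K)) :
    IsIso ((qD O).map (tensorUnitCx e K)) := by
  have : PreservesFiniteLimits (ModFlat.T N) := hN.1
  have : PreservesFiniteColimits (ModFlat.T N) := hN.2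
  have : (ModFlat.T N).PreservesHomology := Functor.preservesHomologyOfExact _
  suffices QuasiIso (tensorUnitCx e K) by infer_instance
  refine ⟨fun n => (quasiIsoAt_iff_isIso_homologyMap _ n).2 ?_⟩
  let F := (DerivedCategory.homologyFunctorFactors (ModSite.Mod O) n).app K
  have hH : IsIso ((tensorUnitMap e).app (K.homology n)) := by
    refine isIso_tensorUnitMap_of_nil e hN hiso l _ (fun s hs hns => absurd hs hns) fun s hs => ?_
    obtain ⟨k, hk⟩ := hK s hs
    refine ⟨k, ?_⟩
    have h := homologyMap_smul (s ^ k) ((qD O).obj K) n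
    rw [hk, Functor.map_zero] at h
    refine (cancel_epi F.hom).1 ?_
    exact (_root_.DerComp.smulEnd_comm (s ^ k) F.hom).symm.trans
      ((congrArg (· ≫ F.hom) h.symm).trans (zero_comp.trans comp_zero.symm))
  have h : (tensorUnitMap e).app (K.sc n).homology = _ := NatTrans.app_homology (tensorUnitMap e) (K.sc n)
  change IsIso (ShortComplex.homologyMap ((HomologicalComplex.shortComplexFunctor _ _ n).map (tensorUnitCx e K)))
  have : IsIso (((K.sc n).mapHomologyIso (𝟭 _)).inv ≫ ShortComplex.homologyMap ((K.sc n).mapNatTrans (tensorUnitMap e)) ≫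
      ((K.sc n).mapHomologyIso (ModFlat.T N)).hom) := h ▸ hH
  have := IsIso.of_isIso_comp_left ((K.sc n).mapHomologyIso (𝟭 _)).inv
    (ShortComplex.homologyMap ((K.sc n).mapNatTrans (tensorUnitMap e)) ≫ ((K.sc n).mapHomologyIso (ModFlat.T N)).hom)
  change IsIso (ShortComplex.homologyMap ((K.sc n).mapNatTrans (tensorUnitMap e)))
  exact IsIso.of_isIso_comp_right (ShortComplex.homologyMap ((K.sc n).mapNatTrans (tensorUnitMap e)))
    ((K.sc n).mapHomologyIso (ModFlat.T N)).hom

/-- The morphism of cone triangles. -/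
noncomputable def tensorUnitTri (s : _root_.DerComp.GSec O) (K : CochainComplex (ModSite.Mod O) ℤ) :
    mappingCone.triangle (s • 𝟙 K) ⟶ ((ModFlat.T N).mapHomologicalComplex (ComplexShape.up ℤ)).mapTriangle.obj
      (mappingCone.triangle (s • 𝟙 K)) where
  hom₁ := tensorUnitCx e K
  hom₂ := tensorUnitCx e K
  hom₃ := tensorUnitCx e _
  comm₁ := tensorUnitCx_naturality e _
  comm₂ := tensorUnitCx_naturality e _
  comm₃ := by
    refine HomologicalComplex.hom_ext _ _ fun n => ?_
    simp [tensorUnitCx]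
    refine ((tensorUnitMap e).naturality ((mappingCone.triangle (s • 𝟙 K)).mor₃.f n)).trans (congrArg _ ?_)
    simp [Functor.mapTriangle]
    exact (Category.comp_id _).symm

/-- The map is bijective on maps into nilpotent objects. -/
theorem bijective_tensorUnitCx (hN : ModSite.IsFlat N) {l : List (_root_.DerComp.GSec O)} (hiso : IsIso (quMap l e))
    (K : CochainComplex (ModSite.Mod O) ℤ) {M : DerivedCategory (ModSite.Mod O)} (hM : Nil l M) :
    Function.Bijective fun y => (qD O).map (tensorUnitCx e K) ≫ (y : _ ⟶ M) := by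
  suffices ∀ l', l' ⊆ l → (∀ M, Nil l M → Function.Bijective fun y =>
      (qD O).map (tensorUnitCx e (kosCx l' K)) ≫ (y : _ ⟶ M)) →
      ∀ M, Nil l M → Function.Bijective fun y => (qD O).map (tensorUnitCx e K) ≫ (y : _ ⟶ M) by
    refine this l (List.Subset.refl l) (fun M _ => ?_) M hM
    obtain ⟨i⟩ := nonempty_Q_kosCx l K
    have hnil : Nil l ((qD O).obj (kosCx l K)) := fun s hs => by
      obtain ⟨k, hk⟩ := nil_kos l ((qD O).obj K) s hs
      exact ⟨k, by rw [← cancel_mono i.hom, zero_comp, smul_id_comp, hk, comp_zero]⟩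
    have := isIso_Q_tensorUnitCx e hN hiso _ hnil
    exact ((asIso ((qD O).map (tensorUnitCx e (kosCx l K)))).homFromEquiv (Z := M)).symm.bijective
  intro l'
  induction l' with
  | nil => exact fun _ h => h
  | cons a l' ih =>
    intro hl h
    refine ih (fun x hx => hl (List.mem_cons_of_mem _ hx)) fun M hM => ?_
    obtain ⟨k, hk⟩ := hM a (hl List.mem_cons_self)
    let K' := kosCx l' K
    let φ := (qD O).mapTriangle.map (tensorUnitTri e a K')
    refine bijective_precomp_of_cone _ _ (DerivedCategory.mappingCone_triangle_distinguished _)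
      (isomorphic_distinguished _ (DerivedCategory.mappingCone_triangle_distinguished _) _
        ((qD O).mapTriangle.mapIso (mappingCone.mapTriangleIso (a • 𝟙 K') (ModFlat.T N))))
      φ a k (Iso.refl _) (Iso.refl _) ((Category.comp_id _).trans (Category.id_comp _).symm) ?_ ?_
      (fun Z => Nil l Z ∧ a ^ k • 𝟙 Z = 0) (fun Z hZ => ⟨hZ.1.shift 1, ?_⟩) (fun Z hZ => hZ.2) (fun Z hZ => h Z hZ.1)
      (M := M) ⟨hM, hk⟩
    · refine (Category.comp_id _).trans ?_
      change (qD O).map (a • 𝟙 K') = _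
      rw [Functor.map_smul, CategoryTheory.Functor.map_id]
      rfl
    · refine (Category.comp_id _).trans ?_
      change (qD O).map (((ModFlat.T N).mapHomologicalComplex _).map (a • 𝟙 K')) = _
      rw [T_map_smul_cx, Functor.map_smul, CategoryTheory.Functor.map_id]
      rfl
    · rw [← map_shift_smul_id, hZ.2, Functor.map_zero]

/-- **Completeness does not see the difference between the ring and `N`.** -/
theorem bijective_precomp_inDF (hN : ModSite.IsFlat N) (l : List (_root_.DerComp.GSec O)) (hiso : IsIso (quMap l e))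
    {L : DerivedCategory (ModSite.Mod O)} (hL : CplAll l L) (n : ℤ) :
    Function.Bijective fun y : (inDF O).obj N ⟶ L⟦n⟧ => (inDF O).map e ≫ y := by
  obtain ⟨Z, g, d, hT⟩ := distinguished_cocone_triangle ((inDF O).map e)
  refine (DCpl.subsingleton_iff_precomp_bijective _ hT L).1 (fun m => ?_) n
  refine (isZero_kos_iff_left l Z).1 ?_ _ (hL.shift m)
  suffices h : ∀ M, Nil l M → Function.Bijective fun y : (inDF O).obj N ⟶ M => (inDF O).map e ≫ y by
    have h1 := subsingleton_kos_hom (Y := Z) (L := kos l Z) (fun j =>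
      (DCpl.subsingleton_iff_precomp_bijective _ hT (kos l Z)).2 (fun i => h _ ((nil_kos l Z).shift i)) j) l 0
    rw [IsZero.iff_id_eq_zero]
    apply (((shiftFunctorZero _ ℤ).app (kos l Z)).symm.homToEquiv (Z := kos l Z)).injective
    exact Subsingleton.elim _ _
  intro M hM
  let S := CochainComplex.singleFunctor (ModSite.Mod O) 0
  let i : ((ModFlat.T N).mapHomologicalComplex (ComplexShape.up ℤ)).obj (S.obj (ModSite.unit O)) ≅ S.obj N :=
    (HomologicalComplex.singleMapHomologicalComplex (ModFlat.T N) (ComplexShape.up ℤ) 0).app _ ≪≫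
      S.mapIso (tensorLUnit N)
  have hi : tensorUnitCx e (S.obj (ModSite.unit O)) ≫ i.hom = S.map e := by
    conv_rhs => rw [← tensorUnitMap_unit e]
    refine HomologicalComplex.from_single_hom_ext ?_
    simp [i, tensorUnitCx, S, CochainComplex.singleFunctor, CochainComplex.singleFunctors]
    erw [HomologicalComplex.single_map_f_self, HomologicalComplex.single_map_f_self]
    simp only [Category.assoc]
    refine ((Category.assoc _ _ _).symm.trans (congrArg (· ≫ _) ((tensorUnitMap e).naturality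
      (HomologicalComplex.singleObjXSelf (ComplexShape.up ℤ) 0 (ModSite.unit O)).hom).symm)).trans ?_
    simp
    congr 1
  let q := (DerivedCategory.singleFunctorIsoCompQ (ModSite.Mod O) 0)
  have key : (inDF O).map e = q.hom.app (ModSite.unit O) ≫ (qD O).map (tensorUnitCx e (S.obj (ModSite.unit O))) ≫
      ((qD O).map i.hom ≫ q.inv.app N) := by
    rw [← Category.assoc ((qD O).map (tensorUnitCx e _)), ← Functor.map_comp, hi, ← Category.assoc]
    have := q.hom.naturality e
    simp only [Functor.comp_map, S] at this ⊢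
    rw [← this, Category.assoc, Iso.hom_inv_id_app, Category.comp_id]
  let j : (qD O).obj (((ModFlat.T N).mapHomologicalComplex (ComplexShape.up ℤ)).obj (S.obj (ModSite.unit O))) ≅
      (inDF O).obj N := (qD O).mapIso i ≪≫ q.symm.app N
  have : (fun y : (inDF O).obj N ⟶ M => (inDF O).map e ≫ y) = (q.app (ModSite.unit O)).symm.homFromEquiv ∘
      (fun y => (qD O).map (tensorUnitCx e (S.obj (ModSite.unit O))) ≫ y) ∘ j.symm.homFromEquiv :=
    funext fun y => by
      rw [key]
      simp [j]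
  rw [this]
  exact (Equiv.bijective _).comp ((bijective_tensorUnitCx e hN hiso _ hM).comp (Equiv.bijective _))

end GrothLib.DerComp
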