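import Groth.Agent.Lib.DerComp.LocTensor
import Groth.Agent.Lib.DerComp.Coreflect
import Mathlib.Algebra.Homology.ShortComplex.Linear

/-! # `RHom(O_s, K)` is the derived limit of multiplication by `s` -/

set_option autoImplicit false
universe u

open CategoryTheory CategoryTheory.Limits Opposite Pretriangulated

attribute [local instance] HasDerivedCategory.standard

namespace GrothLib.DerComp

variable {C : Type u} [SmallCategory C] {J : GrothendieckTopology C} {O : Sheaf J CommRingCat.{u}}

attribute [local instance] ModFlat.additive_T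

section Single

variable (F : ModSite.Mod O)

lemma singleIso_natural {L L' : CochainComplex (ModSite.Mod O) ℤ} (φ : L ⟶ L') :
    ((ModFlat.T F).mapHomologicalComplex _).map φ ≫ (ModFlat.singleIso L' F).hom =
      (ModFlat.singleIso L F).hom ≫ ((ModSite.tensorCx O).map φ).app
        ((HomologicalComplex.single (ModSite.Mod O) (ComplexShape.up ℤ) 0).obj F) := by
  let S := (HomologicalComplex.single (ModSite.Mod O) (ComplexShape.up ℤ) 0).obj F
  refine HomologicalComplex.hom_ext _ _ fun n => ?_
  change ((ModSite.tensorBi O).map (φ.f n)).app F ≫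
      ((ModSite.tensorBi O).obj (L'.X n)).map (HomologicalComplex.singleObjXSelf (ComplexShape.up ℤ) 0 F).inv ≫
        HomologicalComplex.ιMapBifunctor L' S (ModSite.tensorBi O) (ComplexShape.up ℤ) n 0 n (add_zero n) =
    (((ModSite.tensorBi O).obj (L.X n)).map (HomologicalComplex.singleObjXSelf (ComplexShape.up ℤ) 0 F).inv ≫
        HomologicalComplex.ιMapBifunctor L S (ModSite.tensorBi O) (ComplexShape.up ℤ) n 0 n (add_zero n)) ≫
      (HomologicalComplex.mapBifunctorMap φ (𝟙 S) (ModSite.tensorBi O) (ComplexShape.up ℤ)).f n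
  rw [Category.assoc, HomologicalComplex.ι_mapBifunctorMap, ← Category.assoc, ← ((ModSite.tensorBi O).map (φ.f n)).naturality,
    Category.assoc, HomologicalComplex.id_f, CategoryTheory.Functor.map_id]
  simp [S]

/-- Tensoring with a module in degree zero, as a functor. -/
noncomputable def singleNatIso :
    (ModFlat.T F).mapHomologicalComplex (ComplexShape.up ℤ) ≅
      (ModSite.tensorCx O).flip.obj ((CochainComplex.singleFunctor (ModSite.Mod O) 0).obj F) :=
  NatIso.ofComponents (fun L => ModFlat.singleIso L F) fun φ => singleIso_natural F φ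

end Single

variable (s : _root_.DerComp.GSec O)

instance exactLeft_T_Os : PreservesFiniteLimits (ModFlat.T (Os O s)) := (isFlat_locAway s).1

instance exactRight_T_Os : PreservesFiniteColimits (ModFlat.T (Os O s)) := (isFlat_locAway s).2

/-- `- ⊗ O_s` on the derived category. -/
noncomputable abbrev locD : DerivedCategory (ModSite.Mod O) ⥤ DerivedCategory (ModSite.Mod O) :=
  (ModFlat.T (Os O s)).mapDerivedCategory

/-- The derived tensor product with `O_s`. -/
noncomputable def ltensorLocIso
    [ModSite.HasLTensorCx ((CochainComplex.singleFunctor (ModSite.Mod O) 0).obj (Os O s))] :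
    locD s ≅ ModSite.LTensorCx ((CochainComplex.singleFunctor (ModSite.Mod O) 0).obj (Os O s)) :=
  let E := (CochainComplex.singleFunctor (ModSite.Mod O) 0).obj (Os O s)
  let α : DerivedCategory.Q ⋙ locD s ⟶ ModSite.tensorCxQ E :=
    (ModFlat.T (Os O s)).mapDerivedCategoryFactors.hom ≫ Functor.whiskerRight (singleNatIso (Os O s)).hom _
  haveI : (locD s).IsLeftDerivedFunctor α (HomologicalComplex.quasiIso (ModSite.Mod O) (ComplexShape.up ℤ)) :=
    (cxResolvable_tensor E).isLeftDerivedFunctor _ α fun _ _ => by dsimp [α]; infer_instance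
  Functor.leftDerivedNatIso (locD s) (ModSite.LTensorCx E) α
    ((ModSite.tensorCxQ E).totalLeftDerivedCounit DerivedCategory.Q
      (HomologicalComplex.quasiIso (ModSite.Mod O) (ComplexShape.up ℤ)))
    (HomologicalComplex.quasiIso (ModSite.Mod O) (ComplexShape.up ℤ)) (Iso.refl _)

lemma isIso_smul_Q (K : CochainComplex (ModSite.Mod O) ℤ) (h : ∀ n, IsIso (_root_.DerComp.smulEnd s (K.X n))) :
    IsIso (s • 𝟙 (DerivedCategory.Q.obj K)) := by
  rw [← CategoryTheory.Functor.map_id, ← Functor.map_smul]
  have : ∀ n, IsIso ((s • 𝟙 K).f n) := fun n => by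
    rw [HomologicalComplex.smul_f_apply, HomologicalComplex.id_f, ← smulEnd_eq_smul]
    exact h n
  have : IsIso (s • 𝟙 K) := HomologicalComplex.Hom.isIso_of_components _
  infer_instance

/-- `s` is invertible on everything of the form `X ⊗ O_s`. -/
lemma isIso_smul_locD (X : DerivedCategory (ModSite.Mod O)) : IsIso (s • 𝟙 ((locD s).obj X)) := by
  have := isIso_smul_Q s (((ModFlat.T (Os O s)).mapHomologicalComplex _).obj (DerivedCategory.Q.objPreimage X))
    fun n => isIso_smulEnd_tensor_right s _
  exact isIso_smul_of_iso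
    (X := DerivedCategory.Q.obj (((ModFlat.T (Os O s)).mapHomologicalComplex _).obj (DerivedCategory.Q.objPreimage X)))
    (((ModFlat.T (Os O s)).mapDerivedCategoryFactors.app _).symm ≪≫
    (locD s).mapIso (DerivedCategory.Q.objObjPreimageIso X))

/-- `- ⊗ O_s` sends multiplication by `s` to an isomorphism. -/
lemma isIso_locD_map_smul (X : DerivedCategory (ModSite.Mod O)) : IsIso ((locD s).map (s • 𝟙 X)) := by
  let K := DerivedCategory.Q.objPreimage X
  let e : DerivedCategory.Q.obj K ≅ X := DerivedCategory.Q.objObjPreimageIso X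
  have : ∀ n, IsIso ((((ModFlat.T (Os O s)).mapHomologicalComplex (ComplexShape.up ℤ)).map (s • 𝟙 K)).f n) := fun n => by
    change IsIso ((ModFlat.T (Os O s)).map ((s • 𝟙 K).f n))
    rw [HomologicalComplex.smul_f_apply, HomologicalComplex.id_f, ← smulEnd_eq_smul]
    change IsIso (((ModSite.tensorBi O).map (_root_.DerComp.smulEnd s (K.X n))).app (Os O s))
    rw [tensor_smulEnd_left]
    exact isIso_smulEnd_tensor_right s _
  have : IsIso (((ModFlat.T (Os O s)).mapHomologicalComplex (ComplexShape.up ℤ)).map (s • 𝟙 K)) :=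
    HomologicalComplex.Hom.isIso_of_components _
  have h1 : IsIso ((DerivedCategory.Q ⋙ locD s).map (s • 𝟙 K)) :=
    (NatIso.isIso_map_iff (ModFlat.T (Os O s)).mapDerivedCategoryFactors _).2
      (inferInstanceAs (IsIso (DerivedCategory.Q.map _)))
  rw [Functor.comp_map, Functor.map_smul, CategoryTheory.Functor.map_id] at h1
  rw [show s • 𝟙 X = e.inv ≫ (s • 𝟙 _) ≫ e.hom by simp, Functor.map_comp, Functor.map_comp]
  infer_instance

/-- `K ⟶ K ⊗ O_s` on complexes. -/
noncomputable def toLocCx :
    𝟭 (CochainComplex (ModSite.Mod O) ℤ) ⟶ (ModFlat.T (Os O s)).mapHomologicalComplex (ComplexShape.up ℤ) where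
  app K := { f := fun n => (toTensorLoc s).app (K.X n)
             comm' := fun i j _ => ((toTensorLoc s).naturality (K.d i j)).symm }
  naturality K L φ := HomologicalComplex.hom_ext _ _ fun n => (toTensorLoc s).naturality (φ.f n)

/-- `X ⟶ X ⊗ O_s`. -/
noncomputable def toLocD : 𝟭 (DerivedCategory (ModSite.Mod O)) ⟶ locD s :=
  letI : Localization.Lifting DerivedCategory.Q (HomologicalComplex.quasiIso (ModSite.Mod O) (ComplexShape.up ℤ))
      ((ModFlat.T (Os O s)).mapHomologicalComplex (ComplexShape.up ℤ) ⋙ DerivedCategory.Q) (locD s) :=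
    ⟨(ModFlat.T (Os O s)).mapDerivedCategoryFactors⟩
  letI : Localization.Lifting DerivedCategory.Q (HomologicalComplex.quasiIso (ModSite.Mod O) (ComplexShape.up ℤ))
      (DerivedCategory.Q (C := ModSite.Mod O)) (𝟭 _) := ⟨Functor.rightUnitor _⟩
  Localization.liftNatTrans DerivedCategory.Q (HomologicalComplex.quasiIso (ModSite.Mod O) (ComplexShape.up ℤ))
    DerivedCategory.Q _ (𝟭 _) (locD s) ((Functor.leftUnitor _).inv ≫ Functor.whiskerRight (toLocCx s) DerivedCategory.Q)

/-- `X = X ⊗ O_s` when `s` is invertible on `X`. -/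
theorem isIso_toLocD (X : DerivedCategory (ModSite.Mod O)) (hX : IsIso (s • 𝟙 X)) : IsIso ((toLocD s).app X) := by
  let K := DerivedCategory.Q.objPreimage X
  let e : DerivedCategory.Q.obj K ≅ X := DerivedCategory.Q.objObjPreimageIso X
  suffices IsIso ((toLocD s).app (DerivedCategory.Q.obj K)) from
    ((MorphismProperty.isomorphisms _).arrow_mk_iso_iff
      (Arrow.isoMk e ((locD s).mapIso e) ((toLocD s).naturality e.hom))).1 this
  have hK : IsIso (DerivedCategory.Q.map (s • 𝟙 K)) := by
    rw [Functor.map_smul, CategoryTheory.Functor.map_id]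
    exact isIso_smul_of_iso e.symm
  have hq := (DerivedCategory.isIso_Q_map_iff_quasiIso _ _).1 hK
  have : QuasiIso ((toLocCx s).app K) := by
    rw [quasiIso_iff]
    intro i
    rw [quasiIsoAt_iff_isIso_homologyMap]
    have hs : IsIso (_root_.DerComp.smulEnd s (K.homology i)) := by
      have h1 := (quasiIsoAt_iff_isIso_homologyMap (s • 𝟙 K) i).1 (hq.quasiIsoAt i)
      change IsIso (ShortComplex.homologyMap (s • 𝟙 (K.sc i))) at h1
      rw [ShortComplex.homologyMap_smul, ShortComplex.homologyMap_id] at h1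
      rwa [smulEnd_eq_smul]
    have : IsIso ((toTensorLoc s).app (K.sc i).homology) := isIso_toTensorLoc s (K.homology i)
    change IsIso (ShortComplex.homologyMap ((K.sc i).mapNatTrans (toTensorLoc s)))
    rw [ShortComplex.homologyMap_mapNatTrans]
    infer_instance
  rw [toLocD, Localization.liftNatTrans_app]
  simp only [NatTrans.comp_app, Functor.whiskerRight_app, Functor.leftUnitor_inv_app]
  infer_instance

section RHom

variable [ModSite.HasLTensorCx ((CochainComplex.singleFunctor (ModSite.Mod O) 0).obj (Os O s))]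
  [_root_.DerComp.HasRHom ((CochainComplex.singleFunctor (ModSite.Mod O) 0).obj (Os O s))]

/-- `RHom(O_s, -)` is right adjoint to `- ⊗ O_s`. -/
noncomputable def locAdj :
    locD s ⊣ _root_.DerComp.RHom ((CochainComplex.singleFunctor (ModSite.Mod O) 0).obj (Os O s)) :=
  (_root_.DerComp.RHomAdj _).ofNatIsoLeft (ltensorLocIso s).symm

/-- `RHom(O_s, K)` is the derived limit of multiplication by `s`. -/
theorem isT_RHom (K : DerivedCategory (ModSite.Mod O)) [HasProduct fun _ : ℕ => K] :
    _root_.DerComp.IsT s K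
      ((_root_.DerComp.RHom ((CochainComplex.singleFunctor (ModSite.Mod O) 0).obj (Os O s))).obj K) := by
  let Rf := _root_.DerComp.RHom ((CochainComplex.singleFunctor (ModSite.Mod O) 0).obj (Os O s))
  let adj := locAdj s
  have hR : IsIso (s • 𝟙 (Rf.obj K)) := by
    refine isIso_smul_of_bijective s ?_
    have := isIso_locD_map_smul s (Rf.obj K)
    let E := adj.homEquiv (Rf.obj K) K
    have : (fun φ : Rf.obj K ⟶ Rf.obj K => s • φ) =
        E ∘ (fun ψ => (locD s).map (s • 𝟙 (Rf.obj K)) ≫ ψ) ∘ E.symm := funext fun φ => by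
      simp only [Function.comp_apply, E]
      rw [Adjunction.homEquiv_naturality_left, Equiv.apply_symm_apply, Linear.smul_comp, Category.id_comp]
    rw [this]
    exact E.bijective.comp ((asIso ((locD s).map (s • 𝟙 (Rf.obj K)))).symm.homFromEquiv.bijective.comp E.symm.bijective)
  let ε : Rf.obj K ⟶ K := (toLocD s).app (Rf.obj K) ≫ adj.counit.app K
  refine exists_triangle_of_universal ε hR fun X hX => ?_
  have := isIso_toLocD s X hX
  have : (fun g : X ⟶ Rf.obj K => g ≫ ε) =
      (fun ψ => (toLocD s).app X ≫ ψ) ∘ (adj.homEquiv X K).symm := funext fun g => by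
    simp only [Function.comp_apply, ε, Adjunction.homEquiv_counit]
    rw [← Category.assoc, ← Category.assoc]
    exact congrArg (· ≫ _) ((toLocD s).naturality g)
  rw [this]
  exact (asIso ((toLocD s).app X)).symm.homFromEquiv.bijective.comp (Equiv.bijective _)

/-- `RHom(O_s, K) = 0` iff all derived limits of multiplication by `s` vanish. -/
theorem isZero_RHom_iff (K : DerivedCategory (ModSite.Mod O)) [HasProduct fun _ : ℕ => K] :
    IsZero ((_root_.DerComp.RHom ((CochainComplex.singleFunctor (ModSite.Mod O) 0).obj (Os O s))).obj K) ↔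
      ∀ L, _root_.DerComp.IsT s K L → IsZero L := by
  refine ⟨fun h L ⟨a, c, hT⟩ => ?_, fun h => h _ (isT_RHom s K)⟩
  obtain ⟨a', c', hT'⟩ := isT_RHom s K
  obtain ⟨e⟩ := nonempty_shift_iso_coneOf s K hT
  obtain ⟨e'⟩ := nonempty_shift_iso_coneOf s K hT'
  exact h.of_iso ((shiftFunctor _ (1 : ℤ)).preimageIso (e ≪≫ e'.symm))

end RHom

end GrothLib.DerComp
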