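import Groth.Agent.Lib.DerComp.ScalarSlice
import Groth.Agent.Lib.DerComp.LeftAdjoint
import Groth.Agent.S11131

/-! # Restriction of scalars along a flat map bijective modulo the ideal -/

set_option autoImplicit false
universe u

open CategoryTheory CategoryTheory.Limits Opposite

attribute [local instance] HasDerivedCategory.standard

namespace GrothLib.DerComp

variable {C : Type u} [SmallCategory C] {J : GrothendieckTopology C} {O O' : Sheaf J CommRingCat.{u}} (φ : O ⟶ O')

/-- Restriction of scalars has a right adjoint. -/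
theorem isLeftAdjoint_resScalars : (resScalars φ).IsLeftAdjoint := by
  haveI : (𝟭 C).IsCocontinuous J J := ⟨fun {U} S hS => by rwa [Sieve.functorPullback_id]⟩
  have : (scalarMor φ).push.IsLeftAdjoint :=
    Groth.Agent.S11131.result J J (𝟭 C) (idCoverPreserving J) (scalarMor φ).sharpR
  exact Functor.isLeftAdjoint_of_iso (scalarPushIso φ)

variable [PreservesFiniteLimits (resScalars φ)] [PreservesFiniteColimits (resScalars φ)]

/-- Derived restriction of scalars. -/
noncomputable abbrev resD : DerivedCategory (ModSite.Mod O') ⥤ DerivedCategory (ModSite.Mod O) :=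
  (resScalars φ).mapDerivedCategory

/-- The direct image and restriction of scalars on homotopy categories. -/
noncomputable def pushHtpyIso : (scalarMor φ).push.mapHomotopyCategory (ComplexShape.up ℤ) ≅
    (resScalars φ).mapHomotopyCategory (ComplexShape.up ℤ) where
  hom := NatTrans.mapHomotopyCategory (scalarPushIso φ).hom _
  inv := NatTrans.mapHomotopyCategory (scalarPushIso φ).inv _
  hom_inv_id := by rw [← NatTrans.mapHomotopyCategory_comp, Iso.hom_inv_id, NatTrans.mapHomotopyCategory_id]
  inv_hom_id := by rw [← NatTrans.mapHomotopyCategory_comp, Iso.inv_hom_id, NatTrans.mapHomotopyCategory_id]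

/-- Derived direct image along `scalarMor φ` is derived restriction of scalars, naturally. -/
noncomputable def scalarResNatIso : SiteDer.Rres (scalarMor φ) ≅ resD φ :=
  haveI : IsGrothendieckAbelian.{u} (ModSite.Mod O') := KInj.isGrothendieckAbelian_sheafOfModules _
  Functor.isoWhiskerLeft (KInj.res (ModSite.Mod O'))
      (Functor.isoWhiskerRight (pushHtpyIso φ) DerivedCategory.Qh ≪≫
        (resScalars φ).mapDerivedCategoryFactorsh.symm) ≪≫
    (Functor.associator _ _ _).symm ≪≫
    Functor.isoWhiskerRight (asIso (KInj.resAdj (ModSite.Mod O')).counit) (resD φ) ≪≫ Functor.leftUnitor _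

/-- The comparison of generators. -/
noncomputable def genScalar (V : C) :
    (inDF O).obj (ModSite.freeOn O V) ⟶ (resD φ).obj ((inDF O').obj (ModSite.freeOn O' V)) :=
  (inDF O).map (freeScalar φ V) ≫ ((resScalars φ).mapDerivedCategorySingleFunctor 0).inv.app _

/-- It is universal. -/
theorem isVal_genScalar (V : C) : IsVal (resD φ) (genScalar φ V) := by
  let X₁ := (DerivedCategory.singleFunctor (ModSite.Mod O') 0).obj ((SiteDer.freeMod O').obj V)
  let θ₁ := (SiteDer.pushHomEquiv (scalarMor φ) V 0 X₁).symm (𝟙 X₁)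
  have h₁ : ∀ M, Function.Bijective fun a : X₁ ⟶ M => θ₁ ≫ (SiteDer.Rres (scalarMor φ)).map a := fun M => by
    have : (fun a : X₁ ⟶ M => θ₁ ≫ (SiteDer.Rres (scalarMor φ)).map a) =
        (SiteDer.pushHomEquiv (scalarMor φ) V 0 M).symm := funext fun a => by
      apply (SiteDer.pushHomEquiv (scalarMor φ) V 0 M).injective
      rw [SiteDer.pushHomEquiv_comp, Equiv.apply_symm_apply, Equiv.apply_symm_apply]
      exact Category.id_comp a
    rw [this]
    exact Equiv.bijective _
  let e₀ := (inDF O).mapIso ((freeRep O V).iso (freeModRep O V))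
  let e₁ := (inDF O').mapIso ((freeRep O' V).iso (freeModRep O' V))
  let τ := scalarResNatIso φ
  let θ₂ := e₀.hom ≫ θ₁ ≫ τ.hom.app X₁ ≫ (resD φ).map e₁.inv
  have h₂ : IsVal (resD φ) θ₂ := fun M => by
    have : (fun a : (inDF O').obj (ModSite.freeOn O' V) ⟶ M => θ₂ ≫ (resD φ).map a) =
        (fun x => e₀.hom ≫ x) ∘ (fun x => x ≫ τ.hom.app M) ∘ (fun a => θ₁ ≫ (SiteDer.Rres (scalarMor φ)).map a) ∘
          (fun a => e₁.inv ≫ a) := funext fun a => by
      simp only [θ₂, Function.comp_apply, Category.assoc]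
      rw [τ.hom.naturality, Functor.map_comp]
    rw [this]
    exact e₀.symm.homFromEquiv.bijective.comp ((τ.app M).homToEquiv.bijective.comp
      ((h₁ M).comp e₁.homFromEquiv.bijective))
  let σ := ((resScalars φ).mapDerivedCategorySingleFunctor 0)
  obtain ⟨h, hh⟩ := (inDF O).map_surjective (θ₂ ≫ σ.hom.app _)
  have hθ : θ₂ = (inDF O).map h ≫ σ.inv.app _ :=
    (eq_comm.1 ((congrArg (· ≫ σ.inv.app _) hh).trans ((Category.assoc _ _ _).trans
      ((congrArg (θ₂ ≫ ·) (σ.hom_inv_id_app _)).trans (Category.comp_id _)))))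
  have hnat : ∀ {Y : ModSite.Mod O'} (a : ModSite.freeOn O' V ⟶ Y),
      θ₂ ≫ (resD φ).map ((inDF O').map a) = (inDF O).map (h ≫ (resScalars φ).map a) ≫ σ.inv.app Y := fun a => by
    rw [hθ, Functor.map_comp, Category.assoc, Category.assoc]
    exact congrArg ((inDF O).map h ≫ ·) (σ.inv.naturality a).symm
  have hu : ∀ Y, Function.Bijective fun a : ModSite.freeOn O' V ⟶ Y => h ≫ (resScalars φ).map a := fun Y => by
    refine (Function.Bijective.of_comp_iff' (f := fun x => (inDF O).map x ≫ σ.inv.app Y)
      ((σ.app Y).symm.homToEquiv.bijective.comp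
        (Functor.FullyFaithful.ofFullyFaithful (inDF O)).homEquiv.bijective) _).1 ?_
    have : (fun x => (inDF O).map x ≫ σ.inv.app Y) ∘ (fun a : ModSite.freeOn O' V ⟶ Y => h ≫ (resScalars φ).map a) =
        (fun a => θ₂ ≫ (resD φ).map a) ∘ (inDF O').map := funext fun a => (hnat a).symm
    rw [this]
    exact (h₂ _).comp (Functor.FullyFaithful.ofFullyFaithful (inDF O')).homEquiv.bijective
  obtain ⟨a, ha⟩ := (hu _).2 (freeScalar φ V)
  obtain ⟨b, hb⟩ := (freeScalar_universal φ V _).2 h
  change h ≫ (resScalars φ).map a = _ at ha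
  change freeScalar φ V ≫ (resScalars φ).map b = _ at hb
  have h1 : a ≫ b = 𝟙 _ := (hu _).1 (by
    change h ≫ (resScalars φ).map (a ≫ b) = h ≫ (resScalars φ).map (𝟙 _)
    rw [Functor.map_comp, reassoc_of% ha, hb, CategoryTheory.Functor.map_id, Category.comp_id])
  have h2 : b ≫ a = 𝟙 _ := (freeScalar_universal φ V _).1 (by
    change freeScalar φ V ≫ (resScalars φ).map (b ≫ a) = freeScalar φ V ≫ (resScalars φ).map (𝟙 _)
    rw [Functor.map_comp, reassoc_of% hb, ha, CategoryTheory.Functor.map_id, Category.comp_id])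
  let i : ModSite.freeOn O' V ≅ ModSite.freeOn O' V := ⟨a, b, h1, h2⟩
  have h0 : genScalar φ V = θ₂ ≫ (resD φ).map ((inDF O').map a) := by
    rw [hnat, ha]
    rfl
  intro M
  have : (fun x : (inDF O').obj (ModSite.freeOn O' V) ⟶ M => genScalar φ V ≫ (resD φ).map x) =
      (fun x => θ₂ ≫ (resD φ).map x) ∘ fun x => (inDF O').map a ≫ x := funext fun x => by
    rw [h0, Function.comp_apply, Functor.map_comp, Category.assoc]
  rw [this]
  exact (h₂ M).comp ((inDF O').mapIso i).symm.homFromEquiv.bijective

/-- Derived restriction of scalars reflects zero objects. -/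
theorem isZero_of_resD (Z : DerivedCategory (ModSite.Mod O')) (hz : IsZero ((resD φ).obj Z)) : IsZero Z := by
  obtain ⟨K, ⟨i⟩⟩ : ∃ K : CochainComplex (ModSite.Mod O') ℤ, Nonempty ((qD O').obj K ≅ Z) :=
    ⟨_, ⟨DerivedCategory.Q.objObjPreimageIso Z⟩⟩
  have : (resScalars φ).PreservesHomology := Functor.preservesHomologyOfExact _
  refine isZero_of_homology fun n => IsZero.of_iso ?_ (((DerivedCategory.homologyFunctor _ n).mapIso i).symm ≪≫
    (DerivedCategory.homologyFunctorFactors _ n).app K)
  change IsZero (K.sc n).homology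
  have hR : IsZero ((qD O).obj (((resScalars φ).mapHomologicalComplex _).obj K)) :=
    hz.of_iso (((resScalars φ).mapDerivedCategoryFactors.app K).symm ≪≫ (resD φ).mapIso i)
  have h0 : IsZero ((resScalars φ).obj (K.sc n).homology) :=
    ((DerivedCategory.homologyFunctor _ n).map_isZero hR).of_iso
      (((K.sc n).mapHomologyIso (resScalars φ)).symm ≪≫
        ((DerivedCategory.homologyFunctorFactors _ n).app (((resScalars φ).mapHomologicalComplex _).obj K)).symm)
  rw [IsZero.iff_id_eq_zero]
  refine SheafOfModules.hom_ext (PresheafOfModules.hom_ext fun X => ModuleCat.hom_ext (LinearMap.ext fun x => ?_))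
  exact congrArg (fun t => (t.val.app X).hom x) (h0.eq_of_src ((resScalars φ).map (𝟙 (K.sc n).homology)) ((resScalars φ).map 0))

variable {φ} {I : _root_.DerComp.IdealSh O} {I' : _root_.DerComp.IdealSh O'}

variable (hI' : _root_.DerComp.IsIdealExt φ I I')
  (hflat : ModSite.IsFlat ((resScalars φ).obj (ModSite.unit O')))
  (hinj : ∀ (U : C) (f : O.obj.obj (op U)), (φ.hom.app (op U)).hom f ∈ I'.ideal U → f ∈ I.ideal U)
  (hsurj : ∀ (U : C) (f' : O'.obj.obj (op U)), ∃ S ∈ J U, ∀ ⦃V : C⦄ (g : V ⟶ U), S g →
    ∃ a : O.obj.obj (op V), (O'.obj.map g.op).hom f' - (φ.hom.app (op V)).hom a ∈ I'.ideal V)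

include hI' hflat hinj hsurj in
/-- On spanned objects the comparison of generators is invisible to complete objects. -/
theorem bijective_genScalar {V : C} {r : ℕ} {a : Fin r → O.obj.obj (op V)} (ha : LocSpan I V a)
    {E : DerivedCategory (ModSite.Mod O)} (hE : _root_.DerComp.IsDerComp O I E) (n : ℤ) :
    Function.Bijective fun y : (resD φ).obj ((inDF O').obj (ModSite.freeOn O' V)) ⟶ E⟦n⟧ => genScalar φ V ≫ y := by
  have hN := ModExtZero.isFlat_restr (U := V) _ hflat
  have : (ModFlat.T (scalarOver φ V)).Additive := ModFlat.additive_T _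
  have hs := bijective_precomp_inDF (scalarSlice φ V) hN (sectList a) (isIso_quMap_scalarSlice φ V hI' hinj hsurj ha)
    (cplAll_rD hE ha) n
  have he : Function.Bijective fun y : (inDF O).obj ((ModSite.extZero O V).obj (scalarOver φ V)) ⟶ E⟦n⟧ =>
      (inDF O).map ((ModSite.extZero O V).map (scalarSlice φ V)) ≫ y := by
    refine (Function.Bijective.of_comp_iff _ (extHom_bijective V (scalarOver φ V) E n)).1 ?_
    have : (fun y => (inDF O).map ((ModSite.extZero O V).map (scalarSlice φ V)) ≫ y) ∘
        extHom V (scalarOver φ V) E n = extHom V _ E n ∘ fun y => (inDF (O.over V)).map (scalarSlice φ V) ≫ y :=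
      funext fun y => (extHom_map (scalarSlice φ V) E n y).symm
    rw [this]
    exact (extHom_bijective V _ E n).comp hs
  let j : (inDF O).obj ((ModSite.extZero O V).obj (scalarOver φ V)) ≅
      (resD φ).obj ((inDF O').obj (ModSite.freeOn O' V)) :=
    (inDF O).mapIso (asIso (scalarExt φ V)) ≪≫ (((resScalars φ).mapDerivedCategorySingleFunctor 0).app _).symm
  have : (fun y : (resD φ).obj ((inDF O').obj (ModSite.freeOn O' V)) ⟶ E⟦n⟧ => genScalar φ V ≫ y) =
      (fun y => (inDF O).map ((ModSite.extZero O V).map (scalarSlice φ V)) ≫ y) ∘ fun y => j.hom ≫ y :=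
    funext fun y => by
      simp only [genScalar, freeScalar, j, Function.comp_apply, Functor.map_comp, Category.assoc, Iso.trans_hom,
        Functor.mapIso_hom, asIso_hom, Iso.symm_hom, Iso.app_inv]
  rw [this]
  exact he.comp j.symm.homFromEquiv.bijective

include hI' hflat hinj hsurj in
/-- The counit of derived restriction of scalars is invertible on complete objects. -/
theorem isIso_counit_resD (hI : LocFT I) {Q : DerivedCategory (ModSite.Mod O) ⥤ DerivedCategory (ModSite.Mod O')}
    (adj : resD φ ⊣ Q) {E : DerivedCategory (ModSite.Mod O)} (hE : _root_.DerComp.IsDerComp O I E) :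
    IsIso (adj.counit.app E) := by
  refine isIso_of_bijective_locally _ fun V => (hI V).mono fun W _ ⟨r, a, ha⟩ n => ?_
  let X := ((inDF O').obj (ModSite.freeOn O' W))⟦n⟧
  let G := (inDF O).obj (ModSite.freeOn O W)
  let θ : G⟦n⟧ ⟶ (resD φ).obj X := (genScalar φ W)⟦n⟧' ≫ ((resD φ).commShiftIso n).inv.app _
  have h1 := ((isVal_genScalar φ W).shift n) (Q.obj E)
  have h2 : Function.Bijective fun b : (resD φ).obj X ⟶ E => θ ≫ b := by
    let c := ((resD φ).commShiftIso n).app ((inDF O').obj (ModSite.freeOn O' W))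
    let d := (shiftEquiv (DerivedCategory (ModSite.Mod O)) n).toAdjunction
    have h3 : Function.Bijective fun y : ((resD φ).obj ((inDF O').obj (ModSite.freeOn O' W)))⟦n⟧ ⟶ E =>
        (genScalar φ W)⟦n⟧' ≫ y := by
      refine (Function.Bijective.of_comp_iff' (d.homEquiv G E).bijective _).1 ?_
      have : (d.homEquiv G E) ∘ (fun y : ((resD φ).obj ((inDF O').obj (ModSite.freeOn O' W)))⟦n⟧ ⟶ E =>
          (genScalar φ W)⟦n⟧' ≫ y) = (fun y => genScalar φ W ≫ y) ∘ d.homEquiv _ E :=
        funext fun y => d.homEquiv_naturality_left (genScalar φ W) y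
      refine (congrArg Function.Bijective this).mpr ?_
      exact (bijective_genScalar hI' hflat hinj hsurj ha hE (-n)).comp (Equiv.bijective _)
    have : (fun b : (resD φ).obj X ⟶ E => θ ≫ b) =
        (fun y => (genScalar φ W)⟦n⟧' ≫ y) ∘ fun b => c.inv ≫ b := funext fun b => Category.assoc _ _ _
    rw [this]
    exact h3.comp c.homFromEquiv.bijective
  refine (Function.Bijective.of_comp_iff _ h1).1 ?_
  have : (fun ψ : G⟦n⟧ ⟶ (resD φ).obj (Q.obj E) => ψ ≫ adj.counit.app E) ∘
      (fun a : X ⟶ Q.obj E => θ ≫ (resD φ).map a) = (fun b => θ ≫ b) ∘ (adj.homEquiv X E).symm :=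
    funext fun a => by simp [Adjunction.homEquiv_counit]
  exact this ▸ h2.comp (Equiv.bijective _)

include hI' hflat hinj hsurj in
/-- **Restriction of scalars is an equivalence on complete objects.** -/
theorem restrictScalars_equiv (hI : LocFT I) :
    (∀ K L : DerivedCategory (ModSite.Mod O'), _root_.DerComp.IsDerComp O' I' L →
        Function.Bijective fun ψ : K ⟶ L => (resD φ).map ψ) ∧
      ∀ E : DerivedCategory (ModSite.Mod O), _root_.DerComp.IsDerComp O I E →
        ∃ K : DerivedCategory (ModSite.Mod O'), _root_.DerComp.IsDerComp O' I' K ∧ Nonempty ((resD φ).obj K ≅ E) := by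
  have := isLeftAdjoint_resScalars φ
  have := (Adjunction.ofIsLeftAdjoint (resScalars φ)).right_adjoint_additive
  have : IsGrothendieckAbelian.{u} (ModSite.Mod O) := KInj.isGrothendieckAbelian_sheafOfModules _
  have : IsGrothendieckAbelian.{u} (ModSite.Mod O') := KInj.isGrothendieckAbelian_sheafOfModules _
  let adj := KInj.derivedAdj (Adjunction.ofIsLeftAdjoint (resScalars φ))
  refine ⟨fun K L hL => ?_, fun E hE => ?_⟩
  · have hRL := (isDerComp_iff_resScalars φ I I' hI' L).1 hL
    have := isIso_counit_resD hI' hflat hinj hsurj hI adj hRL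
    have h1 : IsIso ((resD φ).map (adj.unit.app L)) := by
      have h := adj.left_triangle_components L
      have : IsIso ((resD φ).map (adj.unit.app L) ≫ adj.counit.app ((resD φ).obj L)) := by
        rw [h]
        exact IsIso.id _
      exact IsIso.of_isIso_comp_right _ (adj.counit.app ((resD φ).obj L))
    have : IsIso (adj.unit.app L) := by
      obtain ⟨Z, g, d, hT⟩ := Pretriangulated.distinguished_cocone_triangle (adj.unit.app L)
      refine (Pretriangulated.Triangle.isZero₃_iff_isIso₁ _ hT).1 ?_
      have hz : IsZero ((resD φ).obj Z) :=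
        (Pretriangulated.Triangle.isZero₃_iff_isIso₁ _ ((resD φ).map_distinguished _ hT)).2 h1
      exact isZero_of_resD φ Z hz
    have : (fun ψ : K ⟶ L => (resD φ).map ψ) = (adj.homEquiv K _).symm ∘ fun ψ => ψ ≫ adj.unit.app L := funext fun ψ => by
      simp [Adjunction.homEquiv_counit]
    rw [this]
    exact (Equiv.bijective _).comp (asIso (adj.unit.app L)).homToEquiv.bijective
  · have := isIso_counit_resD hI' hflat hinj hsurj hI adj hE
    refine ⟨_, ?_, ⟨asIso (adj.counit.app E)⟩⟩
    refine (isDerComp_iff_resScalars φ I I' hI' _).2 ?_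
    intro U f hf n
    have := hE U f hf n
    exact @Equiv.subsingleton _ _ ((shiftFunctor _ n).mapIso (asIso (adj.counit.app E))).homToEquiv this

end GrothLib.DerComp
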