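import Groth.Agent.Lib.DerComp.QuotKos
import Groth.Agent.Lib.DerComp.ChangeRings
import Groth.Agent.Lib.DerComp.PushKos

/-! # Generators and restriction of scalars -/

set_option autoImplicit false
universe u

open CategoryTheory CategoryTheory.Limits Opposite GrothLib.ModSupp25

attribute [local instance] HasDerivedCategory.standard

namespace GrothLib.DerComp

variable {C : Type u} [SmallCategory C] {J : GrothendieckTopology C} {O O' : Sheaf J CommRingCat.{u}} (φ : O ⟶ O')

/-- The map of rings as a map of modules. -/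
noncomputable def unitScalar : ModSite.unit O ⟶ (resScalars φ).obj (ModSite.unit O') :=
  ⟨PresheafOfModules.homMk
    { app := fun X => AddCommGrpCat.ofHom (φ.hom.app X).hom.toAddMonoidHom
      naturality := fun X Y f => AddCommGrpCat.hom_ext (AddMonoidHom.ext fun r =>
        congrArg (fun t => t.hom r) (φ.hom.naturality f)) }
    fun X r m => map_mul (φ.hom.app X).hom r m⟩

/-- Maps out of an extension by zero, on sections. -/
theorem extZero_homEquiv_app {V : C} (A : ModSite.Mod (O.over V)) {G : ModSite.Mod O}
    (b : (ModSite.extZero O V).obj A ⟶ G) (P : (Over V)ᵒᵖ) (x : A.val.obj P) :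
    (((ModSite.extZeroAdj O V).homEquiv A G b).val.app P).hom x =
      (((SheafCoh.shfAdj O).homEquiv _ G ((ModExtZero.extZeroIso O V).hom.app A ≫ b)).app (op P.unop.left)).hom
        (ModExtZero.incl ((SheafCoh.forgetP (O.over V)).obj A) (op P.unop.left) P.unop.hom x) := by
  have h : (ModExtZero.extShfAdj O V).homEquiv A G ((ModExtZero.extZeroIso O V).hom.app A ≫ b) =
      (ModSite.extZeroAdj O V).homEquiv A G b := by
    rw [Adjunction.homEquiv_naturality_right, ModExtZero.extZeroIso, Adjunction.homEquiv_leftAdjointUniq_hom_app,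
      Adjunction.homEquiv_unit]
  rw [← h]
  rfl

/-- Restriction of the scalars of the structure sheaf to a slice. -/
noncomputable abbrev scalarOver (V : C) : ModSite.Mod (O.over V) :=
  (ModSite.restr O V).obj ((resScalars φ).obj (ModSite.unit O'))

open scoped Classical in
/-- The extension by zero of presheaves, over the smaller ring. -/
noncomputable def extPScalar {V : C} {G : ModSite.Mod O'}
    (b : (ModExtZero.extP O' V).obj ((SheafCoh.forgetP (O'.over V)).obj (ModSite.unit (O'.over V))) ⟶
      (SheafCoh.forgetP O').obj G) :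
    (ModExtZero.extP O V).obj ((SheafCoh.forgetP (O.over V)).obj (scalarOver φ V)) ⟶
      (SheafCoh.forgetP O).obj ((resScalars φ).obj G) :=
  PresheafOfModules.homMk (M₁ := (ModExtZero.extP O V).obj ((SheafCoh.forgetP (O.over V)).obj (scalarOver φ V)))
    (M₂ := (SheafCoh.forgetP O).obj ((resScalars φ).obj G))
    ((PresheafOfModules.toPresheaf (O'.obj ⋙ forget₂ CommRingCat.{u} RingCat.{u})).map b)
    fun X r m => by
      have key : ∀ m : DirectSum (X.unop ⟶ V)
          (fun χ => ModExtZero.comp ((SheafCoh.forgetP (O.over V)).obj (scalarOver φ V)) X χ),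
          r • m = (show DirectSum (X.unop ⟶ V) (fun χ => ModExtZero.comp
              ((SheafCoh.forgetP (O'.over V)).obj (ModSite.unit (O'.over V))) X χ) from
            (φ.hom.app X).hom r • (show DirectSum (X.unop ⟶ V) (fun χ => ModExtZero.comp
              ((SheafCoh.forgetP (O'.over V)).obj (ModSite.unit (O'.over V))) X χ) from m)) := by
        intro m
        induction m using DirectSum.induction_on with
        | zero =>
          exact (smul_zero r).trans
            (smul_zero (A := DirectSum (X.unop ⟶ V) (fun χ => ModExtZero.comp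
              ((SheafCoh.forgetP (O'.over V)).obj (ModSite.unit (O'.over V))) X χ)) ((φ.hom.app X).hom r)).symm
        | of χ y =>
          refine ((DirectSum.lof (O.obj.obj X) _ (fun χ => ModExtZero.comp
            ((SheafCoh.forgetP (O.over V)).obj (scalarOver φ V)) X χ) χ).map_smul r y).symm.trans ?_
          exact (DirectSum.lof (O'.obj.obj X) _ (fun χ => ModExtZero.comp
            ((SheafCoh.forgetP (O'.over V)).obj (ModSite.unit (O'.over V))) X χ) χ).map_smul ((φ.hom.app X).hom r) y
        | add p q hp hq =>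
          exact (smul_add r p q).trans ((congrArg₂ (· + ·) hp hq).trans (smul_add (A := DirectSum (X.unop ⟶ V)
            (fun χ => ModExtZero.comp ((SheafCoh.forgetP (O'.over V)).obj (ModSite.unit (O'.over V))) X χ))
            ((φ.hom.app X).hom r) p q).symm)
      exact (congrArg (b.app X).hom (key m)).trans ((b.app X).hom.map_smul _ _)

/-- A locally bijective map of presheaves gives an isomorphism from the sheafification. -/
theorem isIso_shf_adjunct {P : SheafCoh.PMod' O} {G : ModSite.Mod O} (f : P ⟶ (SheafCoh.forgetP O).obj G)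
    [Presheaf.IsLocallyInjective J ((PresheafOfModules.toPresheaf _).map f)]
    [Presheaf.IsLocallySurjective J ((PresheafOfModules.toPresheaf _).map f)] :
    IsIso (((SheafCoh.shfAdj O).homEquiv P G).symm f) := by
  have := SheafCoh.isIso_counit_shfAdj O
  have := SheafCoh.isIso_shf_map O f
  rw [Adjunction.homEquiv_counit]
  infer_instance

variable (V : C)

/-- The extension by zero of the structure sheaf upstairs, as a presheaf. -/
noncomputable abbrev extUnit' : (ModExtZero.extP O' V).obj ((SheafCoh.forgetP (O'.over V)).obj (ModSite.unit (O'.over V))) ⟶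
    (SheafCoh.forgetP O').obj (ModSite.freeOn O' V) :=
  (SheafCoh.shfAdj O').homEquiv _ _ ((ModExtZero.extZeroIso O' V).hom.app (ModSite.unit (O'.over V)))

/-- `j_!` commutes with restriction of scalars on the structure sheaf. -/
noncomputable def scalarExt :
    (ModSite.extZero O V).obj (scalarOver φ V) ⟶ (resScalars φ).obj (ModSite.freeOn O' V) :=
  (ModExtZero.extZeroIso O V).inv.app (scalarOver φ V) ≫
    ((SheafCoh.shfAdj O).homEquiv _ _).symm (extPScalar φ (extUnit' V))

instance isIso_scalarExt : IsIso (scalarExt φ V) := by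
  let P := (ModExtZero.extP O' V).obj ((SheafCoh.forgetP (O'.over V)).obj (ModSite.unit (O'.over V)))
  let i := (SheafCoh.forgetP O').map ((ModExtZero.extZeroIso O' V).hom.app (ModSite.unit (O'.over V)))
  have h : (PresheafOfModules.toPresheaf _).map (extUnit' (O' := O') V) =
      (PresheafOfModules.toPresheaf _).map ((SheafCoh.shfAdj O').unit.app P) ≫ (PresheafOfModules.toPresheaf _).map i := by
    rw [← Functor.map_comp]
    rfl
  have := SheafCoh.isLocallyInjective_unit O' P
  have := SheafCoh.isLocallySurjective_unit O' P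
  have h1 : Presheaf.IsLocallyInjective J ((PresheafOfModules.toPresheaf _).map (extUnit' (O' := O') V)) := by
    rw [h]
    infer_instance
  have h2 : Presheaf.IsLocallySurjective J ((PresheafOfModules.toPresheaf _).map (extUnit' (O' := O') V)) := by
    rw [h]
    infer_instance
  have : Presheaf.IsLocallyInjective J ((PresheafOfModules.toPresheaf _).map (extPScalar φ (extUnit' V))) := h1
  have : Presheaf.IsLocallySurjective J ((PresheafOfModules.toPresheaf _).map (extPScalar φ (extUnit' V))) := h2
  have := isIso_shf_adjunct (extPScalar φ (extUnit' V))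
  exact IsIso.comp_isIso' inferInstance this

/-- The structure map on the slice. -/
noncomputable abbrev scalarSlice : ModSite.unit (O.over V) ⟶ scalarOver φ V :=
  (ModSite.restr O V).map (unitScalar φ)

/-- The map of free modules. -/
noncomputable def freeScalar : ModSite.freeOn O V ⟶ (resScalars φ).obj (ModSite.freeOn O' V) :=
  (ModSite.extZero O V).map (scalarSlice φ V) ≫ scalarExt φ V

/-- It is the universal map. -/
theorem freeScalar_universal (Y : ModSite.Mod O') :
    Function.Bijective fun a : ModSite.freeOn O' V ⟶ Y => freeScalar φ V ≫ (resScalars φ).map a := by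
  let r := extRep O (unitRep O V)
  let r' := extRep O' (unitRep O' V)
  let P : (Over V)ᵒᵖ := op (Over.mk (𝟙 V))
  let one : (scalarOver φ V).val.obj P := ((φ.hom.app (op V)).hom (1 : O.obj.obj (op V)) : O'.obj.obj (op V))
  have hrep : ∀ {G : ModSite.Mod O} (b : ModSite.freeOn O V ⟶ G), r.eqv G b =
      (((ModSite.extZeroAdj O V).homEquiv _ G b).val.app P).hom (1 : O.obj.obj (op V)) := fun b => rfl
  have hrep' : r'.eqv _ (𝟙 (ModSite.freeOn O' V)) =
      (((ModSite.extZeroAdj O' V).homEquiv _ _ (𝟙 (ModSite.freeOn O' V))).val.app P).hom (1 : O'.obj.obj (op V)) := rfl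
  have key : r.eqv _ (freeScalar φ V) = r'.eqv _ (𝟙 (ModSite.freeOn O' V)) := by
    rw [hrep, hrep', freeScalar, Adjunction.homEquiv_naturality_left]
    change (((ModSite.extZeroAdj O V).homEquiv _ _ (scalarExt φ V)).val.app P).hom one = _
    rw [extZero_homEquiv_app, extZero_homEquiv_app, scalarExt, Iso.hom_inv_id_app_assoc, Equiv.apply_symm_apply,
      Category.comp_id]
    change ((extPScalar φ (extUnit' V)).app (op V)).hom _ = _
    simp only [one, map_one]
    rfl
  refine (Function.Bijective.of_comp_iff' (r.eqv _).bijective _).1 ?_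
  have : r.eqv _ ∘ (fun a : ModSite.freeOn O' V ⟶ Y => freeScalar φ V ≫ (resScalars φ).map a) = r'.eqv Y :=
    funext fun a => (r.comp _ _).trans ((congrArg (fun t => (a.val.app (op V)).hom t) key).trans (r'.eqv_eq a).symm)
  rw [this]
  exact (r'.eqv Y).bijective

/-! ### The sections in the span -/

lemma inL_iff_span {W : C} (l : List (_root_.DerComp.GSec O)) (X : ModSite.Mod O) {A : Type u} [CommRing A]
    (ψ : O.obj.obj (op W) →+* A) (u : sec O X W ≃+ A)
    (hu : ∀ (r : O.obj.obj (op W)) (y : sec O X W), u (smSec X r y) = ψ r * u y) (y : sec O X W) :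
    InL l X y ↔ u y ∈ Ideal.span ((fun s : _root_.DerComp.GSec O => ψ (s.1 W)) '' {s | s ∈ l}) := by
  induction l generalizing y with
  | nil =>
    change y = 0 ↔ _
    simp
  | cons s l ih =>
    have e : (fun t : _root_.DerComp.GSec O => ψ (t.1 W)) '' {t | t ∈ s :: l} =
        insert (ψ (s.1 W)) ((fun t : _root_.DerComp.GSec O => ψ (t.1 W)) '' {t | t ∈ l}) := by
      ext t
      simp [eq_comm]
    change (∃ z, InL l X (y - smSec X (s.1 W) z)) ↔ _
    rw [e, Ideal.mem_span_insert]
    constructor
    · rintro ⟨z, hz⟩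
      refine ⟨u z, _, (ih _).1 hz, ?_⟩
      rw [map_sub, hu]
      ring
    · rintro ⟨c, z, hz, h⟩
      refine ⟨u.symm c, (ih _).2 ?_⟩
      rw [map_sub, hu, u.apply_symm_apply, h, mul_comm c, add_sub_cancel_left]
      exact hz

/-- The structure sheaf of a slice is bijective with `O'` modulo spanning sections. -/
theorem isIso_quMap_scalarSlice {I : _root_.DerComp.IdealSh O} {I' : _root_.DerComp.IdealSh O'}
    (hI' : _root_.DerComp.IsIdealExt φ I I')
    (hinj : ∀ (U : C) (f : O.obj.obj (op U)), (φ.hom.app (op U)).hom f ∈ I'.ideal U → f ∈ I.ideal U)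
    (hsurj : ∀ (U : C) (f' : O'.obj.obj (op U)), ∃ S ∈ J U, ∀ ⦃V : C⦄ (g : V ⟶ U), S g →
      ∃ a : O.obj.obj (op V), (O'.obj.map g.op).hom f' - (φ.hom.app (op V)).hom a ∈ I'.ideal V)
    {r : ℕ} {a : Fin r → O.obj.obj (op V)} (ha : LocSpan I V a) :
    IsIso (quMap (sectList a) (scalarSlice φ V)) := by
  have ha' : LocSpan I' V fun i => (φ.hom.app (op V)).hom (a i) := locSpan_sharp (scalarMor φ) hI' ha
  have hO : ∀ (W : Over V) (f : O.obj.obj (op W.left)), InL (O := O.over V) (sectList a) (ModSite.unit (O.over V))
      (W := W) (show sec (O.over V) (ModSite.unit (O.over V)) W from f) ↔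
        f ∈ Ideal.span (Set.range fun i => (O.obj.map W.hom.op).hom (a i)) := fun W f => by
    refine (inL_iff_span (O := O.over V) (sectList a) (ModSite.unit (O.over V)) (W := W) (A := O.obj.obj (op W.left))
      (RingHom.id _) (AddEquiv.refl _) (fun r y => rfl) _).trans ?_
    refine Iff.of_eq (congrArg (fun S : Set (O.obj.obj (op W.left)) => f ∈ Ideal.span S) ?_)
    ext x
    constructor
    · rintro ⟨s, hs, rfl⟩
      obtain ⟨i, rfl⟩ := mem_sectList.1 hs
      exact ⟨i, (ofSect_val V (a i) W).symm⟩
    · rintro ⟨i, rfl⟩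
      exact ⟨_, mem_sectList.2 ⟨i, rfl⟩, ofSect_val V (a i) W⟩
  have hN : ∀ (W : Over V) (f : O'.obj.obj (op W.left)), InL (O := O.over V) (sectList a) (scalarOver φ V)
      (W := W) (show sec (O.over V) (scalarOver φ V) W from f) ↔
        f ∈ Ideal.span (Set.range fun i => (O'.obj.map W.hom.op).hom ((φ.hom.app (op V)).hom (a i))) := fun W f => by
    refine (inL_iff_span (O := O.over V) (sectList a) (scalarOver φ V) (W := W) (A := O'.obj.obj (op W.left))
      (φ.hom.app (op W.left)).hom (AddEquiv.refl _) (fun r y => rfl) _).trans ?_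
    refine Iff.of_eq (congrArg (fun S : Set (O'.obj.obj (op W.left)) => f ∈ Ideal.span S) ?_)
    ext x
    constructor
    · rintro ⟨s, hs, rfl⟩
      obtain ⟨i, rfl⟩ := mem_sectList.1 hs
      refine ⟨i, ?_⟩
      change _ = (φ.hom.app (op W.left)).hom _
      rw [ofSect_val]
      exact (congrArg (fun t => t.hom (a i)) (φ.hom.naturality W.hom.op)).symm
    · rintro ⟨i, rfl⟩
      refine ⟨_, mem_sectList.2 ⟨i, rfl⟩, ?_⟩
      change (φ.hom.app (op W.left)).hom _ = _
      rw [ofSect_val]
      exact congrArg (fun t => t.hom (a i)) (φ.hom.naturality W.hom.op)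
  refine isIso_quMap _ (fun W f hf => ?_) (fun W f => ?_)
  · let f₀ : O.obj.obj (op W.left) := f
    have hf' : (φ.hom.app (op W.left)).hom f₀ ∈ I'.ideal W.left := by
      refine (Ideal.span_le.2 ?_) ((hN W _).1 hf)
      rintro _ ⟨i, rfl⟩
      exact I'.map_mem W.hom (hI'.1 V _ (ha.1 i))
    refine (locally_over W (ha.2 W.left W.hom f₀ (hinj _ _ hf'))).mono fun T k hk => ?_
    refine (hO T _).2 ?_
    rw [Over.w k] at hk
    exact hk
  · obtain ⟨S, hS, hS'⟩ := hsurj W.left f
    refine SiteDer.Locally.trans (fun T T' k l ⟨p, hp⟩ => ?_) (J.overEquiv_symm_mem_over W S hS) fun T k hk => ?_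
    · refine ⟨res (O.over V) (ModSite.unit (O.over V)) l p, ?_⟩
      have := hp.restrict l
      rw [map_sub, ModSupp25.res_res, res_app] at this
      exact this
    obtain ⟨c, hc⟩ := hS' k.left ((Sieve.overEquiv_symm_iff _ k).1 hk)
    refine (locally_over T (ha'.2 T.left T.hom _ hc)).mono fun T' b hb => ⟨(O.obj.map b.left.op).hom c, ?_⟩
    refine (hN T' _).2 ?_
    rw [Over.w b, map_sub, res_res] at hb
    refine Eq.mp ?_ hb
    congr 2
    exact (congrArg (fun t => t.hom c) (φ.hom.naturality b.left.op)).symm

end GrothLib.DerComp
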