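import Groth.Agent.Lib.DerComp.Site

/-! # The sheaf of ideals of sections along which an object is derived complete -/

set_option autoImplicit false
universe w v u

open CategoryTheory CategoryTheory.Limits Opposite Pretriangulated

attribute [local instance] HasDerivedCategory.standard

namespace GrothLib.DerComp

section General

open ZeroObject in
/-- An object of a derived category with no homology is zero. -/
lemma isZero_of_homology {A : Type u} [Category.{v} A] [Abelian A] [HasDerivedCategory.{w} A]
    {E : DerivedCategory A} (h : ∀ i, IsZero ((DerivedCategory.homologyFunctor A i).obj E)) : IsZero E := by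
  have : IsIso (0 : (0 : DerivedCategory A) ⟶ E) := (DerivedCategory.isIso_iff A _).2 fun i => by
    have h0 := (DerivedCategory.homologyFunctor A i).map_isZero (isZero_zero (DerivedCategory A))
    exact ⟨0, h0.eq_of_src _ _, (h i).eq_of_src _ _⟩
  exact (isZero_zero (DerivedCategory A)).of_iso (asIso (0 : (0 : DerivedCategory A) ⟶ E)).symm

end General

variable {C : Type u} [SmallCategory C] {J : GrothendieckTopology C} {O : Sheaf J CommRingCat.{u}}

/-- Objects are zero when they locally receive no maps from the generators. -/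
lemma isZero_of_freeMod_locally {E : DerivedCategory (ModSite.Mod O)}
    (h : ∀ (V : C) (k : ℤ) (φ : (DerivedCategory.singleFunctor (ModSite.Mod O) k).obj ((SiteDer.freeMod O).obj V) ⟶ E),
      SiteDer.Locally J V (fun _ g => (DerivedCategory.singleFunctor (ModSite.Mod O) k).map
        ((SiteDer.freeMod O).map g) ≫ φ = 0)) : IsZero E :=
  isZero_of_homology fun k => (SiteDer.isLocGen_freeMod (ModSite.ringSh O)).isZero_homology fun V => h V k

omit J O in
/-- No maps into a cone from an object whose maps see an isomorphism. -/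
lemma eq_zero_of_bijective_comp {D : Type w} [Category.{v} D] [Preadditive D] [HasZeroObject D] [HasShift D ℤ]
    [∀ n : ℤ, (shiftFunctor D n).Additive] [Pretriangulated D] (T : Triangle D) (hT : T ∈ distTriang D) (G : D)
    (h : ∀ n : ℤ, Function.Bijective fun φ : G⟦n⟧ ⟶ T.obj₁ => φ ≫ T.mor₁) (m : ℤ) (ψ : G⟦m⟧ ⟶ T.obj₃) :
    ψ = 0 := by
  have h0 : ψ ≫ T.mor₃ = 0 := by
    let e := (shiftFunctorAdd' D (m - 1) 1 m (by omega)).app G
    obtain ⟨χ, hχ⟩ := (shiftFunctor D (1 : ℤ)).map_surjective (e.inv ≫ ψ ≫ T.mor₃)
    have : χ = 0 := by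
      apply (h (m - 1)).1
      apply (shiftFunctor D (1 : ℤ)).map_injective
      simp only [zero_comp, Functor.map_zero, Functor.map_comp, hχ, Category.assoc]
      rw [comp_distTriang_mor_zero₃₁ _ hT, comp_zero, comp_zero]
    rw [this, Functor.map_zero] at hχ
    rw [← cancel_epi e.inv, ← hχ, comp_zero]
  obtain ⟨b, rfl⟩ := T.coyoneda_exact₃ hT ψ h0
  obtain ⟨a, rfl⟩ := (h m).2 b
  simp [comp_distTriang_mor_zero₁₂ _ hT]

/-- A map is invertible when it is locally bijective on maps from shifts of `j_!O`. -/
theorem isIso_of_bijective_locally {A B : DerivedCategory (ModSite.Mod O)} (f : A ⟶ B)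
    (h : ∀ V : C, SiteDer.Locally J V (fun W _ => ∀ n : ℤ,
      Function.Bijective fun φ : ((inDF O).obj (ModSite.freeOn O W))⟦n⟧ ⟶ A => φ ≫ f)) : IsIso f := by
  obtain ⟨Z, g, δ, hT⟩ := distinguished_cocone_triangle f
  refine (Triangle.isZero₃_iff_isIso₁ _ hT).1 (isZero_of_freeMod_locally fun V k φ => (h V).mono fun W a hW => ?_)
  change _ = (0 : _ ⟶ Z)
  let G := (inDF O).obj (ModSite.freeOn O W)
  let e : G⟦-k⟧ ≅ (DerivedCategory.singleFunctor (ModSite.Mod O) k).obj ((SiteDer.freeMod O).obj W) :=
    ((DerivedCategory.singleFunctors (ModSite.Mod O)).shiftIso (-k) k 0 (by omega)).app _ ≪≫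
      (DerivedCategory.singleFunctor (ModSite.Mod O) k).mapIso ((freeRep O W).iso (freeModRep O W))
  exact (cancel_epi e.hom).1 ((eq_zero_of_bijective_comp _ hT G hW (-k) _).trans comp_zero.symm)

/-- Derived completeness of morphism modules can be shifted to the source. -/
lemma dcMod_shift_iff (s : _root_.DerComp.GSec O) (G L : DerivedCategory (ModSite.Mod O)) (n : ℤ) :
    DCpl.DCMod s (G⟦n⟧ ⟶ L) ↔ DCpl.DCMod s (G ⟶ L⟦-n⟧) := by
  rw [← seqBij_iff_dcMod, ← seqBij_iff_dcMod, ← seqBij_shift_iff (s • 𝟙 G) n, map_shift_smul_id]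
  exact seqBij_iff_of_iso_right ((shiftFunctorCompIsoId _ (-n) n (neg_add_cancel n)).app L).symm

/-- Completeness can be tested locally on the generators. -/
theorem sCpl_of_locally (s : _root_.DerComp.GSec O) (L : DerivedCategory (ModSite.Mod O)) (P : C → Prop)
    (hP : ∀ V : C, SiteDer.Locally J V (fun W _ => P W))
    (h : ∀ W, P W → ∀ n : ℤ, DCpl.DCMod s ((inDF O).obj (ModSite.freeOn O W) ⟶ L⟦n⟧)) : SCpl s L :=
  sCpl_of_detecting (ι := {W : C // P W} × ℤ) (fun p => ((inDF O).obj (ModSite.freeOn O p.1.1))⟦p.2⟧)
    (fun {A B} f hf => isIso_of_bijective_locally f fun V => (hP V).mono fun W _ hW n => hf (⟨W, hW⟩, n))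
    fun p => (dcMod_shift_iff s _ L p.2).2 (h _ p.1.2 _)

/-- Completeness of the restriction along a section is `Van`. -/
theorem sCpl_iff_van (K : DerivedCategory (ModSite.Mod O)) (U : C) (f : O.obj.obj (op U)) :
    SCpl (_root_.DerComp.GSec.ofSect O U f) ((rD O U).obj K) ↔ Van K U f := by
  constructor
  · intro h V g n
    have h1 := SCpl.dcMod ((inDF (O.over U)).obj (ModSite.freeOn (O.over U) (Over.mk g))) (h.shift n)
    have h2 := (dcMod_slice_iff (freeRep (O.over U) (Over.mk g)) (_root_.DerComp.GSec.ofSect O U f) K n).1 h1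
    rw [ofSect_val] at h2
    exact h2
  · intro h
    refine sCpl_of_locally _ _ (fun _ => True) (fun V => SiteDer.Locally.of_forall fun _ _ => trivial) fun W _ n => ?_
    exact (dcMod_slice_iff (freeRep (O.over U) W) _ K n).2 (h W.left W.hom n)

lemma van_map {K : DerivedCategory (ModSite.Mod O)} {U V : C} (g : V ⟶ U) {f : O.obj.obj (op U)}
    (h : Van K U f) : Van K V ((O.obj.map g.op).hom f) := fun W k n => by
  have := h W (k ≫ g) n
  rwa [op_comp, Functor.map_comp, CommRingCat.comp_apply] at this

variable (O) in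
/-- Sections as global sections of the slice, as a ring map. -/
def ofSectHom (U : C) : O.obj.obj (op U) →+* _root_.DerComp.GSec (O.over U) where
  toFun := _root_.DerComp.GSec.ofSect O U
  map_one' := Subtype.ext (funext fun _ => map_one _)
  map_mul' _ _ := Subtype.ext (funext fun _ => map_mul _ _ _)
  map_zero' := Subtype.ext (funext fun _ => map_zero _)
  map_add' _ _ := Subtype.ext (funext fun _ => map_add _ _ _)

/-- The sections along which `K` is derived complete form a sheaf of ideals. -/
def vanIdeal (K : DerivedCategory (ModSite.Mod O)) : _root_.DerComp.IdealSh O where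
  ideal U :=
    { carrier := {f | Van K U f}
      add_mem' := fun {a b} ha hb => (sCpl_iff_van K U _).1 (by
        have := (cplIdeal (_root_.DerComp.GSec (O.over U)) _).add_mem (mem_cplIdeal.2 ((sCpl_iff_van K U a).2 ha))
          (mem_cplIdeal.2 ((sCpl_iff_van K U b).2 hb))
        rw [← show ofSectHom O U (a + b) = _root_.DerComp.GSec.ofSect O U a + _root_.DerComp.GSec.ofSect O U b
          from map_add (ofSectHom O U) a b] at this
        exact this)
      zero_mem' := (sCpl_iff_van K U 0).1 (by
        have := sCpl_zero (R := _root_.DerComp.GSec (O.over U)) ((rD O U).obj K)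
        rwa [← map_zero (ofSectHom O U)] at this)
      smul_mem' := fun a b hb => (sCpl_iff_van K U _).1 (by
        have := (cplIdeal (_root_.DerComp.GSec (O.over U)) _).mul_mem_left (ofSectHom O U a)
          (mem_cplIdeal.2 ((sCpl_iff_van K U b).2 hb))
        rw [← show ofSectHom O U (a • b) = ofSectHom O U a * _root_.DerComp.GSec.ofSect O U b
          from map_mul (ofSectHom O U) a b] at this
        exact this) }
  map_mem g _ hf := van_map g hf
  glue {U f} S hS h := (sCpl_iff_van K U f).1 (by
    refine sCpl_of_locally _ _ (fun W : Over U => S W.hom) (fun W => ?_) fun W hW n => ?_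
    · refine ⟨(Sieve.overEquiv W).symm (S.pullback W.hom), ?_, fun V g hg => ?_⟩
      · exact J.overEquiv_symm_mem_over W _ (J.pullback_stable W.hom hS)
      · have := (Sieve.overEquiv_symm_iff _ g).1 hg
        change S (g.left ≫ W.hom) at this
        rwa [Over.w g] at this
    · refine (dcMod_slice_iff (freeRep (O.over U) W) _ K n).2 ?_
      have := h W.hom hW W.left (𝟙 _) n
      rw [ofSect_val]
      simpa using this)

lemma mem_vanIdeal {K : DerivedCategory (ModSite.Mod O)} {U : C} {f : O.obj.obj (op U)} :
    f ∈ (vanIdeal K).ideal U ↔ Van K U f := Iff.rfl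

lemma isDerComp_iff_le_vanIdeal (I : _root_.DerComp.IdealSh O) (K : DerivedCategory (ModSite.Mod O)) :
    _root_.DerComp.IsDerComp O I K ↔ I ≤ vanIdeal K := isDerComp_iff I K

end GrothLib.DerComp
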