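import Groth.Agent.Lib.DerComp.SiteIdeal
import Groth.Agent.Lib.DerComp.SmulTensor
import Groth.Agent.Lib.Derive.LeftCx
import Groth.Agent.Lib.ModFlat.Resolution
import Groth.Agent.Lib.ModExtZero.Basic
import Groth.Agent.Lib.ModFlat.KFlat
import Mathlib.Algebra.Homology.BifunctorHomotopy
import Mathlib.Algebra.Homology.BifunctorShift

/-! # The derived tensor product on a ringed site and extensions by zero -/

set_option autoImplicit false
universe u

open CategoryTheory CategoryTheory.Limits Opposite

attribute [local instance] HasDerivedCategory.standard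

namespace GrothLib.DerComp

variable {C : Type u} [SmallCategory C] {J : GrothendieckTopology C} {O : Sheaf J CommRingCat.{u}}

/-- K-flat resolutions derive the tensor product with any complex. -/
theorem cxResolvable_tensor (E : CochainComplex (ModSite.Mod O) ℤ) :
    Derive.CxResolvable ModSite.IsKFlat (ModSite.tensorCxQ E) where
  homotopy _ _ f g := fun ⟨h⟩ => by
    have e := HomotopyCategory.eq_of_homotopy _ _ (HomologicalComplex.mapBifunctorMapHomotopy₁ h (𝟙 E) (ModSite.tensorBi O) (ComplexShape.up ℤ))
    have e' := congrArg DerivedCategory.Qh.map e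
    exact (NatIso.naturality_1 (DerivedCategory.quotientCompQhIso (ModSite.Mod O)) _).symm.trans
      ((congrArg (fun t => _ ≫ t ≫ _) e').trans (NatIso.naturality_1 (DerivedCategory.quotientCompQhIso (ModSite.Mod O)) _))
  exists_res K := by
    obtain ⟨P, q, hP, -, hq, -⟩ := ModFlat.exists_kflat_resolution (G := K)
    exact ⟨P, q, hP, hq⟩
  inverts K L φ hK hL hφ := by
    have h1 := ModFlat.quasiIso_tensor_map φ hK hL E
    have : QuasiIso (((ModSite.tensorCx O).flip.obj E).map φ) :=
      (quasiIso_iff_of_arrow_mk_iso _ _ (Arrow.isoMk ((ModFlat.tensorFlipIso E).app K) ((ModFlat.tensorFlipIso E).app L)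
        ((ModFlat.tensorFlipIso E).hom.naturality φ).symm)).2 h1
    exact inferInstanceAs (IsIso (DerivedCategory.Q.map (((ModSite.tensorCx O).flip.obj E).map φ)))

/-- Derived tensor products exist. -/
theorem hasLTensorCx (E : CochainComplex (ModSite.Mod O) ℤ) : ModSite.HasLTensorCx E :=
  (cxResolvable_tensor E).hasLeftDerivedFunctor

/-- The derived tensor product through a K-flat resolution of the fixed complex. -/
theorem ltensor_value (E E' : CochainComplex (ModSite.Mod O) ℤ) (q : E' ⟶ E) [QuasiIso q]
    (hE' : ModSite.IsKFlat E') [ModSite.HasLTensorCx E] (K : CochainComplex (ModSite.Mod O) ℤ) :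
    Nonempty ((ModSite.LTensorCx E).obj (DerivedCategory.Q.obj K) ≅
      DerivedCategory.Q.obj (((ModSite.tensorCx O).obj K).obj E')) := by
  obtain ⟨P, p, hP, -, hp, -⟩ := ModFlat.exists_kflat_resolution (G := K)
  obtain ⟨v⟩ := (cxResolvable_tensor E).totalLeftDerived_value hP
  have h1 := ModFlat.quasiIso_tensor_map_of_isKFlat q P hP
  have h2 := ModFlat.quasiIso_map_of_isKFlat p E' hE'
  exact ⟨(ModSite.LTensorCx E).mapIso (asIso (DerivedCategory.Q.map p)).symm ≪≫ v ≪≫
    (asIso (DerivedCategory.Q.map (((ModSite.tensorCx O).obj P).map q))).symm ≪≫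
    asIso (DerivedCategory.Q.map (((ModSite.tensorCx O).flip.obj E').map p))⟩

attribute [local instance] ModFlat.additive_T

instance additive_tensorObj (A : ModSite.Mod O) : ((ModSite.tensorBi O).obj A).Additive :=
  Functor.additive_of_iso ((ModFlat.tensorSymm O).app A).symm

variable {U : C}

/-- The projection formula as an isomorphism of functors. -/
noncomputable def projFunIso (A : ModSite.Mod (O.over U)) :
    ModFlat.T ((ModSite.extZero O U).obj A) ≅
      ModSite.restr O U ⋙ (ModSite.tensorBi (O.over U)).obj A ⋙ ModSite.extZero O U :=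
  ((ModFlat.tensorSymm O).app _).symm ≪≫ (NatIso.ofComponents (fun M => ModExtZero.projIso O U A M) fun {M M'} b => by
    have h := ModExtZero.projIso_natural O U (𝟙 A) b
    simp only [CategoryTheory.Functor.map_id, NatTrans.id_app, Category.id_comp] at h
    exact h).symm

/-- The complex on the slice computing `j_!A ⊗^L E`. -/
noncomputable def sliceTensor (A : ModSite.Mod (O.over U)) (E' : CochainComplex (ModSite.Mod O) ℤ) :
    CochainComplex (ModSite.Mod (O.over U)) ℤ :=
  (((ModSite.tensorBi (O.over U)).obj A).mapHomologicalComplex _).obj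
    (((ModSite.restr O U).mapHomologicalComplex _).obj E')

/-- `j_!A ⊗ E = j_!(A ⊗ E|_U)`. -/
noncomputable def tensorExtIso (A : ModSite.Mod (O.over U)) (E' : CochainComplex (ModSite.Mod O) ℤ) :
    ((ModSite.tensorCx O).obj ((CochainComplex.singleFunctor (ModSite.Mod O) 0).obj ((ModSite.extZero O U).obj A))).obj E' ≅
      ((ModSite.extZero O U).mapHomologicalComplex _).obj (sliceTensor (O := O) A E') :=
  ModFlat.tensorCxSymm E' _ ≪≫ (ModFlat.singleIso E' _).symm ≪≫
    HomologicalComplex.Hom.isoOfComponents (fun n => (projFunIso A).app (E'.X n))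
      fun i j _ => ((projFunIso A).hom.naturality (E'.d i j)).symm

lemma isIso_smul_sliceTensor (s : _root_.DerComp.GSec (O.over U)) (A : ModSite.Mod (O.over U))
    [IsIso (_root_.DerComp.smulEnd s A)] (E' : CochainComplex (ModSite.Mod O) ℤ) :
    IsIso (s • 𝟙 (DerivedCategory.Q.obj (sliceTensor (O := O) A E'))) := by
  rw [← CategoryTheory.Functor.map_id, ← Functor.map_smul]
  have : ∀ n, IsIso ((s • 𝟙 (sliceTensor (O := O) A E')).f n) := fun n => by
    rw [HomologicalComplex.smul_f_apply, HomologicalComplex.id_f, ← smulEnd_eq_smul]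
    exact isIso_smulEnd_tensor s A _
  have : IsIso (s • 𝟙 (sliceTensor (O := O) A E')) := HomologicalComplex.Hom.isIso_of_components _
  infer_instance

/-- No maps from `(j_!A)[m] ⊗^L E` to a complete object when the scalar is invertible on `A`. -/
theorem eq_zero_of_ltensor_extZero (s : _root_.DerComp.GSec (O.over U)) (A : ModSite.Mod (O.over U))
    [IsIso (_root_.DerComp.smulEnd s A)] (E : CochainComplex (ModSite.Mod O) ℤ) [ModSite.HasLTensorCx E]
    (L : DerivedCategory (ModSite.Mod O)) (hL : SCpl s ((rD O U).obj L)) (m : ℤ)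
    (φ : (ModSite.LTensorCx E).obj (((inDF O).obj ((ModSite.extZero O U).obj A))⟦m⟧) ⟶ L) : φ = 0 := by
  obtain ⟨E', q, hE', -, hq, -⟩ := ModFlat.exists_kflat_resolution (G := E)
  let S := (CochainComplex.singleFunctor (ModSite.Mod O) 0).obj ((ModSite.extZero O U).obj A)
  obtain ⟨v⟩ := ltensor_value E E' q hE' (S⟦m⟧)
  let Z := DerivedCategory.Q.obj (sliceTensor (O := O) A E')
  let e : (ModSite.LTensorCx E).obj (((inDF O).obj ((ModSite.extZero O U).obj A))⟦m⟧) ≅ (eD O U).obj (Z⟦m⟧) :=
    (ModSite.LTensorCx E).mapIso ((DerivedCategory.Q.commShiftIso m).app S).symm ≪≫ v ≪≫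
      DerivedCategory.Q.mapIso (CochainComplex.mapBifunctorShift₁Iso S E' (ModSite.tensorBi O) m) ≪≫
      (DerivedCategory.Q.commShiftIso m).app _ ≪≫
      (CategoryTheory.shiftFunctor _ m).mapIso (DerivedCategory.Q.mapIso (tensorExtIso A E') ≪≫
        ((ModSite.extZero O U).mapDerivedCategoryFactors.app _).symm) ≪≫
      (((eD O U).commShiftIso m).app Z).symm
  rw [← cancel_epi e.inv, comp_zero]
  apply ((derAdj O U).homEquiv _ _).injective
  have := isIso_smul_sliceTensor s A E'
  have := isIso_smul_shift (X := Z) s m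
  exact (hL _ this _).trans (hL _ this _).symm

/-- Internal homs into complete objects are complete. -/
theorem isDerComp_RHom (I : _root_.DerComp.IdealSh O) (P : CochainComplex (ModSite.Mod O) ℤ)
    [ModSite.HasLTensorCx P] [_root_.DerComp.HasRHom P] (L : DerivedCategory (ModSite.Mod O))
    (hL : _root_.DerComp.IsDerComp O I L) : _root_.DerComp.IsDerComp O I ((_root_.DerComp.RHom P).obj L) := by
  intro U f hf n
  suffices h : ∀ φ : SiteCmp.inD O ((ModSite.extZero O U).obj (_root_.DerComp.awayOver O U f)) ⟶
      ((_root_.DerComp.RHom P).obj L)⟦n⟧, φ = 0 from ⟨fun a b => (h a).trans (h b).symm⟩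
  intro φ
  have := isIso_smulEnd_locAway (_root_.DerComp.GSec.ofSect O U f) (ModSite.unit (O.over U))
  apply (CategoryTheory.shiftFunctor _ (-n)).map_injective
  rw [Functor.map_zero, ← cancel_mono ((shiftFunctorCompIsoId _ n (-n) (add_neg_cancel n)).hom.app _), zero_comp]
  apply ((_root_.DerComp.RHomAdj P).homEquiv _ _).symm.injective
  have hs := (sCpl_iff_van L U f).2 ((isDerComp_iff I L).1 hL U f hf)
  exact (eq_zero_of_ltensor_extZero (_root_.DerComp.GSec.ofSect O U f) _ P L hs (-n) _).trans
    (eq_zero_of_ltensor_extZero (_root_.DerComp.GSec.ofSect O U f) _ P L hs (-n) _).symm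

end GrothLib.DerComp
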